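import Cfsg.Agent.S4Wr.Final
import Cfsg.Prelude.Def_QuasithinSetup

/-!
# The configuration of a quasithin group with a maximal 2-local `S₄ ≀ 2`
-/

set_option autoImplicit false
set_option linter.style.haveILetI false
set_option linter.unusedSectionVars false

namespace CfsgLib.S4Wr

open Subgroup
open scoped Pointwise

/-- The embedding of `S₄ × S₄` in `Perm (Fin 4 ⊕ Fin 4)`. -/
def base : P4 × P4 →* Equiv.Perm (Fin 4 ⊕ Fin 4) := Equiv.Perm.sumCongrHom (Fin 4) (Fin 4)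

/-- The interchange of the blocks. -/
def swapBlocks : Equiv.Perm (Fin 4 ⊕ Fin 4) := Equiv.sumComm (Fin 4) (Fin 4)

theorem swapBlocks_sq : swapBlocks * swapBlocks = 1 := by decide +kernel

theorem swap_base (a b : P4) : swapBlocks * base (a, b) * swapBlocks = base (b, a) := by
  refine Equiv.ext fun x => ?_
  rcases x with i | i <;> rfl

theorem mem_block_iff (σ : Equiv.Perm (Fin 4 ⊕ Fin 4)) :
    σ ∈ Cfsg.blockStabilizerS4wr2 ↔
      ({σ • Set.range (Sum.inl : Fin 4 → Fin 4 ⊕ Fin 4), σ • Set.range (Sum.inr : Fin 4 → Fin 4 ⊕ Fin 4)} :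
        Set (Set (Fin 4 ⊕ Fin 4))) =
      {Set.range (Sum.inl : Fin 4 → Fin 4 ⊕ Fin 4), Set.range (Sum.inr : Fin 4 → Fin 4 ⊕ Fin 4)} := by
  show σ • _ = _ ↔ _
  rw [Set.smul_set_insert, Set.smul_set_singleton]

theorem base_mem (p : P4 × P4) : base p ∈ Cfsg.blockStabilizerS4wr2 := by
  rw [mem_block_iff]
  have h1 : base p • Set.range (Sum.inl : Fin 4 → Fin 4 ⊕ Fin 4) = Set.range Sum.inl := by
    show (fun x => base p x) '' Set.range Sum.inl = Set.range Sum.inl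
    ext x
    constructor
    · rintro ⟨_, ⟨i, rfl⟩, rfl⟩; exact ⟨p.1 i, rfl⟩
    · rintro ⟨i, rfl⟩; exact ⟨_, ⟨p.1.symm i, rfl⟩, congrArg Sum.inl (p.1.apply_symm_apply i)⟩
  have h2 : base p • Set.range (Sum.inr : Fin 4 → Fin 4 ⊕ Fin 4) = Set.range Sum.inr := by
    show (fun x => base p x) '' Set.range Sum.inr = Set.range Sum.inr
    ext x
    constructor
    · rintro ⟨_, ⟨i, rfl⟩, rfl⟩; exact ⟨p.2 i, rfl⟩
    · rintro ⟨i, rfl⟩; exact ⟨_, ⟨p.2.symm i, rfl⟩, congrArg Sum.inr (p.2.apply_symm_apply i)⟩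
  rw [h1, h2]

theorem swapBlocks_mem : swapBlocks ∈ Cfsg.blockStabilizerS4wr2 := by
  rw [mem_block_iff]
  have h1 : swapBlocks • Set.range (Sum.inl : Fin 4 → Fin 4 ⊕ Fin 4) = Set.range Sum.inr := by
    show (fun x => swapBlocks x) '' Set.range Sum.inl = Set.range Sum.inr
    ext x
    constructor
    · rintro ⟨_, ⟨i, rfl⟩, rfl⟩; exact ⟨i, rfl⟩
    · rintro ⟨i, rfl⟩; exact ⟨_, ⟨i, rfl⟩, rfl⟩
  have h2 : swapBlocks • Set.range (Sum.inr : Fin 4 → Fin 4 ⊕ Fin 4) = Set.range Sum.inl := by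
    show (fun x => swapBlocks x) '' Set.range Sum.inr = Set.range Sum.inl
    ext x
    constructor
    · rintro ⟨_, ⟨i, rfl⟩, rfl⟩; exact ⟨i, rfl⟩
    · rintro ⟨i, rfl⟩; exact ⟨_, ⟨i, rfl⟩, rfl⟩
  rw [h1, h2, Set.pair_comm]

theorem base_or_swap {σ : Equiv.Perm (Fin 4 ⊕ Fin 4)} (hσ : σ ∈ Cfsg.blockStabilizerS4wr2) :
    ∃ a b : P4, σ = base (a, b) ∨ σ = base (a, b) * swapBlocks := by
  have h := (mem_block_iff σ).1 hσ
  have hL : σ • Set.range (Sum.inl : Fin 4 → Fin 4 ⊕ Fin 4) = Set.range Sum.inl ∨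
      σ • Set.range (Sum.inl : Fin 4 → Fin 4 ⊕ Fin 4) = Set.range Sum.inr := by
    have hm : σ • Set.range (Sum.inl : Fin 4 → Fin 4 ⊕ Fin 4) ∈
        ({Set.range (Sum.inl : Fin 4 → Fin 4 ⊕ Fin 4), Set.range (Sum.inr : Fin 4 → Fin 4 ⊕ Fin 4)} :
          Set (Set (Fin 4 ⊕ Fin 4))) := h ▸ Set.mem_insert _ _
    simpa using hm
  rcases hL with hL | hL
  · obtain ⟨⟨a, b⟩, e⟩ := Equiv.Perm.mem_sumCongrHom_range_of_perm_mapsTo_inl (σ := σ)
      (fun x hx => hL ▸ Set.smul_mem_smul_set hx)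
    exact ⟨a, b, Or.inl e.symm⟩
  · obtain ⟨⟨a, b⟩, e⟩ := Equiv.Perm.mem_sumCongrHom_range_of_perm_mapsTo_inl
      (σ := swapBlocks * σ) (fun x hx => by
        obtain ⟨i, hi⟩ : σ x ∈ Set.range (Sum.inr : Fin 4 → Fin 4 ⊕ Fin 4) := hL ▸ Set.smul_mem_smul_set hx
        exact ⟨i, by rw [Equiv.Perm.mul_apply, ← hi]; rfl⟩)
    refine ⟨b, a, Or.inr ?_⟩
    rw [← swap_base a b, show base (a, b) = swapBlocks * σ from e]
    calc σ = (swapBlocks * swapBlocks) * σ * (swapBlocks * swapBlocks) := by rw [swapBlocks_sq]; group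
      _ = _ := by group

theorem swapBlocks_not (a b : P4) : base (a, b) ≠ swapBlocks := fun h => by
  have := congrArg (fun σ : Equiv.Perm (Fin 4 ⊕ Fin 4) => σ (Sum.inl 0)) h
  exact Sum.inl_ne_inr this

/-- **No quasithin group has a maximal 2-local subgroup `S₄ ≀ 2` of odd index.** -/
theorem false_of_maximal {G : Type*} [Group G] [Finite G] [IsSimpleGroup G]
    (hG : ¬ IsMulCommutative G) (hqt : Cfsg.IsQuasithin G) (heven : Cfsg.IsOfEvenCharacteristic G)
    (T : Sylow 2 G) (M : Subgroup G) (hM : M ∈ Cfsg.maxTwoLocalsContaining (T : Subgroup G))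
    (e : ↥M ≃* ↥Cfsg.blockStabilizerS4wr2) : False := by
  classical
  haveI : Fact (Nat.Prime 2) := ⟨Nat.prime_two⟩
  let ι : P4 × P4 →* G :=
    M.subtype.comp (e.symm.toMonoidHom.comp (base.codRestrict Cfsg.blockStabilizerS4wr2 base_mem))
  have hinj : Function.Injective ι := fun p q h => by
    have h1 := e.symm.injective (Subtype.val_injective h)
    exact Equiv.Perm.sumCongrHom_injective (congrArg Subtype.val h1)
  let w : G := ((e.symm ⟨swapBlocks, swapBlocks_mem⟩ : M) : G)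
  have hw2 : w * w = 1 := by
    show ((e.symm ⟨swapBlocks, swapBlocks_mem⟩ * e.symm ⟨swapBlocks, swapBlocks_mem⟩ : M) : G) = 1
    rw [← map_mul, show (⟨swapBlocks, swapBlocks_mem⟩ * ⟨swapBlocks, swapBlocks_mem⟩ :
      Cfsg.blockStabilizerS4wr2) = 1 from Subtype.ext swapBlocks_sq, map_one]
    rfl
  have hwswap : ∀ a b : P4, w * ι (a, b) * w = ι (b, a) := fun a b => by
    show ((e.symm ⟨swapBlocks, swapBlocks_mem⟩ * e.symm ⟨base (a, b), base_mem _⟩ *
      e.symm ⟨swapBlocks, swapBlocks_mem⟩ : M) : G) = ((e.symm ⟨base (b, a), base_mem _⟩ : M) : G)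
    rw [← map_mul, ← map_mul]
    exact congrArg (fun x => ((e.symm x : M) : G)) (Subtype.ext (swap_base a b))
  have hmemM : ∀ g : G, g ∈ M ↔ ∃ a b : P4, g = ι (a, b) ∨ g = ι (a, b) * w := by
    intro g
    constructor
    · intro hg
      obtain ⟨a, b, h | h⟩ := base_or_swap (e ⟨g, hg⟩).2
      · refine ⟨a, b, Or.inl ?_⟩
        show g = ((e.symm ⟨base (a, b), base_mem _⟩ : M) : G)
        rw [show (⟨base (a, b), base_mem _⟩ : Cfsg.blockStabilizerS4wr2) = e ⟨g, hg⟩ from Subtype.ext h.symm,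
          e.symm_apply_apply]
      · refine ⟨a, b, Or.inr ?_⟩
        show g = ((e.symm ⟨base (a, b), base_mem _⟩ * e.symm ⟨swapBlocks, swapBlocks_mem⟩ : M) : G)
        rw [← map_mul, show (⟨base (a, b), base_mem _⟩ * ⟨swapBlocks, swapBlocks_mem⟩ :
          Cfsg.blockStabilizerS4wr2) = e ⟨g, hg⟩ from Subtype.ext h.symm, e.symm_apply_apply]
    · rintro ⟨a, b, rfl | rfl⟩
      · exact (e.symm _).2
      · exact mul_mem (e.symm _).2 (e.symm _).2
  have hwnot : w ∉ ι.range := by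
    rintro ⟨⟨a, b⟩, h⟩
    exact swapBlocks_not a b (congrArg Subtype.val (e.symm.injective (Subtype.val_injective h)))
  have wι : ∀ a b : P4, w * ι (a, b) = ι (b, a) * w := fun a b => by
    calc w * ι (a, b) = w * ι (a, b) * (w * w) := by rw [hw2, mul_one]
      _ = ι (b, a) * w := by rw [← mul_assoc, hwswap]
  -- the standard Sylow subgroup
  let T' : Subgroup G :=
    { carrier := {g | ∃ a b : P4, InD a ∧ InD b ∧ (g = ι (a, b) ∨ g = ι (a, b) * w)}
      one_mem' := ⟨1, 1, inD_one, inD_one, Or.inl (map_one ι).symm⟩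
      mul_mem' := by
        rintro _ _ ⟨a, b, ha, hb, rfl | rfl⟩ ⟨p, q, hp, hq, rfl | rfl⟩
        · exact ⟨_, _, inD_mul ha hp, inD_mul hb hq, Or.inl (map_mul ι (a, b) (p, q)).symm⟩
        · exact ⟨_, _, inD_mul ha hp, inD_mul hb hq, Or.inr (by rw [← mul_assoc, ← map_mul]; rfl)⟩
        · exact ⟨_, _, inD_mul ha hq, inD_mul hb hp,
            Or.inr (by rw [mul_assoc, wι, ← mul_assoc, ← map_mul]; rfl)⟩
        · refine ⟨_, _, inD_mul ha hq, inD_mul hb hp, Or.inl (?_ : _ = ι (a * q, b * p))⟩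
          rw [show ι (a * q, b * p) = ι (a, b) * ι (q, p) from map_mul ι (a, b) (q, p), mul_assoc,
            ← mul_assoc w, wι, mul_assoc _ w, hw2, mul_one]
      inv_mem' := by
        rintro _ ⟨a, b, ha, hb, rfl | rfl⟩
        · exact ⟨_, _, inD_inv ha, inD_inv hb, Or.inl (map_inv ι (a, b)).symm⟩
        · exact ⟨b⁻¹, a⁻¹, inD_inv hb, inD_inv ha, Or.inr (by
            rw [mul_inv_rev, inv_eq_of_mul_eq_one_left hw2, ← map_inv]; exact wι _ _)⟩ }
  have hT'card : Nat.card T' = 2 ^ 7 := by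
    let f : {a : P4 // a ∈ dList} × {a : P4 // a ∈ dList} × Bool → T' := fun p =>
      ⟨if p.2.2 then ι (p.1, p.2.1) * w else ι (p.1, p.2.1), p.1, p.2.1, (inD_iff _).2 p.1.2,
        (inD_iff _).2 p.2.1.2, by cases p.2.2 <;> simp⟩
    rw [← Nat.card_eq_of_bijective f ⟨?_, ?_⟩, Nat.card_eq_fintype_card]
    · decide +kernel
    · rintro ⟨a, b, s⟩ ⟨a', b', s'⟩ h
      have h := congrArg Subtype.val h
      cases s <;> cases s' <;> simp only [f, if_true, if_false, Bool.false_eq_true] at h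
      · obtain ⟨h1, h2⟩ := Prod.ext_iff.1 (hinj h)
        exact Prod.ext (Subtype.ext h1) (Prod.ext (Subtype.ext h2) rfl)
      · exact absurd ⟨((a'.1, b'.1)⁻¹ * (a.1, b.1)), by rw [map_mul, map_inv, h]; group⟩ hwnot
      · exact absurd ⟨((a.1, b.1)⁻¹ * (a'.1, b'.1)), by rw [map_mul, map_inv, ← h]; group⟩ hwnot
      · obtain ⟨h1, h2⟩ := Prod.ext_iff.1 (hinj (mul_right_cancel h))
        exact Prod.ext (Subtype.ext h1) (Prod.ext (Subtype.ext h2) rfl)
    · rintro ⟨g, a, b, ha, hb, h | h⟩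
      · exact ⟨⟨⟨a, (inD_iff a).1 ha⟩, ⟨b, (inD_iff b).1 hb⟩, false⟩, Subtype.ext (by simp [f, h])⟩
      · exact ⟨⟨⟨a, (inD_iff a).1 ha⟩, ⟨b, (inD_iff b).1 hb⟩, true⟩, Subtype.ext (by simp [f, h])⟩
  obtain ⟨P, hP⟩ := (IsPGroup.of_card hT'card).exists_le_sylow
  have hTcard : Nat.card (T : Subgroup G) ≤ 2 ^ 7 := by
    obtain ⟨n, hn⟩ := IsPGroup.iff_card.1 T.isPGroup'
    have hMcard : Nat.card M = 1152 := by
      let f : P4 × P4 × Bool → M := fun p =>
        ⟨if p.2.2 then ι (p.1, p.2.1) * w else ι (p.1, p.2.1), (hmemM _).2 ⟨p.1, p.2.1, by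
          cases p.2.2 <;> simp⟩⟩
      rw [← Nat.card_eq_of_bijective f ⟨?_, ?_⟩, Nat.card_prod, Nat.card_prod, Nat.card_perm,
        Nat.card_fin, Nat.card_eq_fintype_card (α := Bool), Fintype.card_bool]
      · decide +kernel
      · rintro ⟨a, b, s⟩ ⟨a', b', s'⟩ h
        have h := congrArg Subtype.val h
        cases s <;> cases s' <;> simp only [f, if_true, if_false, Bool.false_eq_true] at h
        · obtain ⟨h1, h2⟩ := Prod.ext_iff.1 (hinj h)
          exact Prod.ext h1 (Prod.ext h2 rfl)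
        · exact absurd ⟨((a', b')⁻¹ * (a, b)), by rw [map_mul, map_inv, h]; group⟩ hwnot
        · exact absurd ⟨((a, b)⁻¹ * (a', b')), by rw [map_mul, map_inv, ← h]; group⟩ hwnot
        · obtain ⟨h1, h2⟩ := Prod.ext_iff.1 (hinj (mul_right_cancel h))
          exact Prod.ext h1 (Prod.ext h2 rfl)
      · rintro ⟨g, hg⟩
        obtain ⟨a, b, h | h⟩ := (hmemM g).1 hg
        · exact ⟨⟨a, b, false⟩, Subtype.ext (by simp [f, h])⟩
        · exact ⟨⟨a, b, true⟩, Subtype.ext (by simp [f, h])⟩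
    have hd := Subgroup.card_dvd_of_le hM.2
    rw [hn, hMcard] at hd
    rw [hn]
    refine Nat.pow_le_pow_right two_pos ?_
    by_contra hlt
    have h256 : 2 ^ 8 ∣ 1152 := (pow_dvd_pow 2 (by omega : 8 ≤ n)).trans hd
    norm_num at h256
  have hPT : (P : Subgroup G) = T' := by
    refine (Subgroup.eq_of_le_of_card_ge hP ?_).symm
    rw [hT'card]
    refine le_of_eq_of_le ?_ hTcard
    rw [Sylow.card_eq_multiplicity, Sylow.card_eq_multiplicity]
  have hmemT : ∀ g : G, g ∈ (P : Subgroup G) ↔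
      ∃ a b : P4, InD a ∧ InD b ∧ (g = ι (a, b) ∨ g = ι (a, b) * w) := fun g => by
    rw [hPT]; rfl
  -- `A` and its normalizer
  have hwsym : ∀ a b : P4, w * ι (a, b) * w⁻¹ = ι (b, a) := fun a b => by
    rw [inv_eq_of_mul_eq_one_left hw2]; exact hwswap a b
  let A : Subgroup G :=
    { carrier := {g | ∃ a b : P4, InV a ∧ InV b ∧ g = ι (a, b)}
      one_mem' := ⟨1, 1, Or.inl rfl, Or.inl rfl, (map_one ι).symm⟩
      mul_mem' := by
        rintro _ _ ⟨a, b, ha, hb, rfl⟩ ⟨p, q, hp, hq, rfl⟩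
        exact ⟨_, _, inV_mul ha hp, inV_mul hb hq, (map_mul ι (a, b) (p, q)).symm⟩
      inv_mem' := by
        rintro _ ⟨a, b, ha, hb, rfl⟩
        exact ⟨a, b, ha, hb, by
          rw [← map_inv, Prod.inv_mk, inv_eq_of_mul_eq_one_left (inV_sq ha),
            inv_eq_of_mul_eq_one_left (inV_sq hb)]⟩ }
  have hA2 : IsPGroup 2 A := by
    rintro ⟨g, a, b, ha, hb, rfl⟩
    refine ⟨1, Subtype.ext ?_⟩
    show ι (a, b) ^ 2 ^ 1 = 1
    rw [pow_one, sq, ← map_mul, Prod.mk_mul_mk, inV_sq ha, inV_sq hb]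
    exact map_one ι
  have hA1 : A ≠ ⊥ := fun h => by
    have : ι (cz, 1) ∈ A := ⟨cz, 1, Or.inr (Or.inl rfl), Or.inl rfl, rfl⟩
    rw [h, mem_bot, map_eq_one_iff _ hinj, Prod.mk_eq_one] at this
    exact cz_ne this.1
  have hMA : M ≤ normalizer (A : Set G) := by
    have hstep : ∀ m ∈ M, ∀ x ∈ A, m * x * m⁻¹ ∈ A := by
      rintro m hm _ ⟨a, b, ha, hb, rfl⟩
      obtain ⟨p, q, rfl | rfl⟩ := (hmemM m).1 hm
      · exact ⟨_, _, ha.conj p, hb.conj q, by rw [← map_inv, ← map_mul, ← map_mul]; rfl⟩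
      · refine ⟨_, _, hb.conj p, ha.conj q, ?_⟩
        rw [show ι (p, q) * w * ι (a, b) * (ι (p, q) * w)⁻¹ = ι (p, q) * (w * ι (a, b) * w⁻¹) * (ι (p, q))⁻¹ by
          group, hwsym, ← map_inv, ← map_mul, ← map_mul]
        rfl
    intro m hm
    rw [mem_normalizer_iff]
    exact fun x => ⟨hstep m hm x, fun h => by
      have := hstep m⁻¹ (inv_mem hm) _ h
      rwa [show m⁻¹ * (m * x * m⁻¹) * m⁻¹⁻¹ = x by group] at this⟩
  have hNA : normalizer (A : Set G) = M := hM.1.2 _ ⟨A, hA2, hA1, rfl⟩ hMA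
  have hnormA : ∀ g : G, (∀ a b : P4, InV a → InV b → ∃ a' b' : P4, InV a' ∧ InV b' ∧
      g * ι (a, b) * g⁻¹ = ι (a', b')) → ∃ a b : P4, g = ι (a, b) ∨ g = ι (a, b) * w := by
    intro g hg
    rw [← hmemM, ← hNA, mem_normalizer_iff_map_conj_eq]
    refine Subgroup.eq_of_le_of_card_ge ?_ (le_of_eq
      (Nat.card_congr (A.equivMapOfInjective _ (MulAut.conj g).injective).toEquiv))
    rintro _ ⟨x, ⟨a, b, ha, hb, rfl⟩, rfl⟩
    exact hg a b ha hb
  -- the constrained centralizer of `z`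
  set zz := ι (cz, cz) with hzz
  have hzne : zz ≠ 1 := fun h => cz_ne ((Prod.mk_eq_one.1 ((map_eq_one_iff _ hinj).1 h)).1)
  have hz2 : zz * zz = 1 := by rw [hzz, ← map_mul, Prod.mk_mul_mk, cz_sq]; exact map_one ι
  have hCN : normalizer (zpowers zz : Set G) = centralizer ({zz} : Set G) := by
    ext g
    rw [mem_normalizer_iff, mem_centralizer_singleton_iff]
    constructor
    · intro h
      obtain ⟨i, hi⟩ := mem_zpowers_iff.1 ((h zz).1 (mem_zpowers zz))
      rcases Int.even_or_odd i with ⟨j, rfl⟩ | ⟨j, rfl⟩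
      · rw [← two_mul, zpow_mul, show zz ^ (2 : ℤ) = 1 by rw [zpow_two, hz2], one_zpow] at hi
        exact absurd (conj_eq_one_iff.1 hi.symm) hzne
      · rw [zpow_add, zpow_mul, show zz ^ (2 : ℤ) = 1 by rw [zpow_two, hz2], one_zpow, one_mul, zpow_one] at hi
        exact mul_inv_eq_iff_eq_mul.1 hi.symm
    · intro h x
      constructor
      · rintro ⟨i, rfl⟩
        refine ⟨i, ?_⟩
        show zz ^ i = g * zz ^ i * g⁻¹
        rw [(Commute.zpow_right h i).eq, mul_inv_cancel_right]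
      · rintro ⟨i, hi⟩
        refine ⟨i, ?_⟩
        show zz ^ i = x
        calc zz ^ i = g⁻¹ * (g * zz ^ i) := by group
          _ = g⁻¹ * (zz ^ i * g) := by rw [(Commute.zpow_right h i).eq]
          _ = x := by rw [show zz ^ i = g * x * g⁻¹ from hi]; group
  set C := centralizer ({zz} : Set G) with hC
  have hPC : (P : Subgroup G) ≤ C := fun g hg => by
    rw [mem_centralizer_singleton_iff]
    obtain ⟨a, b, ha, hb, rfl | rfl⟩ := (hmemT g).1 hg
    · rw [hzz, ← map_mul, ← map_mul, Prod.mk_mul_mk, Prod.mk_mul_mk, ha, hb]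
    · rw [hzz, mul_assoc, wι, ← mul_assoc, ← mul_assoc, ← map_mul, ← map_mul, Prod.mk_mul_mk,
        Prod.mk_mul_mk, ha, hb]
  have hchar : Cfsg.IsOfCharacteristicTwo C := by
    refine heven C ⟨zpowers zz, IsPGroup.of_card (n := 1) (by
      rw [Nat.card_zpowers, orderOf_eq_prime (p := 2) (by rw [sq, hz2]) hzne, pow_one]), ?_, hCN.symm⟩ ⟨P, hPC⟩
    rw [ne_eq, zpowers_eq_bot]
    exact hzne
  let c : Cfg G :=
    { ι := ι, inj := hinj, w := w, w2 := hw2, w_not := hwnot, wswap := hwswap, T := P, memT := hmemT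
      normA := hnormA
      Q := (Cfsg.pCore 2 C).map C.subtype
      Q_le := by
        rintro _ ⟨q, hq, rfl⟩
        exact mem_subgroupOf.1 ((CfsgLib.PLocal.pCore_le_sylow (P.subtype hPC)) hq)
      Q_norm := by
        rintro g hg _ ⟨q, hq, rfl⟩
        have hn : (Cfsg.pCore 2 C).Normal := inferInstance
        exact ⟨⟨g, mem_centralizer_singleton_iff.2 hg⟩ * q * ⟨g, mem_centralizer_singleton_iff.2 hg⟩⁻¹,
          hn.conj_mem q hq _, rfl⟩
      Q_cent := by
        intro g hg h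
        refine ⟨⟨g, mem_centralizer_singleton_iff.2 hg⟩, hchar ?_, rfl⟩
        rw [mem_centralizer_iff]
        exact fun q hq => Subtype.ext (h q ⟨q, hq, rfl⟩).symm }
  refine c.false_of_cfg (fun H hH => ?_) fun E hEV hEc hE3 => ?_
  · -- no subgroup of index two
    haveI := Subgroup.normal_of_index_eq_two hH
    rcases IsSimpleGroup.eq_bot_or_eq_top_of_normal H ‹_› with h | h
    · rw [h, index_bot] at hH
      haveI : IsCyclic G := isCyclic_of_prime_card hH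
      exact hG ⟨⟨fun a b => (IsCyclic.commGroup (α := G)).mul_comm a b⟩⟩
    · rw [h, index_top] at hH; omega
  · -- quasithin
    let V : Subgroup G :=
      { carrier := {g | ∃ a : P4, InV a ∧ g = ι (a, 1)}
        one_mem' := ⟨1, Or.inl rfl, (map_one ι).symm⟩
        mul_mem' := by
          rintro _ _ ⟨a, ha, rfl⟩ ⟨p, hp, rfl⟩
          exact ⟨_, inV_mul ha hp, by rw [← map_mul, Prod.mk_mul_mk, mul_one]⟩
        inv_mem' := by
          rintro _ ⟨a, ha, rfl⟩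
          exact ⟨a, ha, by
            rw [← map_inv, Prod.inv_mk, inv_eq_of_mul_eq_one_left (inV_sq ha), inv_one]⟩ }
    have hV2 : IsPGroup 2 V := hA2.to_le (by
      rintro _ ⟨a, ha, rfl⟩; exact ⟨a, 1, ha, Or.inl rfl, rfl⟩)
    have hV1 : V ≠ ⊥ := fun h => by
      have : ι (cz, 1) ∈ V := ⟨cz, Or.inr (Or.inl rfl), rfl⟩
      rw [h, mem_bot, map_eq_one_iff _ hinj, Prod.mk_eq_one] at this
      exact cz_ne this.1
    have hEN : E ≤ normalizer (V : Set G) := fun g hg => by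
      rw [mem_normalizer_iff_map_conj_eq]
      refine Subgroup.eq_of_le_of_card_ge ?_ (le_of_eq
        (Nat.card_congr (V.equivMapOfInjective _ (MulAut.conj g).injective).toEquiv))
      rintro _ ⟨x, ⟨a, ha, rfl⟩, rfl⟩
      exact hEV g hg a ha
    have h := hqt 3 Nat.prime_three (by norm_num) _ ⟨V, hV2, hV1, rfl⟩ (E.subgroupOf _)
      ⟨⟨fun a b => Subtype.ext (Subtype.ext (hEc _ (mem_subgroupOf.1 a.2) _ (mem_subgroupOf.1 b.2)))⟩⟩
      (fun a ha => Subtype.ext (by rw [Subgroup.coe_pow, Subgroup.coe_one]; exact hE3 _ (mem_subgroupOf.1 ha)))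
    rwa [Nat.card_congr (subgroupOfEquivOfLe hEN).toEquiv] at h

end CfsgLib.S4Wr
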