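import Cfsg.Agent.S4Wr.Perm
import Cfsg.Agent.PLocal.Cores
import Mathlib.GroupTheory.Transfer
import Mathlib.GroupTheory.Sylow

/-!
# A group with a self-normalising `S₄ ≀ 2`

`Cfg G`: an embedding of `S₄ × S₄` in `G` extended by an involution `w` interchanging the factors,
such that the normalizer of `A = V × V'` is the wreath product, the natural group `T` of order 128
is a Sylow 2-subgroup and the centralizer of the central involution of `T` is 2-constrained.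
-/

set_option autoImplicit false
set_option linter.style.haveILetI false

namespace CfsgLib.S4Wr

open Subgroup

variable {G : Type*} [Group G]

/-- The configuration. -/
structure Cfg (G : Type*) [Group G] where
  ι : P4 × P4 →* G
  inj : Function.Injective ι
  w : G
  w2 : w * w = 1
  w_not : w ∉ ι.range
  wswap : ∀ a b : P4, w * ι (a, b) * w = ι (b, a)
  T : Sylow 2 G
  memT : ∀ g : G, g ∈ (T : Subgroup G) ↔
    ∃ a b : P4, InD a ∧ InD b ∧ (g = ι (a, b) ∨ g = ι (a, b) * w)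
  normA : ∀ g : G, (∀ a b : P4, InV a → InV b → ∃ a' b' : P4, InV a' ∧ InV b' ∧
    g * ι (a, b) * g⁻¹ = ι (a', b')) → ∃ a b : P4, g = ι (a, b) ∨ g = ι (a, b) * w
  Q : Subgroup G
  Q_le : Q ≤ (T : Subgroup G)
  Q_norm : ∀ g : G, g * ι (cz, cz) = ι (cz, cz) * g → ∀ q ∈ Q, g * q * g⁻¹ ∈ Q
  Q_cent : ∀ g : G, g * ι (cz, cz) = ι (cz, cz) * g → (∀ q ∈ Q, g * q = q * g) → g ∈ Q

namespace Cfg

variable (c : Cfg G)

/-- The element `(a, b)` of the base. -/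
abbrev e (a b : P4) : G := c.ι (a, b)

/-- The first noncentral involution `(cz, 1)`. -/
abbrev z₁ : G := c.e cz 1

/-- The second one, `(1, cz)`. -/
abbrev z₂ : G := c.e 1 cz

/-- The central involution of `T`. -/
abbrev z : G := c.e cz cz

theorem e_mul (a b a' b' : P4) : c.e a b * c.e a' b' = c.e (a * a') (b * b') :=
  (map_mul c.ι (a, b) (a', b')).symm

theorem e_one : c.e 1 1 = 1 := map_one c.ι

theorem e_inv (a b : P4) : (c.e a b)⁻¹ = c.e a⁻¹ b⁻¹ := (map_inv c.ι (a, b)).symm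

theorem e_eq_iff {a b a' b' : P4} : c.e a b = c.e a' b' ↔ a = a' ∧ b = b' := by
  rw [e, e, c.inj.eq_iff, Prod.mk.injEq]

theorem e_eq_one {a b : P4} : c.e a b = 1 ↔ a = 1 ∧ b = 1 := by
  rw [← c.e_one, c.e_eq_iff]

theorem e_conj (a b a' b' : P4) :
    c.e a b * c.e a' b' * (c.e a b)⁻¹ = c.e (a * a' * a⁻¹) (b * b' * b⁻¹) := by
  rw [e_inv, e_mul, e_mul]

theorem e_comm_iff {a b a' b' : P4} :
    c.e a b * c.e a' b' = c.e a' b' * c.e a b ↔ a * a' = a' * a ∧ b * b' = b' * b := by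
  rw [e_mul, e_mul, e_eq_iff]

theorem w_inv : c.w⁻¹ = c.w := inv_eq_of_mul_eq_one_left c.w2

theorem w_ne_e (a b : P4) : c.w ≠ c.e a b := fun h => c.w_not ⟨(a, b), h.symm⟩

theorem e_w_ne_e (a b a' b' : P4) : c.e a b * c.w ≠ c.e a' b' := fun h => c.w_not
  ⟨(a⁻¹ * a', b⁻¹ * b'), by
    show c.e _ _ = c.w
    rw [← c.e_mul, ← h, ← c.e_inv, inv_mul_cancel_left]⟩

theorem w_e (a b : P4) : c.w * c.e a b = c.e b a * c.w := by
  have h := c.wswap a b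
  calc c.w * c.e a b = c.w * c.e a b * (c.w * c.w) := by rw [c.w2, mul_one]
    _ = c.w * c.e a b * c.w * c.w := by group
    _ = c.e b a * c.w := by rw [h]

theorem w_conj (a b : P4) : c.w * c.e a b * c.w⁻¹ = c.e b a := by
  rw [c.w_inv]; exact c.wswap a b

theorem ew_conj (a b a' b' : P4) :
    c.e a b * c.w * c.e a' b' * (c.e a b * c.w)⁻¹ = c.e (a * b' * a⁻¹) (b * a' * b⁻¹) := by
  rw [mul_assoc (c.e a b) c.w, c.w_e, mul_inv_rev]
  calc c.e a b * (c.e b' a' * c.w) * (c.w⁻¹ * (c.e a b)⁻¹)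
      = c.e a b * c.e b' a' * (c.e a b)⁻¹ := by group
    _ = _ := c.e_conj a b b' a'

theorem e_mem {a b : P4} (ha : InD a) (hb : InD b) : c.e a b ∈ (c.T : Subgroup G) :=
  (c.memT _).2 ⟨a, b, ha, hb, Or.inl rfl⟩

theorem w_mem : c.w ∈ (c.T : Subgroup G) :=
  (c.memT _).2 ⟨1, 1, inD_one, inD_one, Or.inr (by rw [show c.ι (1, 1) = 1 from c.e_one, one_mul])⟩

theorem comm_z_of_mem {g : G} (hg : g ∈ (c.T : Subgroup G)) : g * c.z = c.z * g := by
  obtain ⟨a, b, ha, hb, rfl | rfl⟩ := (c.memT g).1 hg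
  · exact c.e_comm_iff.2 ⟨ha, hb⟩
  · rw [mul_assoc, c.w_e cz cz, ← mul_assoc, ← mul_assoc, c.e_comm_iff.2 ⟨ha, hb⟩]

theorem z₁_mul_z₂ : c.z₁ * c.z₂ = c.z := by rw [c.e_mul, mul_one, one_mul]

theorem z_mul_z₁ : c.z * c.z₁ = c.z₂ := by rw [c.e_mul, cz_sq, mul_one]

theorem z_mul_z₂ : c.z * c.z₂ = c.z₁ := by rw [c.e_mul, cz_sq, mul_one]

theorem z_sq : c.z * c.z = 1 := by rw [c.e_mul, cz_sq, c.e_one]

theorem z₁_sq : c.z₁ * c.z₁ = 1 := by rw [c.e_mul, cz_sq, mul_one, c.e_one]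

theorem z_ne : c.z ≠ 1 := fun h => cz_ne (c.e_eq_one.1 h).1

theorem z₁_ne : c.z₁ ≠ 1 := fun h => cz_ne (c.e_eq_one.1 h).1

/-- The mirror configuration. -/
def symm : Cfg G where
  ι := c.ι.comp (MulEquiv.prodComm : P4 × P4 ≃* P4 × P4).toMonoidHom
  inj := fun x y h => (MulEquiv.prodComm : P4 × P4 ≃* P4 × P4).injective (c.inj h)
  w := c.w
  w2 := c.w2
  w_not := by
    rintro ⟨⟨a, b⟩, h⟩
    exact c.w_not ⟨(b, a), h⟩
  wswap := fun a b => c.wswap b a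
  T := c.T
  memT := fun g => by
    rw [c.memT]
    constructor
    · rintro ⟨a, b, ha, hb, h⟩; exact ⟨b, a, hb, ha, h⟩
    · rintro ⟨a, b, ha, hb, h⟩; exact ⟨b, a, hb, ha, h⟩
  normA := fun g h => by
    obtain ⟨a, b, hab⟩ := c.normA g fun a b ha hb => by
      obtain ⟨a', b', ha', hb', e⟩ := h b a hb ha
      exact ⟨b', a', hb', ha', e⟩
    exact ⟨b, a, hab⟩
  Q := c.Q
  Q_le := c.Q_le
  Q_norm := c.Q_norm
  Q_cent := c.Q_cent

theorem symm_e (a b : P4) : c.symm.e a b = c.e b a := rfl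

theorem symm_w : c.symm.w = c.w := rfl

/-- The base `J = D × D'` of `T`. -/
def InJ (g : G) : Prop := ∃ a b : P4, InD a ∧ InD b ∧ g = c.e a b

theorem InJ.mem {g : G} (h : c.InJ g) : g ∈ (c.T : Subgroup G) := by
  obtain ⟨a, b, ha, hb, rfl⟩ := h
  exact c.e_mem ha hb

/-- The base as a subgroup. -/
def J : Subgroup G where
  carrier := {g | c.InJ g}
  one_mem' := ⟨1, 1, inD_one, inD_one, c.e_one.symm⟩
  mul_mem' := by
    rintro _ _ ⟨a, b, ha, hb, rfl⟩ ⟨a', b', ha', hb', rfl⟩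
    exact ⟨_, _, inD_mul ha ha', inD_mul hb hb', c.e_mul a b a' b'⟩
  inv_mem' := by
    rintro _ ⟨a, b, ha, hb, rfl⟩
    exact ⟨_, _, inD_inv ha, inD_inv hb, c.e_inv a b⟩

theorem mem_J {g : G} : g ∈ c.J ↔ c.InJ g := Iff.rfl

theorem e_mem_J {a b : P4} (ha : InD a) (hb : InD b) : c.e a b ∈ c.J := ⟨a, b, ha, hb, rfl⟩

theorem J_le : c.J ≤ (c.T : Subgroup G) := fun _ h => InJ.mem c h

theorem symm_J : c.symm.J = c.J := by
  ext g
  constructor
  · rintro ⟨a, b, ha, hb, rfl⟩; exact ⟨b, a, hb, ha, rfl⟩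
  · rintro ⟨a, b, ha, hb, rfl⟩; exact ⟨b, a, hb, ha, rfl⟩

theorem conj_mem_J {t g : G} (ht : t ∈ (c.T : Subgroup G)) (hg : g ∈ c.J) :
    t * g * t⁻¹ ∈ c.J := by
  obtain ⟨a', b', ha', hb', rfl⟩ := hg
  obtain ⟨a, b, ha, hb, rfl | rfl⟩ := (c.memT t).1 ht
  · rw [show c.ι (a, b) = c.e a b from rfl, c.e_conj]
    exact c.e_mem_J (inD_mul (inD_mul ha ha') (inD_inv ha)) (inD_mul (inD_mul hb hb') (inD_inv hb))
  · rw [show c.ι (a, b) = c.e a b from rfl, c.ew_conj]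
    exact c.e_mem_J (inD_mul (inD_mul ha hb') (inD_inv ha)) (inD_mul (inD_mul hb ha') (inD_inv hb))

theorem mem_J_of_comm {t : G} (ht : t ∈ (c.T : Subgroup G)) (h : t * c.z₁ = c.z₁ * t) :
    t ∈ c.J := by
  obtain ⟨a, b, ha, hb, rfl | rfl⟩ := (c.memT t).1 ht
  · exact c.e_mem_J ha hb
  · exfalso
    have h1 := c.ew_conj a b cz 1
    rw [mul_inv_eq_iff_eq_mul.2 h, c.e_eq_iff] at h1
    exact cz_ne (by simpa using h1.1)

/-- Whoever centralises `V × V'` lies in it. -/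
theorem mem_of_comm_A {g : G} (h : ∀ a b : P4, InV a → InV b → g * c.e a b = c.e a b * g) :
    ∃ a b : P4, InV a ∧ InV b ∧ g = c.e a b := by
  obtain ⟨a, b, rfl | rfl⟩ := c.normA g fun a b ha hb =>
    ⟨a, b, ha, hb, mul_inv_eq_iff_eq_mul.2 (h a b ha hb)⟩
  · have h1 := c.e_comm_iff.1 (h cz cz (Or.inr (Or.inl rfl)) (Or.inr (Or.inl rfl)))
    have h2 := c.e_comm_iff.1 (h cv cv (Or.inr (Or.inr (Or.inl rfl))) (Or.inr (Or.inr (Or.inl rfl))))
    exact ⟨a, b, inV_of_comm a h1.1 h2.1, inV_of_comm b h1.2 h2.2, rfl⟩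
  · exfalso
    have h1 := c.ew_conj a b cz 1
    rw [mul_inv_eq_iff_eq_mul.2 (h cz 1 (Or.inr (Or.inl rfl)) (Or.inl rfl)), c.e_eq_iff] at h1
    exact cz_ne (by simpa using h1.1)

theorem pow_four_of_mem_J {g : G} (hg : g ∈ c.J) : g ^ 4 = 1 := by
  obtain ⟨a, b, ha, hb, rfl⟩ := hg
  rw [e, ← map_pow, Prod.pow_mk, inD_pow_four ha, inD_pow_four hb]
  exact c.e_one

end Cfg

end CfsgLib.S4Wr
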