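import Cfsg.Agent.S4Wr.Basic

/-!
# Centralizers of involutions in `T`

The normalizer of `J = D × D'` is `T`, the centralizer of `⟨(cz,1), (1,cz)⟩` is `J`, and so is the
intersection of the centralizers of `(cz,cz)` and `(cv,1)`.
-/

set_option autoImplicit false
set_option linter.style.haveILetI false
set_option linter.unusedSectionVars false

namespace CfsgLib.S4Wr

open Subgroup

namespace Cfg

variable {G : Type*} [Group G] [Finite G] (c : Cfg G)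

theorem eq_one_of_pow_four {r : G} {k : ℕ} (hk : Odd k) (h4 : r ^ 4 = 1) (hr : r ^ k = 1) : r = 1 := by
  have h : r ^ Nat.gcd 4 k = 1 := pow_gcd_eq_one.2 ⟨h4, hr⟩
  have hc : Nat.Coprime 4 k := Nat.Coprime.pow_left 2 (Nat.coprime_two_left.2 hk)
  rwa [hc, pow_one] at h

theorem comm_z₁_z₂_iff {g : G} :
    (g * c.z₁ = c.z₁ * g ∧ g * c.z₂ = c.z₂ * g) ↔ (g * c.z₁ = c.z₁ * g ∧ g * c.z = c.z * g) := by
  constructor
  · rintro ⟨h1, h2⟩
    refine ⟨h1, ?_⟩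
    rw [← c.z₁_mul_z₂]
    exact (Commute.mul_right h1 h2)
  · rintro ⟨h1, h2⟩
    refine ⟨h1, ?_⟩
    rw [← c.z_mul_z₁]
    exact (Commute.mul_right h2 h1)

theorem comm_J_z₁ {g : G} (hg : g ∈ c.J) : g * c.z₁ = c.z₁ * g := by
  obtain ⟨a, b, ha, hb, rfl⟩ := hg
  exact c.e_comm_iff.2 ⟨ha, by simp⟩

theorem comm_J_z₂ {g : G} (hg : g ∈ c.J) : g * c.z₂ = c.z₂ * g := by
  obtain ⟨a, b, ha, hb, rfl⟩ := hg
  exact c.e_comm_iff.2 ⟨by simp, hb⟩

theorem e_commutator (a b a' b' : P4) :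
    c.e a b * c.e a' b' * (c.e a b)⁻¹ * (c.e a' b')⁻¹ =
      c.e (a * a' * a⁻¹ * a'⁻¹) (b * b' * b⁻¹ * b'⁻¹) := by
  rw [c.e_conj, c.e_inv, c.e_mul]

/-- A normalizer of `J` keeps the set `{z₁, z₂}`. -/
theorem conj_z₁_cases {g : G} (hg : g ∈ normalizer (c.J : Set G)) :
    g * c.z₁ * g⁻¹ = c.z₁ ∨ g * c.z₁ * g⁻¹ = c.z₂ := by
  obtain ⟨a, b, ha, hb, hab⟩ := (mem_normalizer_iff.1 hg _).1 (c.e_mem_J inD_cv inD_one)
  have hcom : ∀ y ∈ c.J, g * c.e cv 1 * g⁻¹ * y * (g * c.e cv 1 * g⁻¹)⁻¹ * y⁻¹ = 1 ∨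
      g * c.e cv 1 * g⁻¹ * y * (g * c.e cv 1 * g⁻¹)⁻¹ * y⁻¹ = g * c.z₁ * g⁻¹ := by
    intro y hy
    obtain ⟨y', hy', rfl⟩ : ∃ y' ∈ c.J, y = g * y' * g⁻¹ :=
      ⟨g⁻¹ * y * g, ((mem_normalizer_iff''.1 hg) _).1 hy, by group⟩
    obtain ⟨p, q, hp, hq, rfl⟩ := hy'
    rw [show g * c.e cv 1 * g⁻¹ * (g * c.e p q * g⁻¹) * (g * c.e cv 1 * g⁻¹)⁻¹ * (g * c.e p q * g⁻¹)⁻¹
      = g * (c.e cv 1 * c.e p q * (c.e cv 1)⁻¹ * (c.e p q)⁻¹) * g⁻¹ by group, c.e_commutator]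
    rcases inD_comm_mem inD_cv hp with e | e <;> rw [e]
    · left; rw [show (1 : P4) * q * (1 : P4)⁻¹ * q⁻¹ = 1 by group, c.e_one]; group
    · right; rw [show (1 : P4) * q * (1 : P4)⁻¹ * q⁻¹ = 1 by group]
  rw [hab] at hcom
  rcases inD_noncentral ha with h | h | ⟨a', ha', e⟩
  rotate_left 2
  · left
    have h1 := hcom _ (c.e_mem_J ((inD_iff a').2 ha') inD_one)
    rw [c.e_commutator, e, show b * 1 * b⁻¹ * (1 : P4)⁻¹ = 1 by group] at h1
    exact (h1.resolve_left c.z₁_ne).symm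
  all_goals
    rcases inD_noncentral hb with h' | h' | ⟨b', hb', e⟩
    rotate_left 2
    · right
      have h1 := hcom _ (c.e_mem_J inD_one ((inD_iff b').2 hb'))
      rw [c.e_commutator, e, show a * 1 * a⁻¹ * (1 : P4)⁻¹ = 1 by group] at h1
      exact (h1.resolve_left fun h0 => cz_ne (c.e_eq_one.1 h0).2).symm
    all_goals
      exfalso
      obtain ⟨p, q, hp, hq, hpq⟩ := (mem_normalizer_iff.1 hg _).1 (c.e_mem_J inD_cd inD_one)
      have h1 : c.e a b * c.e p q = c.e p q * c.e a b := by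
        refine c.e_comm_iff.2 ⟨?_, ?_⟩
        · rcases (show a = 1 ∨ a = cz by tauto) with rfl | rfl
          · simp
          · exact hp.symm
        · rcases (show b = 1 ∨ b = cz by tauto) with rfl | rfl
          · simp
          · exact hq.symm
      rw [← hab, ← hpq] at h1
      have h2 : c.e cv 1 * c.e cd 1 = c.e cd 1 * c.e cv 1 :=
        mul_left_cancel (a := g) (mul_right_cancel (b := g⁻¹) (by
          calc g * (c.e cv 1 * c.e cd 1) * g⁻¹ = g * c.e cv 1 * g⁻¹ * (g * c.e cd 1 * g⁻¹) := by group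
            _ = g * c.e cd 1 * g⁻¹ * (g * c.e cv 1 * g⁻¹) := h1
            _ = g * (c.e cd 1 * c.e cv 1) * g⁻¹ := by group))
      exact absurd (c.e_comm_iff.1 h2).1 (by decide +kernel)

/-- A normalizer of `J` fixes `z`, and its square fixes `z₁`. -/
theorem conj_z_of_normalizer {g : G} (hg : g ∈ normalizer (c.J : Set G)) :
    g * c.z * g⁻¹ = c.z ∧ g * g * c.z₁ = c.z₁ * (g * g) := by
  have hg' : g ∈ normalizer (c.symm.J : Set G) := by rwa [c.symm_J]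
  have h2 : g * c.z₂ * g⁻¹ = c.z₂ ∨ g * c.z₂ * g⁻¹ = c.z₁ := c.symm.conj_z₁_cases hg'
  have hne : g * c.z₁ * g⁻¹ ≠ g * c.z₂ * g⁻¹ := fun h =>
    cz_ne (c.e_eq_iff.1 (mul_left_cancel (mul_right_cancel h))).1
  have hz : g * c.z * g⁻¹ = g * c.z₁ * g⁻¹ * (g * c.z₂ * g⁻¹) := by
    rw [← c.z₁_mul_z₂]; group
  have key : ∀ x y : G, g * x * g⁻¹ = y → g * y * g⁻¹ = x → g * g * x = x * (g * g) := by
    intro x y h1 h2
    rw [← h1] at h2
    calc g * g * x = g * (g * x * g⁻¹) * g⁻¹ * (g * g) := by group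
      _ = x * (g * g) := by rw [h2]
  rcases c.conj_z₁_cases hg with h1 | h1 <;> rcases h2 with h2 | h2
  · exact ⟨by rw [hz, h1, h2, c.z₁_mul_z₂], key _ _ h1 h1⟩
  · exact absurd (h1.trans h2.symm) hne
  · exact absurd (h1.trans h2.symm) hne
  · refine ⟨?_, key _ _ h1 h2⟩
    rw [hz, h1, h2, c.e_mul, mul_one, one_mul]

theorem conj_cases_of_fix {g : G} (hg : g ∈ normalizer (c.J : Set G)) (h1 : g * c.z₁ = c.z₁ * g)
    {x : P4} (hx : x = cv ∨ x = cd) :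
    ∃ a b : P4, g * c.e x 1 * g⁻¹ = c.e a b ∧ (a = cv ∨ a = cv * cz ∨ a = cd ∨ a = cd * cz) ∧
      (b = 1 ∨ b = cz) := by
  have hxD : InD x := by rcases hx with rfl | rfl; exacts [inD_cv, inD_cd]
  obtain ⟨a, b, ha, hb, hab⟩ := (mem_normalizer_iff.1 hg _).1 (c.e_mem_J hxD inD_one)
  have hsq : c.e a b * c.e a b = 1 := by
    rw [← hab, show g * c.e x 1 * g⁻¹ * (g * c.e x 1 * g⁻¹) = g * (c.e x 1 * c.e x 1) * g⁻¹ by group,
      c.e_mul]
    rcases hx with rfl | rfl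
    · rw [cv_sq, mul_one, c.e_one]; group
    · rw [cd_sq, mul_one, c.e_one]; group
  rw [c.e_mul, c.e_eq_one] at hsq
  have hcom : ∀ p q : P4, InD p → InD q →
      c.e a b * c.e p q * (c.e a b)⁻¹ * (c.e p q)⁻¹ = 1 ∨
        c.e a b * c.e p q * (c.e a b)⁻¹ * (c.e p q)⁻¹ = c.z₁ := by
    intro p q hp hq
    obtain ⟨p', q', hp', hq', e⟩ := (mem_normalizer_iff''.1 hg _).1 (c.e_mem_J hp hq)
    rw [← hab, show c.e p q = g * (g⁻¹ * c.e p q * g) * g⁻¹ by group, e,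
      show g * c.e x 1 * g⁻¹ * (g * c.e p' q' * g⁻¹) * (g * c.e x 1 * g⁻¹)⁻¹ * (g * c.e p' q' * g⁻¹)⁻¹
        = g * (c.e x 1 * c.e p' q' * (c.e x 1)⁻¹ * (c.e p' q')⁻¹) * g⁻¹ by group, c.e_commutator,
      show (1 : P4) * q' * (1 : P4)⁻¹ * q'⁻¹ = 1 by group]
    rcases inD_comm_mem hxD hp' with e' | e' <;> rw [e']
    · left; rw [c.e_one]; group
    · right; exact mul_inv_eq_iff_eq_mul.2 h1
  have hb' : b = 1 ∨ b = cz := by
    rcases inD_noncentral hb with h | h | ⟨q, hq, e⟩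
    · exact Or.inl h
    · exact Or.inr h
    · exfalso
      rcases hcom 1 q inD_one ((inD_iff q).2 hq) with h | h <;>
        rw [c.e_commutator, e, show a * 1 * a⁻¹ * (1 : P4)⁻¹ = 1 by group] at h
      · exact cz_ne (c.e_eq_one.1 h).2
      · exact cz_ne (c.e_eq_iff.1 h).1.symm
  refine ⟨a, b, hab, ?_, hb'⟩
  rcases inD_involution ha hsq.1 with h | h | h
  rotate_left 2
  · exact h
  all_goals
    exfalso
    obtain ⟨x', hx', e⟩ : ∃ x', InD x' ∧ x * x' ≠ x' * x := by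
      rcases hx with rfl | rfl
      · exact ⟨cd, inD_cd, by decide +kernel⟩
      · exact ⟨cv, inD_cv, by decide +kernel⟩
    obtain ⟨p, q, hp, hq, hpq⟩ := (mem_normalizer_iff.1 hg _).1 (c.e_mem_J hx' inD_one)
    have h2 : c.e a b * c.e p q = c.e p q * c.e a b := by
      refine c.e_comm_iff.2 ⟨?_, ?_⟩
      · rcases (show a = 1 ∨ a = cz by tauto) with rfl | rfl
        · simp
        · exact hp.symm
      · rcases hb' with rfl | rfl
        · simp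
        · exact hq.symm
    rw [← hab, ← hpq] at h2
    have h3 : c.e x 1 * c.e x' 1 = c.e x' 1 * c.e x 1 :=
      mul_left_cancel (a := g) (mul_right_cancel (b := g⁻¹) (by
        calc g * (c.e x 1 * c.e x' 1) * g⁻¹ = g * c.e x 1 * g⁻¹ * (g * c.e x' 1 * g⁻¹) := by group
          _ = g * c.e x' 1 * g⁻¹ * (g * c.e x 1 * g⁻¹) := h2
          _ = g * (c.e x' 1 * c.e x 1) * g⁻¹ := by group))
    exact e (c.e_comm_iff.1 h3).1

theorem e_central_sq {p q : P4} (hp : p = 1 ∨ p = cz) (hq : q = 1 ∨ q = cz) :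
    c.e p q * c.e p q = 1 := by
  rw [c.e_mul]
  rcases hp with rfl | rfl <;> rcases hq with rfl | rfl <;>
    simp [cz_sq, c.e_one]

omit [Finite G] in
theorem pow_four_fix {g x y ζ η : G} (hx : g * x * g⁻¹ = y * ζ) (hy : g * y * g⁻¹ = x * η)
    (hζ : g * ζ * g⁻¹ = ζ) (hη : g * η * g⁻¹ = η) (hc : η * ζ = ζ * η) (hζ2 : ζ * ζ = 1)
    (hη2 : η * η = 1) : Commute (g ^ 4) x := by
  have h2 : g ^ 2 * x * (g ^ 2)⁻¹ = x * (η * ζ) := by
    calc g ^ 2 * x * (g ^ 2)⁻¹ = g * (g * x * g⁻¹) * g⁻¹ := by rw [sq]; group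
      _ = g * y * g⁻¹ * (g * ζ * g⁻¹) := by rw [hx]; group
      _ = x * (η * ζ) := by rw [hy, hζ, mul_assoc]
  have h2ζ : g ^ 2 * (η * ζ) * (g ^ 2)⁻¹ = η * ζ := by
    calc g ^ 2 * (η * ζ) * (g ^ 2)⁻¹
        = g * ((g * η * g⁻¹) * (g * ζ * g⁻¹)) * g⁻¹ := by rw [sq]; group
      _ = (g * η * g⁻¹) * (g * ζ * g⁻¹) := by rw [hζ, hη]; nth_rewrite 2 [← hη]; nth_rewrite 2 [← hζ]; group
      _ = η * ζ := by rw [hζ, hη]
  refine mul_inv_eq_iff_eq_mul.1 ?_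
  calc g ^ 4 * x * (g ^ 4)⁻¹ = g ^ 2 * (g ^ 2 * x * (g ^ 2)⁻¹) * (g ^ 2)⁻¹ := by
        rw [show g ^ 4 = g ^ 2 * g ^ 2 from pow_add g 2 2]; group
    _ = g ^ 2 * x * (g ^ 2)⁻¹ * (g ^ 2 * (η * ζ) * (g ^ 2)⁻¹) := by
        conv_lhs => rw [h2]
        group
    _ = x * ((η * ζ) * (η * ζ)) := by rw [h2, h2ζ, mul_assoc]
    _ = x := by rw [mul_assoc η ζ, ← mul_assoc ζ η, ← hc, mul_assoc η ζ, hζ2, mul_one, hη2, mul_one]

theorem commute_pow_four {g : G} (hg : g ∈ normalizer (c.J : Set G)) (h1 : g * c.z₁ = c.z₁ * g)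
    (h2 : g * c.z₂ = c.z₂ * g) :
    Commute (g ^ 4) (c.e cv 1) ∧ Commute (g ^ 4) (c.e cd 1) := by
  have hfix : ∀ p q : P4, (p = 1 ∨ p = cz) → (q = 1 ∨ q = cz) → g * c.e p q * g⁻¹ = c.e p q := by
    intro p q hp hq
    refine mul_inv_eq_iff_eq_mul.2 ?_
    rcases hp with rfl | rfl <;> rcases hq with rfl | rfl
    · rw [c.e_one, mul_one, one_mul]
    · exact h2
    · exact h1
    · exact ((c.comm_z₁_z₂_iff).1 ⟨h1, h2⟩).2
  have hcc : ∀ p q p' q' : P4, (p = 1 ∨ p = cz) → (q = 1 ∨ q = cz) → (p' = 1 ∨ p' = cz) →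
      (q' = 1 ∨ q' = cz) → c.e p q * c.e p' q' = c.e p' q' * c.e p q := fun p q p' q' hp hq hp' hq' =>
    c.e_comm_iff.2 ⟨by rcases hp with rfl | rfl <;> rcases hp' with rfl | rfl <;> simp,
      by rcases hq with rfl | rfl <;> rcases hq' with rfl | rfl <;> simp⟩
  have hsplit : ∀ {x : P4} {y : G}, (x = cv ∨ x = cd) → (∃ a b : P4, y = c.e a b ∧
      (a = cv ∨ a = cv * cz ∨ a = cd ∨ a = cd * cz) ∧ (b = 1 ∨ b = cz)) →
      ∃ u p q : P4, (u = cv ∨ u = cd) ∧ (p = 1 ∨ p = cz) ∧ (q = 1 ∨ q = cz) ∧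
        y = c.e u 1 * c.e p q := by
    rintro x y - ⟨a, b, rfl, ha, hb⟩
    rcases ha with rfl | rfl | rfl | rfl
    · exact ⟨cv, 1, b, .inl rfl, .inl rfl, hb, by rw [c.e_mul, mul_one, one_mul]⟩
    · exact ⟨cv, cz, b, .inl rfl, .inr rfl, hb, by rw [c.e_mul, one_mul]⟩
    · exact ⟨cd, 1, b, .inr rfl, .inl rfl, hb, by rw [c.e_mul, mul_one, one_mul]⟩
    · exact ⟨cd, cz, b, .inr rfl, .inr rfl, hb, by rw [c.e_mul, one_mul]⟩
  obtain ⟨u, p, q, hu, hp, hq, hv⟩ :=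
    hsplit (x := cv) (.inl rfl) (c.conj_cases_of_fix hg h1 (x := cv) (.inl rfl))
  obtain ⟨u', p', q', hu', hp', hq', hd⟩ :=
    hsplit (x := cd) (.inr rfl) (c.conj_cases_of_fix hg h1 (x := cd) (.inr rfl))
  have hne : u ≠ u' := by
    rintro rfl
    have h : g * (c.e cv 1 * c.e cd 1) * g⁻¹ = g * (c.e cd 1 * c.e cv 1) * g⁻¹ := by
      calc g * (c.e cv 1 * c.e cd 1) * g⁻¹ = g * c.e cv 1 * g⁻¹ * (g * c.e cd 1 * g⁻¹) := by group
        _ = g * c.e cd 1 * g⁻¹ * (g * c.e cv 1 * g⁻¹) := by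
          rw [hv, hd, c.e_mul, c.e_mul]
          refine c.e_comm_iff.2 ⟨?_, by
            rcases hq with rfl | rfl <;> rcases hq' with rfl | rfl <;> simp⟩
          rcases hu with rfl | rfl <;> rcases hp with rfl | rfl <;> rcases hp' with rfl | rfl <;>
            decide +kernel
        _ = g * (c.e cd 1 * c.e cv 1) * g⁻¹ := by group
    exact absurd (c.e_comm_iff.1 (mul_left_cancel (mul_right_cancel h))).1 (by decide +kernel)
  rcases hu with rfl | rfl <;> rcases hu' with rfl | rfl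
  · exact absurd rfl hne
  · exact ⟨pow_four_fix hv hv (hfix _ _ hp hq) (hfix _ _ hp hq) rfl (c.e_central_sq hp hq)
      (c.e_central_sq hp hq), pow_four_fix hd hd (hfix _ _ hp' hq') (hfix _ _ hp' hq') rfl
      (c.e_central_sq hp' hq') (c.e_central_sq hp' hq')⟩
  · exact ⟨pow_four_fix hv hd (hfix _ _ hp hq) (hfix _ _ hp' hq') (hcc _ _ _ _ hp' hq' hp hq)
      (c.e_central_sq hp hq) (c.e_central_sq hp' hq'), pow_four_fix hd hv (hfix _ _ hp' hq')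
      (hfix _ _ hp hq) (hcc _ _ _ _ hp hq hp' hq') (c.e_central_sq hp' hq') (c.e_central_sq hp hq)⟩
  · exact absurd rfl hne

/-- A normalizer of `J` fixing `z₁` and `z₂` has exponent dividing 16. -/
theorem pow_sixteen {g : G} (hg : g ∈ normalizer (c.J : Set G)) (h1 : g * c.z₁ = c.z₁ * g)
    (h2 : g * c.z₂ = c.z₂ * g) : g ^ 16 = 1 := by
  obtain ⟨hv, -⟩ := c.commute_pow_four hg h1 h2
  obtain ⟨hv', -⟩ := c.symm.commute_pow_four (by rwa [c.symm_J]) h2 h1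
  have h1' : Commute (g ^ 4) c.z₁ := Commute.pow_left h1 4
  have h2' : Commute (g ^ 4) c.z₂ := Commute.pow_left h2 4
  obtain ⟨a, b, ha, hb, e⟩ := c.mem_of_comm_A (g := g ^ 4) fun a b ha hb => by
    have ea : Commute (g ^ 4) (c.e a 1) := by
      rcases ha with rfl | rfl | rfl | rfl
      · rw [c.e_one]; exact Commute.one_right _
      · exact h1'
      · exact hv
      · rw [show c.e (cv * cz) 1 = c.e cv 1 * c.e cz 1 by rw [c.e_mul, mul_one]]
        exact hv.mul_right h1'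
    have eb : Commute (g ^ 4) (c.e 1 b) := by
      rcases hb with rfl | rfl | rfl | rfl
      · rw [c.e_one]; exact Commute.one_right _
      · exact h2'
      · exact hv'
      · rw [show c.e 1 (cv * cz) = c.e 1 cv * c.e 1 cz by rw [c.e_mul, mul_one]]
        exact hv'.mul_right h2'
    rw [show c.e a b = c.e a 1 * c.e 1 b by rw [c.e_mul, mul_one, one_mul]]
    exact ea.mul_right eb
  rw [show 16 = 4 * 4 from rfl, pow_mul, e]
  exact c.pow_four_of_mem_J (c.e_mem_J ha.inD hb.inD)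

theorem T_le_normalizer_J : (c.T : Subgroup G) ≤ normalizer (c.J : Set G) := by
  intro t ht
  rw [mem_normalizer_iff]
  intro x
  refine ⟨c.conj_mem_J ht, fun h => ?_⟩
  have := c.conj_mem_J (inv_mem ht) h
  rwa [show t⁻¹ * (t * x * t⁻¹) * t⁻¹⁻¹ = x by group] at this

theorem normalizer_J : normalizer (c.J : Set G) = (c.T : Subgroup G) := by
  refine c.T.is_maximal' (fun g => ⟨5, Subtype.ext ?_⟩) c.T_le_normalizer_J
  obtain ⟨hz, h1⟩ := c.conj_z_of_normalizer g.2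
  have hz2 : (g : G) * g * c.z = c.z * ((g : G) * g) :=
    Commute.mul_left (mul_inv_eq_iff_eq_mul.1 hz) (mul_inv_eq_iff_eq_mul.1 hz)
  have h2 := ((c.comm_z₁_z₂_iff).2 ⟨h1, hz2⟩).2
  have := c.pow_sixteen (mul_mem g.2 g.2) h1 h2
  rw [← sq, ← pow_mul] at this
  simpa using this

/-- `J` is a maximal 2-subgroup of the centralizer of `z₁`. -/
theorem eq_J_of_le {P : Subgroup G} (hP : IsPGroup 2 P) (hJP : c.J ≤ P)
    (hPz : ∀ g ∈ P, g * c.z₁ = c.z₁ * g) : P = c.J := by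
  haveI : Fact (Nat.Prime 2) := ⟨Nat.prime_two⟩
  haveI : Group.IsNilpotent P := hP.isNilpotent
  refine (eq_or_lt_of_le hJP).elim Eq.symm fun hlt => ?_
  exfalso
  have hlt' : c.J.subgroupOf P < ⊤ := lt_top_iff_ne_top.2 fun h =>
    hlt.not_ge (subgroupOf_eq_top.1 h)
  obtain ⟨m, hm, hmJ⟩ := SetLike.exists_of_lt (Group.normalizerCondition_of_isNilpotent _ hlt')
  refine hmJ (mem_subgroupOf.2 (c.mem_J_of_comm ?_ (hPz m m.2)))
  rw [← c.normalizer_J, mem_normalizer_iff]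
  intro x
  constructor
  · intro hx
    exact mem_subgroupOf.1 ((mem_normalizer_iff.1 hm ⟨x, hJP hx⟩).1 (mem_subgroupOf.2 hx))
  · intro hx
    have hxP : x ∈ P := by
      have := mul_mem (mul_mem (inv_mem m.2) (hJP hx)) m.2
      rwa [show (m : G)⁻¹ * ((m : G) * x * (m : G)⁻¹) * m = x by group] at this
    exact mem_subgroupOf.1 ((mem_normalizer_iff.1 hm ⟨x, hxP⟩).2 (mem_subgroupOf.2 hx))

theorem mem_T_mul_of_not_mem {x y : G} (hx : x ∈ (c.T : Subgroup G)) (hy : y ∈ (c.T : Subgroup G))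
    (hxJ : x ∉ c.J) (hyJ : y ∉ c.J) : y * x⁻¹ ∈ c.J := by
  obtain ⟨a, b, ha, hb, rfl | rfl⟩ := (c.memT x).1 hx
  · exact absurd (c.e_mem_J ha hb) hxJ
  obtain ⟨p, q, hp, hq, rfl | rfl⟩ := (c.memT y).1 hy
  · exact absurd (c.e_mem_J hp hq) hyJ
  rw [show c.ι (p, q) = c.e p q from rfl, show c.ι (a, b) = c.e a b from rfl,
    show c.e p q * c.w * (c.e a b * c.w)⁻¹ = c.e p q * (c.e a b)⁻¹ by group, c.e_inv, c.e_mul]
  exact c.e_mem_J (inD_mul hp (inD_inv ha)) (inD_mul hq (inD_inv hb))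

theorem w_not_mem_J : c.w ∉ c.J := fun ⟨a, b, _, _, h⟩ => c.w_ne_e a b h

/-- The involution `z₁` is not conjugate to `z`. -/
theorem not_conj_z₁_z (g : G) : g * c.z₁ * g⁻¹ ≠ c.z := by
  intro hg
  haveI : Fact (Nat.Prime 2) := ⟨Nat.prime_two⟩
  let C := centralizer ({c.z₁} : Set G)
  have hmem : ∀ x : G, x ∈ C ↔ x * c.z₁ = c.z₁ * x := fun x => mem_centralizer_singleton_iff
  have hJC : c.J ≤ C := fun x hx => (hmem x).2 (c.comm_J_z₁ hx)
  let S : Sylow 2 C := ⟨c.J.subgroupOf C,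
    (c.T.isPGroup'.to_le c.J_le).comap_of_injective _ Subtype.val_injective, fun {P} hP hle => by
      have h := c.eq_J_of_le (P := P.map C.subtype) (hP.map _)
        (fun x hx => ⟨⟨x, hJC hx⟩, hle (mem_subgroupOf.2 hx), rfl⟩) (by
          rintro _ ⟨x, -, rfl⟩; exact (hmem _).1 x.2)
      refine le_antisymm (fun x hx => mem_subgroupOf.2 ?_) hle
      rw [← h]; exact mem_map_of_mem _ hx⟩
  let K : Subgroup G := (c.T : Subgroup G).map (MulAut.conj g⁻¹).toMonoidHom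
  have hKC : K ≤ C := by
    rintro _ ⟨t, ht, rfl⟩
    rw [hmem]
    have h := mul_inv_eq_iff_eq_mul.1 hg
    show g⁻¹ * t * g⁻¹⁻¹ * c.z₁ = c.z₁ * (g⁻¹ * t * g⁻¹⁻¹)
    calc g⁻¹ * t * g⁻¹⁻¹ * c.z₁ = g⁻¹ * t * (g * c.z₁) := by group
      _ = g⁻¹ * (t * c.z) * g := by rw [h]; group
      _ = g⁻¹ * (c.z * t) * g := by rw [c.comm_z_of_mem ht]
      _ = (g⁻¹ * c.z) * t * g := by group
      _ = c.z₁ * (g⁻¹ * t * g⁻¹⁻¹) := by
        rw [show g⁻¹ * c.z = c.z₁ * g⁻¹ by rw [← hg]; group]; group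
  have hKp : IsPGroup 2 (K.subgroupOf C) :=
    (c.T.isPGroup'.map _).comap_of_injective _ Subtype.val_injective
  obtain ⟨P, hP⟩ := hKp.exists_le_sylow
  have hPS : Nat.card (P : Subgroup C) = Nat.card (S : Subgroup C) := by
    rw [Sylow.card_eq_multiplicity, Sylow.card_eq_multiplicity]
  have hle : Nat.card (c.T : Subgroup G) ≤ Nat.card c.J := by
    rw [Nat.card_congr ((c.T : Subgroup G).equivMapOfInjective (MulAut.conj g⁻¹).toMonoidHom
        (MulAut.conj g⁻¹).injective).toEquiv,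
      show Nat.card c.J = Nat.card (S : Subgroup C) from
        (Nat.card_congr (subgroupOfEquivOfLe hJC).toEquiv).symm, ← hPS]
    refine le_of_eq_of_le ?_ (Nat.card_mono (Set.toFinite _) hP)
    exact (Nat.card_congr (subgroupOfEquivOfLe hKC).toEquiv).symm
  exact c.w_not_mem_J (by rw [Subgroup.eq_of_le_of_card_ge c.J_le hle]; exact c.w_mem)

end Cfg

end CfsgLib.S4Wr
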