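import Cfsg.Agent.S4Wr.K0

/-!
# The contradiction
-/

set_option autoImplicit false
set_option linter.style.haveILetI false
set_option linter.unusedSectionVars false

namespace CfsgLib.S4Wr

open Subgroup
open scoped Pointwise

/-- Conjugators giving the six transpositions from `(01)`. -/
def transConj : Fin 6 → P4 :=
  ![1, Equiv.swap 1 2, Equiv.swap 1 3, Equiv.swap 0 2, Equiv.swap 0 3,
    Equiv.swap 0 2 * Equiv.swap 1 3]

theorem transConj_injective :
    ∀ i j : Fin 6, transConj i * cd * (transConj i)⁻¹ = transConj j * cd * (transConj j)⁻¹ → i = j := by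
  decide +kernel

theorem transConj_ne : ∀ i : Fin 6, transConj i * cd * (transConj i)⁻¹ ≠ 1 := by decide +kernel

theorem conj_cd_sq (σ : P4) : σ * cd * σ⁻¹ * (σ * cd * σ⁻¹) = 1 := by
  rw [show σ * cd * σ⁻¹ * (σ * cd * σ⁻¹) = σ * (cd * cd) * σ⁻¹ by group, cd_sq]; group

namespace Cfg

variable {G : Type*} [Group G] [Finite G] (c : Cfg G)

theorem d_conj_K₀ {g : G} (hg : g ∈ c.K₀) : c.e cd 1 * g * c.e cd 1 ∈ c.K₀ := by
  obtain ⟨h1, -, h3⟩ := c.mem_K₀.1 hg
  have hd : c.e cd 1 * c.e cd 1 = 1 := by rw [c.e_mul, cd_sq, mul_one, c.e_one]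
  have key : ∀ a : G, g * a = a * g → c.e cd 1 * g * c.e cd 1 * (c.e cd 1 * a * c.e cd 1) =
      c.e cd 1 * a * c.e cd 1 * (c.e cd 1 * g * c.e cd 1) := fun a ha => by
    calc c.e cd 1 * g * c.e cd 1 * (c.e cd 1 * a * c.e cd 1)
        = c.e cd 1 * g * (c.e cd 1 * c.e cd 1) * a * c.e cd 1 := by group
      _ = c.e cd 1 * (g * a) * c.e cd 1 := by rw [hd]; group
      _ = c.e cd 1 * (a * g) * c.e cd 1 := by rw [ha]
      _ = c.e cd 1 * a * (c.e cd 1 * c.e cd 1) * g * c.e cd 1 := by rw [hd]; group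
      _ = _ := by group
  have e1 : c.e cd 1 * c.z₁ * c.e cd 1 = c.z₁ := by
    rw [c.e_mul, c.e_mul]; simp [show cd * cz * cd = cz by decide +kernel]
  have e2 : c.e cd 1 * c.e (cv * cz) 1 * c.e cd 1 = c.e cv 1 := by
    rw [c.e_mul, c.e_mul]; simp [show cd * (cv * cz) * cd = cv by decide +kernel]
  have e3 : c.e cd 1 * (c.x₃)⁻¹ * c.e cd 1 = c.x₃ := by
    rw [c.e_inv, c.e_mul, c.e_mul]; simp [show cd * cx⁻¹ * cd = cx by decide +kernel]
  refine c.mem_K₀.2 ⟨?_, ?_, ?_⟩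
  · have := key _ h1; rwa [e1] at this
  · have := key _ (c.comm_V_of_mem_K₀ hg (a := cv * cz) (Or.inr (Or.inr (Or.inr rfl)))); rwa [e2] at this
  · have := key _ (Commute.inv_right h3).eq; rwa [e3] at this

/-- In the case `|K₀| = 168` the element `(cd, 1)` centralizes `k`. -/
theorem comm_d_k (hcard : Nat.card c.K₀ = 168) {k : G} (hk : k ∈ c.K₀)
    (hkd : k * c.e 1 cd * k⁻¹ = c.z₂)
    (hkU : ∀ b : P4, InU b → ∃ b' : P4, InU b' ∧ k * c.e 1 b * k⁻¹ = c.e 1 b') :
    k * c.e cd 1 = c.e cd 1 * k := by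
  classical
  set d := c.e cd 1 with hd
  have hd2 : d * d = 1 := by rw [hd, c.e_mul, cd_sq, mul_one, c.e_one]
  have hdinv : d⁻¹ = d := inv_eq_of_mul_eq_one_left hd2
  have hde : ∀ b : P4, c.e 1 b * d = d * c.e 1 b := fun b => c.e_comm_iff.2 ⟨by simp, by simp⟩
  let C : Subgroup G := c.K₀ ⊓ centralizer ({d} : Set G)
  let φ : P4 →* G := c.ι.comp (MonoidHom.inr P4 P4)
  have hφ : Function.Injective φ := fun a b h => (c.e_eq_iff.1 h).2
  have hRC : φ.range ≤ C := by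
    rintro _ ⟨b, rfl⟩
    exact mem_inf.2 ⟨c.e_mem_K₀ b, mem_centralizer_singleton_iff.2 (hde b)⟩
  have hR : Nat.card φ.range = 24 := by
    rw [← Nat.card_congr (MonoidHom.ofInjective hφ).toEquiv, Nat.card_perm, Nat.card_fin]; rfl
  obtain ⟨l, hl⟩ := Subgroup.card_dvd_of_le hRC
  rw [hR] at hl
  have hC168 : Nat.card C ∣ 168 := hcard ▸ Subgroup.card_dvd_of_le inf_le_left
  rw [hl] at hC168
  have hl7 : l = 1 ∨ l = 7 := by
    exact (Nat.dvd_prime (by norm_num : Nat.Prime 7)).1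
      ((Nat.mul_dvd_mul_iff_left (by norm_num : 0 < 24)).1 hC168)
  rcases hl7 with rfl | rfl
  swap
  · have : C = c.K₀ := Subgroup.eq_of_le_of_card_ge inf_le_left (by rw [hl, hcard])
    exact mem_centralizer_singleton_iff.1 (mem_inf.1 (this ▸ hk : k ∈ C)).2
  exfalso
  have hCR : φ.range = C := Subgroup.eq_of_le_of_card_ge hRC (by rw [hl, hR])
  -- a conjugate `(cd, u)` with `u` a transposition
  have hdkd : k⁻¹ * (d * k * d) ∈ c.K₀ := mul_mem (inv_mem hk) (c.d_conj_K₀ hk)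
  have hδU : ∀ b : P4, InU b → k⁻¹ * (d * k * d) * c.e 1 b = c.e 1 b * (k⁻¹ * (d * k * d)) := by
    intro b hb
    obtain ⟨b', -, e⟩ := hkU b hb
    calc k⁻¹ * (d * k * d) * c.e 1 b = k⁻¹ * d * k * (d * c.e 1 b) := by group
      _ = k⁻¹ * d * (k * c.e 1 b * k⁻¹) * k * d := by rw [← hde]; group
      _ = k⁻¹ * (d * c.e 1 b') * k * d := by rw [e]; group
      _ = k⁻¹ * (c.e 1 b' * d) * k * d := by rw [hde]
      _ = c.e 1 b * (k⁻¹ * (d * k * d)) := by rw [← e]; group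
  obtain ⟨u, hu, eu⟩ := c.mem_of_comm_z₂ hdkd (hδU cz (Or.inr (Or.inl rfl)))
  have huU : InU u := inU_of_comm u hu (c.e_comm_iff.1 (eu ▸ hδU cd (Or.inr (Or.inr (Or.inl rfl))))).2
  have hconj : k⁻¹ * d * k = c.e cd u := by
    calc k⁻¹ * d * k = k⁻¹ * (d * k * d) * d⁻¹ := by group
      _ = c.e 1 u * d := by rw [eu, hdinv]
      _ = c.e cd u := by rw [hd, c.e_mul, one_mul, mul_one]
  have hkC : k ∉ C := fun h => by
    rw [← hCR] at h
    obtain ⟨b, rfl⟩ := h
    have h := hkd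
    rw [show φ b = c.e 1 b from rfl, c.e_conj, c.e_eq_iff] at h
    exact (show ∀ b : P4, b * cd * b⁻¹ ≠ cz by decide +kernel) b h.2
  obtain ⟨n, hn, hnd⟩ : ∃ n ∈ c.K₀, n * d * n⁻¹ = c.e cd cd := by
    have h1 : ∃ n ∈ c.K₀, n * d * n⁻¹ = c.e cd cd ∨ n * d * n⁻¹ = c.e cd (cd * cz) := by
      rcases huU with rfl | rfl | rfl | rfl
      · exfalso
        refine hkC (mem_inf.2 ⟨hk, mem_centralizer_singleton_iff.2 ?_⟩)
        calc k * d = k * (k⁻¹ * d * k) := by rw [hconj]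
          _ = d * k := by group
      · refine ⟨k⁻¹ * k⁻¹, mul_mem (inv_mem hk) (inv_mem hk), Or.inr ?_⟩
        have e : k⁻¹ * c.z₂ * k = c.e 1 cd := by rw [← hkd]; group
        calc k⁻¹ * k⁻¹ * d * (k⁻¹ * k⁻¹)⁻¹ = k⁻¹ * (k⁻¹ * d * k) * k := by
              rw [mul_inv_rev, inv_inv]; simp [mul_assoc]
          _ = k⁻¹ * d * k * (k⁻¹ * c.z₂ * k) := by
              conv_lhs => rw [hconj, show c.e cd cz = d * c.z₂ by rw [hd, c.e_mul, mul_one, one_mul]]
              group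
          _ = c.e cd (cd * cz) := by
              rw [hconj, e, c.e_mul, mul_one, show cz * cd = cd * cz by decide +kernel]
      · exact ⟨k⁻¹, inv_mem hk, Or.inl (by rw [inv_inv, hconj])⟩
      · exact ⟨k⁻¹, inv_mem hk, Or.inr (by rw [inv_inv, hconj])⟩
    obtain ⟨n, hn, e | e⟩ := h1
    · exact ⟨n, hn, e⟩
    · refine ⟨c.e 1 cv * n, mul_mem (c.e_mem_K₀ cv) hn, ?_⟩
      rw [show c.e 1 cv * n * d * (c.e 1 cv * n)⁻¹ = c.e 1 cv * (n * d * n⁻¹) * (c.e 1 cv)⁻¹ by group, e,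
        c.e_conj, show cv * (cd * cz) * cv⁻¹ = cd by decide +kernel]
      simp
  -- seven coset representatives
  let t : Option (Fin 6) → G := fun o => o.elim 1 fun i => c.e 1 (transConj i) * n
  let τ : Option (Fin 6) → P4 := fun o => o.elim 1 fun i => transConj i * cd * (transConj i)⁻¹
  have htd : ∀ o, t o * d * (t o)⁻¹ = c.e cd (τ o) := by
    rintro (_ | i)
    · show 1 * d * 1⁻¹ = c.e cd 1
      rw [hd]; group
    · show c.e 1 (transConj i) * n * d * (c.e 1 (transConj i) * n)⁻¹ = _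
      rw [show c.e 1 (transConj i) * n * d * (c.e 1 (transConj i) * n)⁻¹ =
        c.e 1 (transConj i) * (n * d * n⁻¹) * (c.e 1 (transConj i))⁻¹ by group, hnd, c.e_conj,
        show (1 : P4) * cd * 1⁻¹ = cd by group]
      rfl
  have htK : ∀ o, t o ∈ c.K₀ := by
    rintro (_ | i)
    · exact one_mem _
    · exact mul_mem (c.e_mem_K₀ _) hn
  let f : Option (Fin 6) × P4 → c.K₀ := fun p => ⟨t p.1 * c.e 1 p.2, mul_mem (htK _) (c.e_mem_K₀ _)⟩
  have hfd : ∀ p, (f p : G) * d * (f p : G)⁻¹ = c.e cd (τ p.1) := fun p => by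
    show t p.1 * c.e 1 p.2 * d * (t p.1 * c.e 1 p.2)⁻¹ = _
    rw [← htd, show t p.1 * c.e 1 p.2 * d * (t p.1 * c.e 1 p.2)⁻¹ =
      t p.1 * (c.e 1 p.2 * d) * (c.e 1 p.2)⁻¹ * (t p.1)⁻¹ by group, hde]
    group
  have hτ : Function.Injective τ := by
    rintro (_ | i) (_ | j) h
    · rfl
    · exact absurd h.symm (transConj_ne j)
    · exact absurd h (transConj_ne i)
    · exact congrArg some (transConj_injective i j h)
  have hfinj : Function.Injective f := by
    rintro ⟨o, b⟩ ⟨o', b'⟩ h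
    have h' := hfd ⟨o, b⟩
    rw [h, hfd] at h'
    obtain rfl := hτ (c.e_eq_iff.1 h').2.symm
    refine Prod.ext rfl ?_
    exact (c.e_eq_iff.1 (mul_left_cancel (congrArg Subtype.val h))).2
  haveI := Fintype.ofFinite c.K₀
  have hfs : Function.Surjective f := ((Fintype.bijective_iff_injective_and_card f).2 ⟨hfinj, by
    rw [← Nat.card_eq_fintype_card, ← Nat.card_eq_fintype_card, hcard, Nat.card_prod, Nat.card_perm,
      Nat.card_eq_fintype_card, Nat.card_fin, Fintype.card_option, Fintype.card_fin]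
    rfl⟩).2
  let S : Set G := {x | ∃ g ∈ c.K₀, x = g * d * g⁻¹}
  have hSd : ∀ x ∈ S, x * d = d * x := by
    rintro _ ⟨g, hg, rfl⟩
    obtain ⟨p, hp⟩ := hfs ⟨g, hg⟩
    rw [show g = (f p : G) by rw [hp], hfd, hd]
    exact c.e_comm_iff.2 ⟨rfl, by simp⟩
  have hScomm : ∀ x ∈ S, ∀ y ∈ S, x * y = y * x := by
    rintro _ ⟨g, hg, rfl⟩ _ ⟨g', hg', rfl⟩
    have h := hSd _ ⟨g⁻¹ * g', mul_mem (inv_mem hg) hg', rfl⟩
    calc g * d * g⁻¹ * (g' * d * g'⁻¹)
        = g * (d * (g⁻¹ * g' * d * (g⁻¹ * g')⁻¹)) * g⁻¹ := by group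
      _ = g * (g⁻¹ * g' * d * (g⁻¹ * g')⁻¹ * d) * g⁻¹ := by rw [h]
      _ = _ := by group
  have hScent : closure S ≤ centralizer (closure S : Set G) := by
    refine (closure_le _).2 fun x hx => ?_
    rw [SetLike.mem_coe, mem_centralizer_iff]
    intro y hy
    induction hy using closure_induction with
    | mem z hz => exact hScomm z hz x hx
    | one => simp
    | mul z z' _ _ h h' => exact Commute.mul_left h h'
    | inv z _ h => exact Commute.inv_left h
  have hinv : ∀ g ∈ c.K₀, ∀ x ∈ closure S, g * x * g⁻¹ ∈ closure S := by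
    intro g hg x hx
    induction hx using closure_induction with
    | mem z hz =>
      obtain ⟨h, hh, rfl⟩ := hz
      exact subset_closure ⟨g * h, mul_mem hg hh, by group⟩
    | one => simp
    | mul z z' _ _ h h' =>
      rw [← conj_mul]
      exact mul_mem h h'
    | inv z _ h =>
      rw [← conj_inv]
      exact inv_mem h
  let N : Subgroup c.K₀ := (closure S).subgroupOf c.K₀
  haveI : N.Normal := ⟨fun x hx g => mem_subgroupOf.2 (hinv g g.2 x (mem_subgroupOf.1 hx))⟩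
  have hNc : ∀ a ∈ N, ∀ b ∈ N, a * b = b * a := fun a ha b hb => Subtype.ext
    ((mem_centralizer_iff.1 (hScent (mem_subgroupOf.1 ha)) _ (mem_subgroupOf.1 hb)).symm)
  have hmem : (⟨c.e 1 cd, c.e_mem_K₀ cd⟩ : c.K₀) ∈ N := by
    refine mem_subgroupOf.2 ?_
    show c.e 1 cd ∈ closure S
    have e : c.e 1 cd = d * (n * d * n⁻¹) := by rw [hnd, hd, c.e_mul, cd_sq, one_mul]
    rw [e]
    exact mul_mem (subset_closure ⟨1, one_mem _, by group⟩) (subset_closure ⟨n, hn, rfl⟩)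
  rw [c.no_abelian_normal hk hkd N hNc, mem_bot] at hmem
  exact cd_ne (c.e_eq_one.1 (congrArg Subtype.val hmem)).2

theorem J_relIndex : c.J.relIndex (c.T : Subgroup G) = 2 := by
  refine Subgroup.index_eq_two_iff.2 ⟨⟨c.w, c.w_mem⟩, fun x => ?_⟩
  simp only [mem_subgroupOf, Subgroup.coe_mul]
  by_cases hx : (x : G) ∈ c.J
  · exact Or.inr ⟨hx, fun h => c.w_not_mem_J (by simpa using mul_mem (inv_mem hx) h)⟩
  · refine Or.inl ⟨?_, hx⟩
    obtain ⟨a, b, ha, hb, e | e⟩ := (c.memT _).1 x.2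
    · exact absurd (e ▸ c.e_mem_J ha hb) hx
    · rw [e, mul_assoc, c.w2, mul_one]
      exact c.e_mem_J ha hb

/-- **The configuration is impossible.** -/
theorem false_of_cfg (hno : ∀ H : Subgroup G, H.index ≠ 2)
    (hrank : ∀ E : Subgroup G, (∀ g ∈ E, ∀ a : P4, InV a → ∃ a' : P4, InV a' ∧ g * c.e a 1 * g⁻¹ = c.e a' 1) →
      (∀ a ∈ E, ∀ b ∈ E, a * b = b * a) → (∀ a ∈ E, a ^ 3 = 1) → Nat.card E ≤ 9) : False := by
  haveI : Fact (Nat.Prime 2) := ⟨Nat.prime_two⟩
  obtain ⟨k, hkV, hkx, hkd, hkU⟩ := c.exists_three hno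
  have hk : k ∈ c.K₀ :=
    c.mem_K₀.2 ⟨hkV cz (Or.inr (Or.inl rfl)), hkV cv (Or.inr (Or.inr (Or.inl rfl))), hkx⟩
  rcases c.K₀_cases hk hkd with hcard | ⟨E, hE, hEc, hE3, hE9⟩
  swap
  · -- the rank is at least three
    have hx3 : c.x₃ ^ 3 = 1 := by
      rw [pow_succ, pow_succ, pow_one, c.e_mul, c.e_mul, cx_cube]; simp [c.e_one]
    have hEx : ∀ a ∈ E, Commute a c.x₃ := fun a ha => (c.mem_K₀.1 (hE ha)).2.2
    let R : Subgroup G := E ⊔ zpowers c.x₃
    have hRc : R ≤ centralizer (R : Set G) := by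
      have hzE : zpowers c.x₃ ≤ centralizer (E : Set G) := zpowers_le.2 (mem_centralizer_iff.2
        fun a ha => hEx a ha)
      have hEE : E ≤ centralizer (E : Set G) := fun a ha => mem_centralizer_iff.2 fun b hb => hEc b hb a ha
      have hzz : zpowers c.x₃ ≤ centralizer (zpowers c.x₃ : Set G) := fun a ha => mem_centralizer_iff.2
        fun b hb => by
          obtain ⟨i, rfl⟩ := mem_zpowers_iff.1 ha
          obtain ⟨j, rfl⟩ := mem_zpowers_iff.1 hb
          exact zpow_mul_comm _ _ _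
      refine sup_le (le_centralizer_iff.1 (sup_le hEE hzE)) (le_centralizer_iff.1 (sup_le ?_ hzz))
      exact le_centralizer_iff.1 hzE
    have hcomm : ∀ a ∈ R, ∀ b ∈ R, a * b = b * a := fun a ha b hb =>
      (mem_centralizer_iff.1 (hRc ha) b hb).symm
    have h3 : ∀ a ∈ R, a ^ 3 = 1 := by
      intro a ha
      obtain ⟨p, hp, q, hq, rfl⟩ : ∃ p ∈ E, ∃ q ∈ zpowers c.x₃, p * q = a := by
        have hn : E ≤ normalizer (zpowers c.x₃ : Set G) := fun p hp =>
          centralizer_le_normalizer (zpowers c.x₃ : Set G) (mem_centralizer_iff.2 fun b hb => by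
            obtain ⟨j, rfl⟩ := mem_zpowers_iff.1 hb
            exact ((hEx p hp).zpow_right j).eq.symm)
        have h' : (a : G) ∈ (E : Set G) * (zpowers c.x₃ : Set G) := by
          rw [← Subgroup.coe_mul_of_left_le_normalizer_right E (zpowers c.x₃) hn]; exact ha
        exact Set.mem_mul.1 h'
      obtain ⟨j, rfl⟩ := mem_zpowers_iff.1 hq
      rw [((hEx p hp).zpow_right j).mul_pow, hE3 p hp, one_mul, ← zpow_natCast, ← zpow_mul, mul_comm,
        zpow_mul, zpow_natCast, hx3, one_zpow]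
    have hnorm : ∀ g ∈ R, ∀ a : P4, InV a → ∃ a' : P4, InV a' ∧ g * c.e a 1 * g⁻¹ = c.e a' 1 := by
      let NV : Subgroup G :=
        { carrier := {g | ∀ a : P4, InV a → ∃ a' : P4, InV a' ∧ g * c.e a 1 * g⁻¹ = c.e a' 1}
          one_mem' := fun a ha => ⟨a, ha, by group⟩
          mul_mem' := by
            intro g g' hg hg' a ha
            obtain ⟨a', ha', e⟩ := hg' a ha
            obtain ⟨a'', ha'', e'⟩ := hg a' ha'
            exact ⟨a'', ha'', by rw [← e', ← e]; group⟩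
          inv_mem' := by
            intro g hg a ha
            let f : {a : P4 // InV a} → {a : P4 // InV a} := fun a => ⟨_, (hg a a.2).choose_spec.1⟩
            have hf : Function.Injective f := fun a b h => Subtype.ext (c.e_eq_iff.1
              (mul_left_cancel (mul_right_cancel ((hg a a.2).choose_spec.2.trans
                ((congrArg (fun x : P4 => c.e x 1) (congrArg Subtype.val h)).trans
                  (hg b b.2).choose_spec.2.symm))))).1
            obtain ⟨b, hb⟩ := (Finite.injective_iff_surjective.1 hf) ⟨a, ha⟩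
            refine ⟨b, b.2, ?_⟩
            have h := (hg b b.2).choose_spec.2
            rw [show (hg b b.2).choose = a from congrArg Subtype.val hb] at h
            rw [← h]; group }
      refine fun g hg => (sup_le (a := E) (b := zpowers c.x₃) (c := NV) (fun p hp a ha => ⟨a, ha, ?_⟩)
        (zpowers_le.2 fun a ha => ⟨_, ha.conj cx, by rw [c.e_conj]; simp⟩)) hg
      exact mul_inv_eq_iff_eq_mul.2 (c.comm_V_of_mem_K₀ (hE hp) ha)
    have hlt : E < R := by
      refine lt_of_le_of_ne le_sup_left fun h => ?_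
      have hm : c.x₃ ∈ c.K₀ := hE (h ▸ mem_sup_right (mem_zpowers c.x₃))
      exact absurd (c.e_comm_iff.1 (c.comm_V_of_mem_K₀ hm (a := cv) (Or.inr (Or.inr (Or.inl rfl))))).1
        (by decide +kernel)
    have h1 := hrank R hnorm hcomm h3
    exact hlt.ne (Subgroup.eq_of_le_of_card_ge hlt.le (hE9 ▸ h1))
  -- the classes of involutions in the base
  have hkc : k * c.e cd 1 = c.e cd 1 * k := c.comm_d_k hcard hk hkd hkU
  have kimg : ∀ a : P4, (k * c.e a 1 = c.e a 1 * k) → IsConj (c.e a cd) (c.e a cz) := by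
    intro a ha
    refine isConj_iff.2 ⟨k, ?_⟩
    rw [show c.e a cd = c.e a 1 * c.e 1 cd by rw [c.e_mul, mul_one, one_mul],
      show k * (c.e a 1 * c.e 1 cd) * k⁻¹ = k * c.e a 1 * k⁻¹ * (k * c.e 1 cd * k⁻¹) by group,
      mul_inv_eq_iff_eq_mul.2 ha, hkd, c.e_mul, mul_one, one_mul]
  have hswap : ∀ a b : P4, IsConj (c.e a b) (c.e b a) := fun a b => isConj_iff.2 ⟨c.w, c.w_conj a b⟩
  have hzcd : IsConj (c.e cz cd) c.z := kimg cz (hkV cz (Or.inr (Or.inl rfl)))
  have hdd : IsConj (c.e cd cd) c.z := ((kimg cd hkc).trans (hswap cd cz)).trans hzcd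
  have h1d : IsConj (c.e 1 cd) c.z₁ := (isConj_iff.2 ⟨k, hkd⟩).trans c.isConj_z₂_z₁
  have hd1 : IsConj (c.e cd 1) c.z₁ := (hswap cd 1).trans h1d
  have class2 : ∀ a b : P4, InD a → InD b → a * a = 1 → b * b = 1 → a ≠ 1 → b ≠ 1 →
      IsConj (c.e a b) c.z := by
    intro a b ha hb ha2 hb2 ha1 hb1
    rcases inD_cases_involution ha ha2 ha1 with h | h <;> rcases inD_cases_involution hb hb2 hb1 with h' | h'
    · exact c.isConj_e h h'
    · exact (c.isConj_e h h').trans hzcd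
    · exact ((c.isConj_e h h').trans (hswap cd cz)).trans hzcd
    · exact (c.isConj_e h h').trans hdd
  -- an element of the class of `z₁` in `J`
  have z1mem : ∀ {t : G}, t ∈ c.J → IsConj t c.z₁ → IsConj (t * c.z) c.z₁ → t = c.z₁ ∨ t = c.z₂ := by
    rintro t ⟨a, b, ha, hb, rfl⟩ h1 h2
    rw [c.e_mul] at h2
    have inv2 : ∀ {p q : P4}, IsConj (c.e p q) c.z₁ → p * p = 1 ∧ q * q = 1 ∧ ¬ (p = 1 ∧ q = 1) := by
      intro p q h
      obtain ⟨g, hg⟩ := isConj_iff.1 h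
      have h2 : g * (c.e p q * c.e p q) * g⁻¹ = 1 := by rw [← c.z₁_sq, ← hg]; group
      rw [conj_eq_one_iff, c.e_mul, c.e_eq_one] at h2
      refine ⟨h2.1, h2.2, fun h => ?_⟩
      rw [h.1, h.2, c.e_one] at hg
      exact c.z₁_ne (by rw [← hg]; group)
    obtain ⟨ha2, hb2, hne⟩ := inv2 h1
    obtain ⟨ha3, hb3, hne'⟩ := inv2 h2
    have k1 : a = 1 ∨ b = 1 := by
      by_contra hcon
      push Not at hcon
      exact c.not_isConj_z₁_z (h1.symm.trans (class2 a b ha hb ha2 hb2 hcon.1 hcon.2))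
    have k2 : a * cz = 1 ∨ b * cz = 1 := by
      by_contra hcon
      push Not at hcon
      exact c.not_isConj_z₁_z (h2.symm.trans (class2 _ _ (inD_mul ha inD_cz) (inD_mul hb inD_cz) ha3 hb3
        hcon.1 hcon.2))
    have hcz : ∀ {p : P4}, p * cz = 1 → p = cz := fun h => by
      rw [mul_eq_one_iff_eq_inv.1 h]; exact inv_eq_of_mul_eq_one_left cz_sq
    rcases k1 with rfl | rfl
    · rcases k2 with h | h
      · exact absurd (hcz h) (Ne.symm cz_ne)
      · exact Or.inr (by rw [hcz h])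
    · rcases k2 with h | h
      · exact Or.inl (by rw [hcz h])
      · exact absurd (hcz h) (Ne.symm cz_ne)
  obtain ⟨g₀, hg₀⟩ := Small.thompson_transfer_sylow hno c.T c.J c.J_le c.J_relIndex c.orderOf_w
  have hwcases : IsConj c.w c.z₁ ∨ IsConj c.w c.z := by
    have hwt : IsConj c.w (g₀⁻¹ * c.w * g₀) := isConj_iff.2 ⟨g₀⁻¹, by group⟩
    obtain ⟨a, b, ha, hb, e⟩ := hg₀
    rw [e] at hwt
    obtain ⟨f, hf⟩ := isConj_iff.1 hwt
    have h2 : c.e a b * c.e a b = 1 := by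
      rw [← hf, show f * c.w * f⁻¹ * (f * c.w * f⁻¹) = f * (c.w * c.w) * f⁻¹ by group, c.w2]; group
    rw [c.e_mul, c.e_eq_one] at h2
    by_cases ha1 : a = 1
    · subst ha1
      have hb1 : b ≠ 1 := fun h => c.w_not (by
        have : f * c.w * f⁻¹ = 1 := by rw [hf, h, c.e_one]
        rw [conj_eq_one_iff] at this
        rw [this]; exact one_mem _)
      refine Or.inl (hwt.trans ?_)
      rcases inD_cases_involution hb h2.2 hb1 with h | h
      · exact (c.isConj_e (a := 1) ⟨1, by simp⟩ h).trans c.isConj_z₂_z₁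
      · exact (c.isConj_e (a := 1) ⟨1, by simp⟩ h).trans h1d
    by_cases hb1 : b = 1
    · subst hb1
      refine Or.inl (hwt.trans ?_)
      rcases inD_cases_involution ha h2.1 ha1 with h | h
      · exact c.isConj_e h ⟨1, by simp⟩
      · exact (c.isConj_e h (b := 1) ⟨1, by simp⟩).trans hd1
    exact Or.inr (hwt.trans (class2 a b ha hb h2.1 h2.2 ha1 hb1))
  have hwconj : ∀ a : P4, a * a = 1 → c.e a 1 * c.w * (c.e a 1)⁻¹ = c.e a a * c.w := fun a ha => by
    rw [c.e_inv, mul_assoc, c.w_e, ← mul_assoc, c.e_mul, inv_one, mul_one, one_mul,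
      inv_eq_of_mul_eq_one_left ha]
  rcases hwcases with hw | hw
  · -- `w` is conjugate to `z₁`
    obtain ⟨f, hf⟩ := isConj_iff.1 hw
    let P : Subgroup G := ((c.T : Subgroup G) ⊓ centralizer ({c.w} : Set G)).map (MulAut.conj f).toMonoidHom
    obtain ⟨m, hm, hm'⟩ := c.exists_conj_mem_J (P := P) ((c.T.isPGroup'.to_le inf_le_left).map _) (by
      rintro _ ⟨x, hx, rfl⟩
      show f * x * f⁻¹ * c.z₁ = c.z₁ * (f * x * f⁻¹)
      rw [← hf]
      calc f * x * f⁻¹ * (f * c.w * f⁻¹) = f * (x * c.w) * f⁻¹ := by group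
        _ = f * (c.w * x) * f⁻¹ := by rw [mem_centralizer_singleton_iff.1 (mem_inf.1 hx).2]
        _ = _ := by group)
    set g := m * f with hg
    have hgw : g * c.w * g⁻¹ = c.z₁ := by
      rw [hg, show m * f * c.w * (m * f)⁻¹ = m * (f * c.w * f⁻¹) * m⁻¹ by group, hf, hm]; group
    have himg : ∀ x ∈ (c.T : Subgroup G), x * c.w = c.w * x → g * x * g⁻¹ ∈ c.J := fun x hx hxw => by
      rw [hg, show m * f * x * (m * f)⁻¹ = m * (f * x * f⁻¹) * m⁻¹ by group]
      exact hm' _ ⟨x, mem_inf.2 ⟨hx, mem_centralizer_singleton_iff.2 hxw⟩, rfl⟩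
    have hgz : g * c.z * g⁻¹ = c.z := by
      obtain ⟨a, b, ha, hb, e1⟩ := himg _ (c.e_mem inD_cv inD_cv) (c.w_e cv cv).symm
      obtain ⟨p, q, hp, hq, e2⟩ := himg _ (c.e_mem inD_cd inD_cd) (c.w_e cd cd).symm
      have e : g * c.z * g⁻¹ = c.e (a * p * a⁻¹ * p⁻¹) (b * q * b⁻¹ * q⁻¹) := by
        rw [← c.e_commutator, ← e1, ← e2, show c.z = c.e cv cv * c.e cd cd * (c.e cv cv)⁻¹ * (c.e cd cd)⁻¹ by
          rw [c.e_commutator, show cv * cd * cv⁻¹ * cd⁻¹ = cz by decide +kernel]]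
        group
      have hcls : IsConj c.z (g * c.z * g⁻¹) := isConj_iff.2 ⟨g, rfl⟩
      rcases inD_comm_mem ha hp with h | h <;> rcases inD_comm_mem hb hq with h' | h' <;> rw [h, h'] at e
      · exact absurd (conj_eq_one_iff.1 (e.trans c.e_one)) c.z_ne
      · exact absurd (e ▸ hcls).symm c.not_isConj_z₂_z
      · exact absurd (e ▸ hcls).symm c.not_isConj_z₁_z
      · exact e
    -- the image of `(cv,cv) w` is `z₁` or `z₂`
    set t := c.e cv cv * c.w with ht
    have htw : t * c.w = c.w * t := by rw [ht, ← mul_assoc, c.w_e]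
    have hcj : ∀ a : G, t * a = a * t → g * t * g⁻¹ * (g * a * g⁻¹) = g * a * g⁻¹ * (g * t * g⁻¹) := by
      intro a ha
      calc g * t * g⁻¹ * (g * a * g⁻¹) = g * (t * a) * g⁻¹ := by group
        _ = g * (a * t) * g⁻¹ := by rw [ha]
        _ = _ := by group
    have htJ : g * t * g⁻¹ ∈ c.J := c.mem_J_of_comm_pair (hgw ▸ hcj c.w htw)
      (hgz ▸ hcj c.z (c.comm_z_of_mem (mul_mem (c.e_mem inD_cv inD_cv) c.w_mem)))
    have hclass : ∀ a : P4, a * a = 1 → IsConj (g * (c.e a a * c.w) * g⁻¹) c.z₁ := fun a ha =>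
      ((isConj_iff.2 ⟨g, rfl⟩).symm.trans (isConj_iff.2 ⟨c.e a 1, hwconj a ha⟩).symm).trans hw
    have htz : g * t * g⁻¹ * c.z = g * (c.e (cv * cz) (cv * cz) * c.w) * g⁻¹ := by
      conv_lhs => rw [← hgz]
      rw [show g * t * g⁻¹ * (g * c.z * g⁻¹) = g * (t * c.z) * g⁻¹ by group, ht, mul_assoc (c.e cv cv),
        c.w_e, ← mul_assoc (c.e cv cv), c.e_mul]
    rcases z1mem htJ (hclass cv cv_sq) (htz ▸ hclass (cv * cz) (by decide +kernel)) with h | h
    · have := mul_left_cancel (mul_right_cancel (h.trans hgw.symm))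
      rw [ht, mul_eq_right, c.e_eq_one] at this
      exact cv_ne this.1
    · have hz2 : c.z₂ = g * (c.z * c.w) * g⁻¹ := by
        rw [show g * (c.z * c.w) * g⁻¹ = g * c.z * g⁻¹ * (g * c.w * g⁻¹) by group, hgz, hgw, c.z_mul_z₁]
      have := mul_left_cancel (mul_right_cancel (h.trans hz2))
      rw [ht, mul_left_inj, c.e_eq_iff] at this
      exact absurd this.1 (by decide +kernel)
  · -- `w` is conjugate to `z`
    obtain ⟨g, hg⟩ := isConj_iff.1 hw
    set y := g * c.e cx cx * g⁻¹ with hy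
    have hyz : y * c.z = c.z * y := by
      rw [hy, ← hg]
      calc g * c.e cx cx * g⁻¹ * (g * c.w * g⁻¹) = g * (c.e cx cx * c.w) * g⁻¹ := by group
        _ = g * (c.w * c.e cx cx) * g⁻¹ := by rw [c.w_e]
        _ = _ := by group
    have hyc : ∀ n : G, n * c.z = c.z * n → n * c.z₁ * n⁻¹ = c.z₁ ∨ n * c.z₁ * n⁻¹ = c.z₂ := by
      intro n hn
      have htQ : n * c.z₁ * n⁻¹ ∈ c.Q := c.Q_norm n hn _ c.z₁_mem_Q
      have hcls : IsConj (n * c.z₁ * n⁻¹) c.z₁ := (isConj_iff.2 ⟨n, rfl⟩).symm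
      have htz : IsConj (n * c.z₁ * n⁻¹ * c.z) c.z₁ := by
        have e : n * c.z₁ * n⁻¹ * c.z = n * c.z₂ * n⁻¹ := by
          conv_lhs => rw [← mul_inv_eq_iff_eq_mul.2 hn]
          rw [show n * c.z₁ * n⁻¹ * (n * c.z * n⁻¹) = n * (c.z₁ * c.z) * n⁻¹ by group,
            show c.z₁ * c.z = c.z₂ by rw [c.e_mul, cz_sq, one_mul]]
        rw [e]
        exact (isConj_iff.2 ⟨n, rfl⟩).symm.trans c.isConj_z₂_z₁
      obtain ⟨a, b, ha, hb, e | e⟩ := (c.memT _).1 (c.Q_le htQ)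
      · exact z1mem (e ▸ c.e_mem_J ha hb) hcls htz
      · exfalso
        rw [show c.ι (a, b) = c.e a b from rfl] at e
        have h2 : c.e a b * c.w * (c.e a b * c.w) = 1 := by
          rw [← e, show n * c.z₁ * n⁻¹ * (n * c.z₁ * n⁻¹) = n * (c.z₁ * c.z₁) * n⁻¹ by group, c.z₁_sq]
          group
        rw [mul_assoc, ← mul_assoc c.w, c.w_e, mul_assoc (c.e b a), c.w2, mul_one, c.e_mul,
          c.e_eq_one] at h2
        have hwa : IsConj c.w (c.e a b * c.w) := by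
          refine isConj_iff.2 ⟨c.e a 1, ?_⟩
          rw [c.e_inv, mul_assoc, c.w_e, ← mul_assoc, c.e_mul, inv_one, mul_one, one_mul,
            inv_eq_of_mul_eq_one_right h2.1]
        exact c.not_isConj_z₁_z ((hcls.symm.trans (e ▸ hwa.symm)).trans hw)
    have hy2 : y * y ∈ c.J := by
      refine c.mem_J_of_comm_pair (mul_inv_eq_iff_eq_mul.1 ?_) (Commute.mul_left hyz hyz)
      have hzy : y * c.z * y⁻¹ = c.z := mul_inv_eq_iff_eq_mul.2 hyz
      rw [show y * y * c.z₁ * (y * y)⁻¹ = y * (y * c.z₁ * y⁻¹) * y⁻¹ by group]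
      rcases hyc y hyz with e | e
      · rw [e, e]
      · rw [e, ← c.z_mul_z₁, show y * (c.z * c.z₁) * y⁻¹ = y * c.z * y⁻¹ * (y * c.z₁ * y⁻¹) by group, hzy,
          e, c.z_mul_z₂]
    have h8 : (c.e cx cx) ^ 8 = 1 := by
      have h := c.pow_four_of_mem_J hy2
      rw [← sq, ← pow_mul, hy, conj_pow, conj_eq_one_iff] at h
      exact h
    rw [e, ← map_pow, map_eq_one_iff _ c.inj, Prod.pow_mk, Prod.mk_eq_one] at h8
    exact absurd h8.1 (by decide +kernel)

end Cfg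

end CfsgLib.S4Wr
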