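import Cfsg.Agent.S4Wr.Sylow
import Cfsg.Agent.Small.ThompsonTransfer

/-!
# Fusion of the transposition `(cd, 1)`
-/

set_option autoImplicit false
set_option linter.style.haveILetI false
set_option linter.unusedSectionVars false

namespace CfsgLib.S4Wr

open Subgroup

namespace Cfg

variable {G : Type*} [Group G] [Finite G] (c : Cfg G)

/-- `U × D'`, the centralizer of `(cd, 1)` in `T`. -/
def X : Subgroup G where
  carrier := {g | ∃ a b : P4, InU a ∧ InD b ∧ g = c.e a b}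
  one_mem' := ⟨1, 1, Or.inl rfl, inD_one, c.e_one.symm⟩
  mul_mem' := by
    rintro _ _ ⟨a, b, ha, hb, rfl⟩ ⟨a', b', ha', hb', rfl⟩
    exact ⟨_, _, inU_mul ha ha', inD_mul hb hb', c.e_mul a b a' b'⟩
  inv_mem' := by
    rintro _ ⟨a, b, ha, hb, rfl⟩
    refine ⟨_, _, ?_, inD_inv hb, c.e_inv a b⟩
    rwa [inv_eq_of_mul_eq_one_left (inU_sq ha)]

theorem e_mem_X {a b : P4} (ha : InU a) (hb : InD b) : c.e a b ∈ c.X := ⟨a, b, ha, hb, rfl⟩

theorem X_le_J : c.X ≤ c.J := by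
  rintro _ ⟨a, b, ha, hb, rfl⟩
  exact c.e_mem_J ha.inD hb

theorem X_commutator {x y : G} (hx : x ∈ c.X) (hy : y ∈ c.X) :
    x * y * x⁻¹ * y⁻¹ = 1 ∨ x * y * x⁻¹ * y⁻¹ = c.z₂ := by
  obtain ⟨a, b, ha, hb, rfl⟩ := hx
  obtain ⟨p, q, hp, hq, rfl⟩ := hy
  rw [c.e_commutator, show a * p * a⁻¹ * p⁻¹ = 1 by
    rcases ha with rfl | rfl | rfl | rfl <;> rcases hp with rfl | rfl | rfl | rfl <;> decide +kernel]
  rcases inD_comm_mem hb hq with e | e <;> rw [e]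
  · exact Or.inl c.e_one
  · exact Or.inr rfl

theorem X_sq {x : G} (hx : x ∈ c.X) : x * x = 1 ∨ x * x = c.z₂ := by
  obtain ⟨a, b, ha, hb, rfl⟩ := hx
  rw [c.e_mul, inU_sq ha]
  rcases forall_inD (p := fun b => b * b = 1 ∨ b * b = cz) (by decide +kernel) hb with e | e <;> rw [e]
  · exact Or.inl c.e_one
  · exact Or.inr rfl

/-- The even part of `T`. -/
def T₀ : Subgroup G where
  carrier := {g | ∃ a b : P4, InD a ∧ InD b ∧ Equiv.Perm.sign a = Equiv.Perm.sign b ∧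
    (g = c.e a b ∨ g = c.e a b * c.w)}
  one_mem' := ⟨1, 1, inD_one, inD_one, rfl, Or.inl c.e_one.symm⟩
  mul_mem' := by
    rintro _ _ ⟨a, b, ha, hb, hs, rfl | rfl⟩ ⟨p, q, hp, hq, hs', rfl | rfl⟩
    · exact ⟨_, _, inD_mul ha hp, inD_mul hb hq, by simp [hs, hs'], Or.inl (c.e_mul a b p q)⟩
    · exact ⟨_, _, inD_mul ha hp, inD_mul hb hq, by simp [hs, hs'],
        Or.inr (by rw [← mul_assoc, c.e_mul])⟩
    · exact ⟨_, _, inD_mul ha hq, inD_mul hb hp, by simp [hs, hs'],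
        Or.inr (by rw [mul_assoc, c.w_e, ← mul_assoc, c.e_mul])⟩
    · refine ⟨_, _, inD_mul ha hq, inD_mul hb hp, by simp [hs, hs'],
        Or.inl (?_ : _ = c.e (a * q) (b * p))⟩
      rw [← c.e_mul a b q p, mul_assoc, ← mul_assoc c.w, c.w_e, mul_assoc _ c.w, c.w2, mul_one]
  inv_mem' := by
    rintro _ ⟨a, b, ha, hb, hs, rfl | rfl⟩
    · exact ⟨_, _, inD_inv ha, inD_inv hb, by simp [hs], Or.inl (c.e_inv a b)⟩
    · exact ⟨b⁻¹, a⁻¹, inD_inv hb, inD_inv ha, by simp [hs],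
        Or.inr (by rw [mul_inv_rev, c.w_inv, c.e_inv, c.w_e])⟩

theorem T₀_le : c.T₀ ≤ (c.T : Subgroup G) := by
  rintro g ⟨a, b, ha, hb, -, h⟩
  exact (c.memT g).2 ⟨a, b, ha, hb, h⟩

theorem T₀_relIndex : c.T₀.relIndex (c.T : Subgroup G) = 2 := by
  refine Subgroup.index_eq_two_iff.2 ⟨⟨c.e cd 1, c.e_mem inD_cd inD_one⟩, fun x => ?_⟩
  have hd : ¬ (c.e cd 1 ∈ c.T₀) := by
    rintro ⟨a, b, ha, hb, hs, h | h⟩
    · obtain ⟨rfl, rfl⟩ := c.e_eq_iff.1 h
      exact absurd hs (by decide +kernel)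
    · exact c.e_w_ne_e a b cd 1 h.symm
  simp only [mem_subgroupOf, Subgroup.coe_mul]
  obtain ⟨a, b, ha, hb, e⟩ := (c.memT _).1 x.2
  rcases Int.units_eq_one_or (Equiv.Perm.sign a * Equiv.Perm.sign b) with h | h
  · have hs : Equiv.Perm.sign a = Equiv.Perm.sign b := by
      rcases Int.units_eq_one_or (Equiv.Perm.sign a) with e1 | e1 <;>
        rcases Int.units_eq_one_or (Equiv.Perm.sign b) with e2 | e2 <;> simp_all
    have hx : (x : G) ∈ c.T₀ := ⟨a, b, ha, hb, hs, e⟩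
    exact Or.inr ⟨hx, fun h' => hd (by simpa using mul_mem (inv_mem hx) h')⟩
  · refine Or.inl ⟨?_, fun hx => ?_⟩
    · rcases e with e | e <;> rw [e]
      · refine ⟨a * cd, b, inD_mul ha inD_cd, hb, ?_, Or.inl (by rw [show c.ι (a, b) = c.e a b from rfl,
          c.e_mul, mul_one])⟩
        rw [map_mul, show Equiv.Perm.sign cd = -1 by decide +kernel]
        rcases Int.units_eq_one_or (Equiv.Perm.sign a) with e1 | e1 <;>
          rcases Int.units_eq_one_or (Equiv.Perm.sign b) with e2 | e2 <;> simp_all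
      · refine ⟨a, b * cd, ha, inD_mul hb inD_cd, ?_, Or.inr (by rw [show c.ι (a, b) = c.e a b from rfl,
          mul_assoc, c.w_e, ← mul_assoc, c.e_mul, mul_one])⟩
        rw [map_mul, show Equiv.Perm.sign cd = -1 by decide +kernel]
        rcases Int.units_eq_one_or (Equiv.Perm.sign a) with e1 | e1 <;>
          rcases Int.units_eq_one_or (Equiv.Perm.sign b) with e2 | e2 <;> simp_all
    · obtain ⟨p, q, hp, hq, hs, e'⟩ := hx
      rcases e with e | e <;> rcases e' with e' | e' <;> rw [e] at e'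
      · obtain ⟨rfl, rfl⟩ := c.e_eq_iff.1 e'
        rw [hs] at h; simp at h
      · exact c.e_w_ne_e p q a b e'.symm
      · exact c.e_w_ne_e a b p q e'
      · obtain ⟨rfl, rfl⟩ := c.e_eq_iff.1 (mul_right_cancel e')
        rw [hs] at h; simp at h

theorem orderOf_d : orderOf (c.e cd 1) = 2 :=
  orderOf_eq_prime (by rw [sq, c.e_mul, cd_sq, mul_one, c.e_one]) fun h => cd_ne (c.e_eq_one.1 h).1

/-- An involution of the even part is conjugate to `z₁`, `z`, `(cd,cd)` or `w`. -/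
theorem classes_T₀ {t : G} (ht : t ∈ c.T₀) (h2 : t * t = 1) (h1 : t ≠ 1) :
    IsConj t c.z₁ ∨ IsConj t c.z ∨ IsConj t (c.e cd cd) ∨ IsConj t c.w := by
  obtain ⟨a, b, ha, hb, hs, rfl | rfl⟩ := ht
  · rw [c.e_mul, c.e_eq_one] at h2
    by_cases ha1 : a = 1
    · subst ha1
      have hb1 : b ≠ 1 := fun e => h1 (by rw [e, c.e_one])
      have hbV : InV b := by
        rcases inD_involution hb h2.2 with rfl | rfl | rfl | rfl | rfl | rfl
        any_goals (first | exact Or.inl rfl | exact Or.inr (Or.inl rfl) | exact Or.inr (Or.inr (Or.inl rfl)) |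
          exact Or.inr (Or.inr (Or.inr rfl)))
        all_goals exact absurd hs (by decide +kernel)
      exact Or.inl (c.isConj_z₂_of_V hbV hb1)
    by_cases hb1 : b = 1
    · subst hb1
      have haV : InV a := by
        rcases inD_involution ha h2.1 with rfl | rfl | rfl | rfl | rfl | rfl
        any_goals (first | exact Or.inl rfl | exact Or.inr (Or.inl rfl) | exact Or.inr (Or.inr (Or.inl rfl)) |
          exact Or.inr (Or.inr (Or.inr rfl)))
        all_goals exact absurd hs (by decide +kernel)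
      exact Or.inl (c.isConj_z₁_of_V haV ha1)
    have key : ∀ a : P4, InD a → a * a = 1 → a ≠ 1 →
        (InV a ∧ Equiv.Perm.sign a = 1) ∨
          ((∃ σ : P4, σ * a * σ⁻¹ = cd) ∧ Equiv.Perm.sign a = -1) :=
      fun a ha => forall_inD (p := fun a => a * a = 1 → a ≠ 1 →
        (InV a ∧ Equiv.Perm.sign a = 1) ∨
          ((∃ σ : P4, σ * a * σ⁻¹ = cd) ∧ Equiv.Perm.sign a = -1)) (by decide +kernel) ha
    rcases key a ha h2.1 ha1 with ⟨hA, sA⟩ | ⟨hA, sA⟩ <;>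
      rcases key b hb h2.2 hb1 with ⟨hB, sB⟩ | ⟨hB, sB⟩
    · exact Or.inr (Or.inl (c.isConj_z_of_V hA hB ha1 hb1))
    · rw [sA, sB] at hs; exact absurd hs (by decide +kernel)
    · rw [sA, sB] at hs; exact absurd hs (by decide +kernel)
    · exact Or.inr (Or.inr (Or.inl (c.isConj_e hA hB)))
  · right; right; right
    rw [mul_assoc, ← mul_assoc c.w, c.w_e, mul_assoc (c.e b a), c.w2, mul_one, c.e_mul,
      c.e_eq_one] at h2
    refine (isConj_iff.2 ⟨c.e a 1, ?_⟩).symm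
    rw [c.e_inv, mul_assoc, c.w_e, ← mul_assoc, c.e_mul, inv_one, mul_one, one_mul,
      inv_eq_of_mul_eq_one_right h2.1]

theorem orderOf_w : orderOf c.w = 2 :=
  orderOf_eq_prime (by rw [sq, c.w2]) fun h => c.w_not (h ▸ one_mem _)

/-- A bijection `D × D → J`. -/
theorem card_X_lt : 2 * Nat.card c.X ≤ Nat.card c.J := by
  have hlt : c.X < c.J := lt_of_le_of_ne c.X_le_J fun h => by
    have : c.e cv 1 ∈ c.X := h ▸ c.e_mem_J inD_cv inD_one
    obtain ⟨a, b, ha, -, e⟩ := this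
    rw [(c.e_eq_iff.1 e).1.symm] at ha
    revert ha
    decide +kernel
  obtain ⟨k, hk⟩ := Subgroup.card_dvd_of_le c.X_le_J
  rcases k with _ | _ | k
  · rw [mul_zero] at hk; exact absurd hk Nat.card_pos.ne'
  · rw [Nat.zero_add, mul_one] at hk
    exact absurd (Subgroup.eq_of_le_of_card_ge c.X_le_J hk.le) hlt.ne
  · rw [hk]; nlinarith

theorem card_J_le : Nat.card c.J ≤ 2 * Nat.card c.X := by
  classical
  let f : c.X × Bool → c.J := fun p => ⟨(p.1 : G) * (if p.2 then c.e cv 1 else 1),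
    mul_mem (c.X_le_J p.1.2) (by cases p.2 <;> simp [c.e_mem_J inD_cv inD_one, one_mem])⟩
  refine le_of_le_of_eq (Nat.card_le_card_of_surjective f ?_) (by rw [Nat.card_prod]; simp [mul_comm])
  rintro ⟨_, a, b, ha, hb, rfl⟩
  rcases forall_inD (p := fun a => InU a ∨ InU (a * cv)) (by decide +kernel) ha with h | h
  · exact ⟨(⟨_, c.e_mem_X h hb⟩, false), Subtype.ext (mul_one _)⟩
  · refine ⟨(⟨_, c.e_mem_X h hb⟩, true), Subtype.ext ?_⟩
    show c.e (a * cv) b * c.e cv 1 = c.e a b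
    rw [c.e_mul, mul_assoc, cv_sq, mul_one, mul_one]

/-- If `d` is conjugate to neither `z₁` nor `z` then `U × D'` is a maximal 2-subgroup of its centralizer. -/
theorem eq_X_of_le (h1 : ¬ IsConj (c.e cd 1) c.z₁) (h2 : ¬ IsConj (c.e cd 1) c.z) {P : Subgroup G}
    (hP : IsPGroup 2 P) (hXP : c.X ≤ P) (hPd : ∀ p ∈ P, p * c.e cd 1 = c.e cd 1 * p) : P = c.X := by
  haveI : Fact (Nat.Prime 2) := ⟨Nat.prime_two⟩
  haveI : Group.IsNilpotent P := hP.isNilpotent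
  refine (eq_or_lt_of_le hXP).elim Eq.symm fun hlt => ?_
  exfalso
  have hlt' : c.X.subgroupOf P < ⊤ := lt_top_iff_ne_top.2 fun h =>
    hlt.not_ge (subgroupOf_eq_top.1 h)
  obtain ⟨m, hm, hmX⟩ := SetLike.exists_of_lt (Group.normalizerCondition_of_isNilpotent _ hlt')
  -- `m` fixes the commutator `z₂` of `X`
  have hconj : ∀ x ∈ c.X, (m : G) * x * (m : G)⁻¹ ∈ c.X := fun x hx =>
    mem_subgroupOf.1 ((mem_normalizer_iff.1 hm ⟨x, hXP hx⟩).1 (mem_subgroupOf.2 hx))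
  have hz : c.z₂ = c.e 1 cv * c.e 1 cd * (c.e 1 cv)⁻¹ * (c.e 1 cd)⁻¹ := by
    rw [c.e_commutator, show (1 : P4) * 1 * 1⁻¹ * 1⁻¹ = 1 by group,
      show cv * cd * cv⁻¹ * cd⁻¹ = cz by decide +kernel]
  have hmz : (m : G) * c.z₂ = c.z₂ * m := by
    refine mul_inv_eq_iff_eq_mul.1 ?_
    have hA := hconj _ (c.e_mem_X (Or.inl rfl) inD_cv)
    have hB := hconj _ (c.e_mem_X (Or.inl rfl) inD_cd)
    have e : (m : G) * c.z₂ * (m : G)⁻¹ = (m : G) * c.e 1 cv * (m : G)⁻¹ * ((m : G) * c.e 1 cd * (m : G)⁻¹) *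
        ((m : G) * c.e 1 cv * (m : G)⁻¹)⁻¹ * ((m : G) * c.e 1 cd * (m : G)⁻¹)⁻¹ := by
      rw [hz]; group
    rcases c.X_commutator hA hB with h | h
    · exact absurd (conj_eq_one_iff.1 (e.trans h)) c.z₂_ne
    · exact e.trans h
  let P₂ : Subgroup G := P ⊓ centralizer ({c.z₂} : Set G)
  have hXP₂ : c.X ≤ P₂ := fun x hx => mem_inf.2 ⟨hXP hx,
    mem_centralizer_singleton_iff.2 (c.comm_J_z₂ (c.X_le_J hx))⟩
  have hmP₂ : (m : G) ∈ P₂ := mem_inf.2 ⟨m.2, mem_centralizer_singleton_iff.2 hmz⟩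
  obtain ⟨g, hgz, hg⟩ := c.symm.exists_conj_mem_J (hP.to_le (inf_le_left : P₂ ≤ P))
    (fun p hp => mem_centralizer_singleton_iff.1 (mem_inf.1 hp).2)
  rw [c.symm_J] at hg
  let Y : Subgroup G := P₂.map (MulAut.conj g).toMonoidHom
  have hY : Y ≤ c.J := by rintro _ ⟨p, hp, rfl⟩; exact hg p hp
  have hcard : Nat.card c.J ≤ Nat.card Y := by
    refine c.card_J_le.trans ?_
    rw [← Nat.card_congr (P₂.equivMapOfInjective _ (MulAut.conj g).injective).toEquiv]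
    have hlt2 : c.X < P₂ := lt_of_le_of_ne hXP₂ fun h => hmX (mem_subgroupOf.2 (h ▸ hmP₂))
    obtain ⟨k, hk⟩ := Subgroup.card_dvd_of_le hXP₂
    rcases k with _ | _ | k
    · rw [mul_zero] at hk; exact absurd hk Nat.card_pos.ne'
    · rw [Nat.zero_add, mul_one] at hk
      exact absurd (Subgroup.eq_of_le_of_card_ge hXP₂ hk.le) hlt2.ne
    · rw [hk]; nlinarith
  have hYJ : Y = c.J := Subgroup.eq_of_le_of_card_ge hY hcard
  have hdP₂ : c.e cd 1 ∈ P₂ := hXP₂ (c.e_mem_X (Or.inr (Or.inr (Or.inl rfl))) inD_one)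
  obtain ⟨a, b, ha, hb, hab⟩ := hg _ hdP₂
  have hcomm : ∀ p q : P4, InD p → InD q → c.e a b * c.e p q = c.e p q * c.e a b := by
    intro p q hp hq
    obtain ⟨r, hr, e⟩ : c.e p q ∈ Y := hYJ ▸ c.e_mem_J hp hq
    rw [← hab, ← e]
    show g * c.e cd 1 * g⁻¹ * (g * r * g⁻¹) = g * r * g⁻¹ * (g * c.e cd 1 * g⁻¹)
    calc g * c.e cd 1 * g⁻¹ * (g * r * g⁻¹) = g * (c.e cd 1 * r) * g⁻¹ := by group
      _ = g * (r * c.e cd 1) * g⁻¹ := by rw [hPd r (inf_le_left (b := centralizer _) hr)]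
      _ = _ := by group
  have hc1 := c.e_comm_iff.1 (hcomm cv cv inD_cv inD_cv)
  have hc2 := c.e_comm_iff.1 (hcomm cd cd inD_cd inD_cd)
  have hne : c.e a b ≠ 1 := fun e => cd_ne (c.e_eq_one.1 (conj_eq_one_iff.1 (hab.trans e))).1
  rcases inD_central ha hc1.1 hc2.1 with rfl | rfl <;>
    rcases inD_central hb hc1.2 hc2.2 with rfl | rfl
  · exact hne c.e_one
  · exact h1 ((isConj_iff.2 ⟨g, hab⟩).trans c.isConj_z₂_z₁)
  · exact h1 (isConj_iff.2 ⟨g, hab⟩)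
  · exact h2 (isConj_iff.2 ⟨g, hab⟩)

theorem exists_conj_mem_X (h1 : ¬ IsConj (c.e cd 1) c.z₁) (h2 : ¬ IsConj (c.e cd 1) c.z) {P : Subgroup G}
    (hP : IsPGroup 2 P) (hPd : ∀ p ∈ P, p * c.e cd 1 = c.e cd 1 * p) :
    ∃ g : G, g * c.e cd 1 = c.e cd 1 * g ∧ ∀ p ∈ P, g * p * g⁻¹ ∈ c.X := by
  haveI : Fact (Nat.Prime 2) := ⟨Nat.prime_two⟩
  let C := centralizer ({c.e cd 1} : Set G)
  have hmem : ∀ x : G, x ∈ C ↔ x * c.e cd 1 = c.e cd 1 * x := fun x => mem_centralizer_singleton_iff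
  have hXC : c.X ≤ C := by
    rintro _ ⟨a, b, ha, hb, rfl⟩
    refine (hmem _).2 (c.e_comm_iff.2 ⟨?_, by simp⟩)
    rcases ha with rfl | rfl | rfl | rfl <;> decide +kernel
  let S : Sylow 2 C := ⟨c.X.subgroupOf C,
    (c.isPGroup_J.to_le c.X_le_J).comap_of_injective _ Subtype.val_injective, fun {P} hP hle => by
      have h := c.eq_X_of_le h1 h2 (P := P.map C.subtype) (hP.map _)
        (fun x hx => ⟨⟨x, hXC hx⟩, hle (mem_subgroupOf.2 hx), rfl⟩) (by
          rintro _ ⟨x, -, rfl⟩; exact (hmem _).1 x.2)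
      refine le_antisymm (fun x hx => mem_subgroupOf.2 ?_) hle
      rw [← h]; exact mem_map_of_mem _ hx⟩
  obtain ⟨R, hR⟩ := (hP.comap_of_injective C.subtype Subtype.val_injective).exists_le_sylow
  obtain ⟨g, hg⟩ := MulAction.exists_smul_eq C R S
  refine ⟨g, (hmem _).1 g.2, fun p hp => ?_⟩
  have h : g * (⟨p, (hmem p).2 (hPd p hp)⟩ : C) * g⁻¹ ∈ (S : Subgroup C) := by
    rw [← hg]
    exact ⟨⟨p, (hmem p).2 (hPd p hp)⟩, hR (mem_subgroupOf.2 hp), rfl⟩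
  exact mem_subgroupOf.1 h

/-- The transposition is conjugate to `z₁` or to `z`. -/
theorem d_class (hno : ∀ H : Subgroup G, H.index ≠ 2) :
    IsConj (c.e cd 1) c.z₁ ∨ IsConj (c.e cd 1) c.z := by
  by_contra hcon
  push Not at hcon
  obtain ⟨h1, h2⟩ := hcon
  obtain ⟨g, hg⟩ := Small.thompson_transfer_sylow hno c.T c.T₀ c.T₀_le c.T₀_relIndex c.orderOf_d
  have hconj : IsConj (c.e cd 1) (g⁻¹ * c.e cd 1 * g) := isConj_iff.2 ⟨g⁻¹, by group⟩
  have hsq : g⁻¹ * c.e cd 1 * g * (g⁻¹ * c.e cd 1 * g) = 1 := by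
    rw [show g⁻¹ * c.e cd 1 * g * (g⁻¹ * c.e cd 1 * g) = g⁻¹ * (c.e cd 1 * c.e cd 1) * g by group,
      c.e_mul, cd_sq, mul_one, c.e_one]
    group
  have hne : g⁻¹ * c.e cd 1 * g ≠ 1 := fun e => cd_ne (c.e_eq_one.1 (by
    rw [show c.e cd 1 = g * (g⁻¹ * c.e cd 1 * g) * g⁻¹ by group, e]; group)).1
  -- move the centralizer of the conjugate into `X`
  have move : ∀ t : G, IsConj (c.e cd 1) t → ∃ f : G, f * t * f⁻¹ = c.e cd 1 ∧
      ∀ x ∈ (c.T : Subgroup G), x * t = t * x → f * x * f⁻¹ ∈ c.X := by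
    intro t ht
    obtain ⟨f, hf⟩ := isConj_iff.1 ht.symm
    obtain ⟨g', hg'd, hg'⟩ := c.exists_conj_mem_X h1 h2
      (P := ((c.T : Subgroup G) ⊓ centralizer ({t} : Set G)).map (MulAut.conj f).toMonoidHom)
      ((c.T.isPGroup'.to_le inf_le_left).map _) (by
        rintro _ ⟨x, hx, rfl⟩
        show f * x * f⁻¹ * c.e cd 1 = c.e cd 1 * (f * x * f⁻¹)
        rw [← hf]
        calc f * x * f⁻¹ * (f * t * f⁻¹) = f * (x * t) * f⁻¹ := by group
          _ = f * (t * x) * f⁻¹ := by rw [mem_centralizer_singleton_iff.1 (mem_inf.1 hx).2]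
          _ = _ := by group)
    refine ⟨g' * f, ?_, fun x hx hxt => ?_⟩
    · rw [show g' * f * t * (g' * f)⁻¹ = g' * (f * t * f⁻¹) * g'⁻¹ by group, hf, hg'd]; group
    · have := hg' _ ⟨x, mem_inf.2 ⟨hx, mem_centralizer_singleton_iff.2 hxt⟩, rfl⟩
      rw [show g' * f * x * (g' * f)⁻¹ = g' * (f * x * f⁻¹) * g'⁻¹ by group]
      exact this
  rcases c.classes_T₀ hg hsq hne with h | h | h | h
  · exact h1 (hconj.trans h)
  · exact h2 (hconj.trans h)
  · obtain ⟨f, hf, hfX⟩ := move _ (hconj.trans h)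
    have hx : c.e cd 1 * c.w ∈ (c.T : Subgroup G) := mul_mem (c.e_mem inD_cd inD_one) c.w_mem
    have hsq' : c.e cd 1 * c.w * (c.e cd 1 * c.w) = c.e cd cd := by
      rw [mul_assoc, ← mul_assoc c.w, c.w_e, mul_assoc _ c.w, c.w2, mul_one, c.e_mul, mul_one, one_mul]
    have himg := c.X_sq (hfX _ hx (by
      rw [← hsq']; simp only [mul_assoc]))
    rw [show f * (c.e cd 1 * c.w) * f⁻¹ * (f * (c.e cd 1 * c.w) * f⁻¹) =
      f * (c.e cd 1 * c.w * (c.e cd 1 * c.w)) * f⁻¹ by group, hsq', hf] at himg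
    rcases himg with e | e
    · exact cd_ne (c.e_eq_one.1 e).1
    · exact cd_ne (c.e_eq_iff.1 e).1
  · obtain ⟨f, hf, hfX⟩ := move _ (hconj.trans h)
    have hc : ∀ p : P4, InD p → c.e p p * c.w = c.w * c.e p p := fun p _ => (c.w_e p p).symm
    have himg := c.X_commutator (hfX _ (c.e_mem inD_cv inD_cv) (hc _ inD_cv))
      (hfX _ (c.e_mem inD_cd inD_cd) (hc _ inD_cd))
    rw [show f * c.e cv cv * f⁻¹ * (f * c.e cd cd * f⁻¹) * (f * c.e cv cv * f⁻¹)⁻¹ * (f * c.e cd cd * f⁻¹)⁻¹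
      = f * (c.e cv cv * c.e cd cd * (c.e cv cv)⁻¹ * (c.e cd cd)⁻¹) * f⁻¹ by group, c.e_commutator,
      show cv * cd * cv⁻¹ * cd⁻¹ = cz by decide +kernel] at himg
    rcases himg with e | e
    · exact c.z_ne (conj_eq_one_iff.1 e)
    · exact c.not_isConj_z₂_z (isConj_iff.2 ⟨f, e⟩).symm

end Cfg

end CfsgLib.S4Wr
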