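import Cfsg.Agent.Forms.KleinPSL
import Cfsg.Agent.Linear.SL2Sylow
import Cfsg.Agent.DicksonPSL2.Borel
import Cfsg.Agent.DicksonPSL2.Subfield
import Cfsg.Agent.DicksonPSL2.Orders

/-!
# `PSL₂(q)` with involution centralizers of order eight
-/

set_option autoImplicit false
set_option linter.unusedSectionVars false

namespace CfsgLib.S4Wr

open Matrix CfsgLib.Forms.KleinPSL
open CfsgLib.DicksonPSL2 (u u_add u_injective card_PSL_formula gcd_two_cases)
open scoped MatrixGroups

theorem card_centralizer_equiv {X Y : Type*} [Group X] [Group Y] (e : X ≃* Y) (s : X) :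
    Nat.card (Subgroup.centralizer ({e s} : Set Y)) = Nat.card (Subgroup.centralizer ({s} : Set X)) := by
  refine Nat.card_congr (Equiv.subtypeEquiv e.toEquiv fun a => ?_).symm
  simp only [Subgroup.mem_centralizer_singleton_iff]
  show a * s = s * a ↔ e a * e s = e s * e a
  rw [← map_mul, ← map_mul, e.injective.eq_iff]

/-- Only `q = 7` and `q = 9` are possible. -/
theorem psl_of_centralizer_eight {F : Type} [Field F] [Fintype F] (hodd : Odd (Fintype.card F))
    (hF : 3 < Fintype.card F) {X : Type*} [Group X] [Finite X] (e : X ≃* PSL(2, F))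
    (hC : ∀ s : X, orderOf s = 2 → Nat.card (Subgroup.centralizer ({s} : Set X)) = 8)
    (h8 : ∃ m : ℕ, Odd m ∧ Nat.card X = 8 * m) :
    Nat.card X = 168 ∨ ∃ f : F →+ Additive X, Function.Injective f ∧ Fintype.card F = 9 ∧ (3 : F) = 0 := by
  have h2 : (2 : F) ≠ 0 := CfsgLib.Linear.two_ne_zero_of_odd hodd
  obtain ⟨x, hx⟩ := Inv53.sl2_exists_sq (F := F) h2
  have hs : orderOf (projHom x) = 2 := by
    refine orderOf_eq_prime ?_ fun h => ?_
    · rw [sq, ← map_mul, hx]; exact proj_eq_one_iff'.2 (Or.inr rfl)
    · rcases proj_eq_one_iff'.1 h with h | h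
      · exact (ne_one_and_neg_one h2 hx).1 h
      · exact (ne_one_and_neg_one h2 hx).2 h
  have hcard8 : Nat.card (Subgroup.centralizer ({projHom x} : Set (PSL(2, F)))) = 8 := by
    have hs' : orderOf (e.symm (projHom x)) = 2 :=
      (orderOf_injective e.symm.toMonoidHom e.symm.injective _).trans hs
    have h := card_centralizer_equiv e (e.symm (projHom x))
    rw [e.apply_symm_apply] at h
    rw [h]; exact hC _ hs'
  have hdvd : Nat.card (Subgroup.centralizer ({x} : Set SL(2, F))) ∣ 16 := by
    let φ : Subgroup.centralizer ({x} : Set SL(2, F)) →* Subgroup.centralizer ({projHom x} : Set (PSL(2, F))) :=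
      { toFun := fun y => ⟨projHom y, Subgroup.mem_centralizer_singleton_iff.2 (by
          rw [← map_mul, ← map_mul, Subgroup.mem_centralizer_singleton_iff.1 y.2])⟩
        map_one' := Subtype.ext (map_one _)
        map_mul' := fun a b => Subtype.ext (map_mul _ _ _) }
    have hker : Nat.card φ.ker ∣ 2 := by
      have hle : φ.ker.map (Subgroup.centralizer ({x} : Set SL(2, F))).subtype ≤ Subgroup.zpowers (-1) := by
        rintro _ ⟨y, hy, rfl⟩
        rcases proj_eq_one_iff'.1 (congrArg Subtype.val (MonoidHom.mem_ker.1 hy)) with h | h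
        · show (y : SL(2, F)) ∈ _
          rw [h]; exact one_mem _
        · show (y : SL(2, F)) ∈ _
          rw [h]; exact Subgroup.mem_zpowers _
      rw [Nat.card_congr (φ.ker.equivMapOfInjective (Subgroup.centralizer ({x} : Set SL(2, F))).subtype
        Subtype.val_injective).toEquiv]
      refine (Subgroup.card_dvd_of_le hle).trans ?_
      rw [Nat.card_zpowers]
      exact orderOf_dvd_of_pow_eq_one (by rw [sq, neg_mul_neg, one_mul])
    rw [← φ.ker.card_mul_index, Subgroup.index_ker, show (16 : ℕ) = 2 * 8 from rfl]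
    exact Nat.mul_dvd_mul hker (hcard8 ▸ φ.range.card_subgroup_dvd_card)
  obtain ⟨m, hm, hX⟩ := h8
  have hformula := card_PSL_formula F
  rw [show Nat.gcd 2 (Fintype.card F - 1) = 2 by
    rcases gcd_two_cases (F := F) with ⟨-, h, -⟩ | ⟨h, -⟩
    · exact h
    · exact absurd h (Nat.not_even_iff_odd.2 hodd), ← Nat.card_congr e.toEquiv, hX] at hformula
  have hq : Fintype.card F = 7 ∨ Fintype.card F = 9 := by
    have hq18 : Fintype.card F ≤ 17 := by
      rcases Nat.odd_mod_four_iff.1 (Nat.odd_iff.1 hodd) with h | h
      · rw [card_centralizer_one h2 hx h] at hdvd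
        have := Nat.le_of_dvd (by norm_num) hdvd
        omega
      · rw [card_centralizer_three h2 hx h] at hdvd
        have := Nat.le_of_dvd (by norm_num) hdvd
        omega
    obtain ⟨j, hj⟩ := hm
    rcases Nat.odd_mod_four_iff.1 (Nat.odd_iff.1 hodd) with h | h
    · rw [card_centralizer_one h2 hx h] at hdvd
      generalize Fintype.card F = q at *
      interval_cases q <;> omega
    · rw [card_centralizer_three h2 hx h] at hdvd
      generalize Fintype.card F = q at *
      interval_cases q <;> omega
  rcases hq with hq | hq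
  · left
    rw [hq] at hformula
    omega
  · right
    let f : F →+ Additive X := AddMonoidHom.mk' (fun a => Additive.ofMul (e.symm (u a))) fun a b => by
      rw [u_add, map_mul, ofMul_mul]
    refine ⟨f, fun a b h => u_injective (e.symm.injective (Additive.ofMul.injective h)), hq, ?_⟩
    have h9 : (9 : F) = 0 := by
      have := Nat.cast_card_eq_zero F
      rw [hq] at this
      exact_mod_cast this
    exact eq_zero_of_pow_eq_zero (n := 2) (by linear_combination h9)

end CfsgLib.S4Wr
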