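import Cfsg.Agent.S4Wr.Three
import Cfsg.Agent.S4Wr.Psl
import Cfsg.Agent.DGroupCent.Main
import Cfsg.Agent.DGroupCent.Fpf
import Cfsg.Agent.Inv54.Core
import Mathlib.GroupTheory.Solvable

/-!
# The group `C(V) ∩ C(x)`
-/

set_option autoImplicit false
set_option linter.style.haveILetI false
set_option linter.unusedSectionVars false

namespace CfsgLib.S4Wr

open Subgroup

/-- The cyclic subgroup of order four of `D₈`. -/
def InR (b : P4) : Prop := b = 1 ∨ b = cz ∨ b = cv * cd ∨ b = cd * cv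

instance (b : P4) : Decidable (InR b) := inferInstanceAs (Decidable (_ ∨ _ ∨ _ ∨ _))

theorem InR.inD {b : P4} (h : InR b) : InD b := by
  rcases h with rfl | rfl | rfl | rfl <;> decide +kernel

theorem cx_V : ∀ a : P4, InD a → a * cv = cv * a → a * cx = cx * a → a = 1 := by decide +kernel

theorem conj_targets : ∀ b : P4, InD b → b * b = 1 → b ≠ 1 →
    ∃ σ : P4, σ * b * σ⁻¹ = cz ∨ σ * b * σ⁻¹ = cd := by decide +kernel

namespace Cfg

variable {G : Type*} [Group G] [Finite G] (c : Cfg G)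

/-- `C(V) ∩ C(x₃)`. -/
def K₀ : Subgroup G :=
  centralizer ({c.z₁} : Set G) ⊓ centralizer ({c.e cv 1} : Set G) ⊓ centralizer ({c.x₃} : Set G)

theorem mem_K₀ {g : G} : g ∈ c.K₀ ↔
    g * c.z₁ = c.z₁ * g ∧ g * c.e cv 1 = c.e cv 1 * g ∧ g * c.x₃ = c.x₃ * g := by
  simp only [K₀, mem_inf, mem_centralizer_singleton_iff, and_assoc]

theorem e_mem_K₀ (b : P4) : c.e 1 b ∈ c.K₀ :=
  c.mem_K₀.2 ⟨c.e_comm_iff.2 ⟨by simp, by simp⟩, c.e_comm_iff.2 ⟨by simp, by simp⟩,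
    c.e_comm_iff.2 ⟨by simp, by simp⟩⟩

theorem comm_V_of_mem_K₀ {g : G} (hg : g ∈ c.K₀) {a : P4} (ha : InV a) :
    g * c.e a 1 = c.e a 1 * g := by
  obtain ⟨h1, h2, -⟩ := c.mem_K₀.1 hg
  rcases ha with rfl | rfl | rfl | rfl
  · simp [c.e_one]
  · exact h1
  · exact h2
  · rw [show c.e (cv * cz) 1 = c.e cv 1 * c.e cz 1 by rw [c.e_mul, mul_one]]
    exact Commute.mul_right h2 h1

theorem mem_of_comm_z₂ {g : G} (hg : g ∈ c.K₀) (h : g * c.z₂ = c.z₂ * g) :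
    ∃ b : P4, InD b ∧ g = c.e 1 b := by
  obtain ⟨h1, h2, h3⟩ := c.mem_K₀.1 hg
  obtain ⟨a, b, ha, hb, rfl⟩ := c.mem_J_of_comm_pair h1 (c.comm_z₁_z₂_iff.1 ⟨h1, h⟩).2
  obtain rfl := cx_V a ha (c.e_comm_iff.1 h2).1 (c.e_comm_iff.1 h3).1
  exact ⟨b, hb, rfl⟩

/-- The subgroup `1 × D'` of `K₀`. -/
def DK : Subgroup c.K₀ where
  carrier := {g | ∃ b : P4, InD b ∧ (g : G) = c.e 1 b}
  one_mem' := ⟨1, inD_one, c.e_one.symm⟩
  mul_mem' := by
    rintro g g' ⟨b, hb, e⟩ ⟨b', hb', e'⟩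
    exact ⟨b * b', inD_mul hb hb', by rw [Subgroup.coe_mul, e, e', c.e_mul, mul_one]⟩
  inv_mem' := by
    rintro g ⟨b, hb, e⟩
    exact ⟨b⁻¹, inD_inv hb, by rw [Subgroup.coe_inv, e, c.e_inv, inv_one]⟩

theorem mem_DK {g : c.K₀} : g ∈ c.DK ↔ ∃ b : P4, InD b ∧ (g : G) = c.e 1 b := Iff.rfl

theorem isPGroup_DK : IsPGroup 2 c.DK := by
  rintro ⟨g, b, hb, e⟩
  refine ⟨2, Subtype.ext (Subtype.ext ?_)⟩
  show (g : G) ^ 4 = 1
  rw [e]
  exact c.pow_four_of_mem_J (c.e_mem_J inD_one hb)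

/-- `1 × D'` is a Sylow 2-subgroup of `K₀`. -/
def SK : Sylow 2 c.K₀ :=
  ⟨c.DK, c.isPGroup_DK, fun {P} hP hle => by
    haveI : Fact (Nat.Prime 2) := ⟨Nat.prime_two⟩
    haveI : Group.IsNilpotent P := hP.isNilpotent
    refine (eq_or_lt_of_le hle).elim Eq.symm fun hlt => ?_
    exfalso
    have hlt' : c.DK.subgroupOf P < ⊤ := lt_top_iff_ne_top.2 fun h =>
      hlt.not_ge (subgroupOf_eq_top.1 h)
    obtain ⟨m, hm, hmD⟩ := SetLike.exists_of_lt (Group.normalizerCondition_of_isNilpotent _ hlt')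
    have hconj : ∀ y : c.K₀, y ∈ c.DK → ∃ b : P4, InD b ∧ ((m : c.K₀) : G) * y * ((m : c.K₀) : G)⁻¹ = c.e 1 b := by
      intro y hy
      obtain ⟨b, hb, e⟩ := c.mem_DK.1
        (mem_subgroupOf.1 ((mem_normalizer_iff.1 hm ⟨y, hle hy⟩).1 (mem_subgroupOf.2 hy)))
      exact ⟨b, hb, by simpa using e⟩
    obtain ⟨b1, hb1, e1⟩ := hconj ⟨c.e 1 cv, c.e_mem_K₀ cv⟩ ⟨cv, inD_cv, rfl⟩
    obtain ⟨b2, hb2, e2⟩ := hconj ⟨c.e 1 cd, c.e_mem_K₀ cd⟩ ⟨cd, inD_cd, rfl⟩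
    have hz : ((m : c.K₀) : G) * c.z₂ * ((m : c.K₀) : G)⁻¹ = c.e 1 (b1 * b2 * b1⁻¹ * b2⁻¹) := by
      have h := c.e_commutator 1 b1 1 b2
      rw [show (1 : P4) * 1 * 1⁻¹ * 1⁻¹ = 1 by group] at h
      rw [← h, ← e1, ← e2, show c.z₂ = c.e 1 cv * c.e 1 cd * (c.e 1 cv)⁻¹ * (c.e 1 cd)⁻¹ by
        rw [c.e_commutator, show (1 : P4) * 1 * 1⁻¹ * 1⁻¹ = 1 by group,
          show cv * cd * cv⁻¹ * cd⁻¹ = cz by decide +kernel]]
      group
    rcases inD_comm_mem hb1 hb2 with e | e <;> rw [e] at hz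
    · exact c.z₂_ne (conj_eq_one_iff.1 (hz.trans c.e_one))
    · obtain ⟨b, hb, e'⟩ := c.mem_of_comm_z₂ (m : c.K₀).2 (mul_inv_eq_iff_eq_mul.1 hz)
      exact hmD (mem_subgroupOf.2 ⟨b, hb, e'⟩)⟩

theorem SK_coe : (c.SK : Subgroup c.K₀) = c.DK := rfl

/-- All involutions of `K₀` are conjugate to `z₂`. -/
theorem one_class {k : G} (hk : k ∈ c.K₀) (hkd : k * c.e 1 cd * k⁻¹ = c.z₂) {s : c.K₀}
    (hs : orderOf s = 2) : ∃ g : c.K₀, g * s * g⁻¹ = ⟨c.z₂, c.e_mem_K₀ cz⟩ := by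
  haveI : Fact (Nat.Prime 2) := ⟨Nat.prime_two⟩
  have hp : IsPGroup 2 (zpowers s) := IsPGroup.of_card (n := 1) (by rw [Nat.card_zpowers, hs]; rfl)
  obtain ⟨R, hR⟩ := hp.exists_le_sylow
  obtain ⟨f, hf⟩ := MulAction.exists_smul_eq c.K₀ R c.SK
  have hfs : f * s * f⁻¹ ∈ c.DK := by
    rw [← c.SK_coe, ← hf]
    exact ⟨s, hR (mem_zpowers s), rfl⟩
  obtain ⟨b, hb, e⟩ := c.mem_DK.1 hfs
  have hsq : f * s * f⁻¹ * (f * s * f⁻¹) = 1 := by
    rw [show f * s * f⁻¹ * (f * s * f⁻¹) = f * (s * s) * f⁻¹ by group,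
      show s * s = 1 by rw [← sq, ← hs, pow_orderOf_eq_one]]
    group
  have hb2 : b * b = 1 := by
    have h := congrArg Subtype.val hsq
    rw [Subgroup.coe_mul, e, c.e_mul, mul_one, Subgroup.coe_one, c.e_eq_one] at h
    exact h.2
  have hb1 : b ≠ 1 := fun h => by
    rw [h, c.e_one] at e
    have h1 : f * s * f⁻¹ = 1 := Subtype.ext e
    rw [conj_eq_one_iff] at h1
    rw [h1, orderOf_one] at hs
    omega
  obtain ⟨σ, hσ | hσ⟩ := conj_targets b hb hb2 hb1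
  · refine ⟨⟨c.e 1 σ, c.e_mem_K₀ σ⟩ * f, Subtype.ext ?_⟩
    show c.e 1 σ * f * s * (c.e 1 σ * f)⁻¹ = c.z₂
    rw [show c.e 1 σ * (f : G) * s * (c.e 1 σ * f)⁻¹ = c.e 1 σ * ((f * s * f⁻¹ : c.K₀) : G) * (c.e 1 σ)⁻¹ by
      push_cast; group, e, c.e_conj, hσ]
    simp
  · refine ⟨⟨k, hk⟩ * ⟨c.e 1 σ, c.e_mem_K₀ σ⟩ * f, Subtype.ext ?_⟩
    show k * c.e 1 σ * f * s * (k * c.e 1 σ * f)⁻¹ = c.z₂
    rw [show k * c.e 1 σ * (f : G) * s * (k * c.e 1 σ * f)⁻¹ =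
      k * (c.e 1 σ * ((f * s * f⁻¹ : c.K₀) : G) * (c.e 1 σ)⁻¹) * k⁻¹ by push_cast; group, e, c.e_conj, hσ,
      show (1 : P4) * 1 * 1⁻¹ = 1 by group, hkd]

theorem one_class' {k : G} (hk : k ∈ c.K₀) (hkd : k * c.e 1 cd * k⁻¹ = c.z₂) {s t : c.K₀}
    (hs : orderOf s = 2) (ht : orderOf t = 2) : ∃ g : c.K₀, g * s * g⁻¹ = t := by
  obtain ⟨g, hg⟩ := c.one_class hk hkd hs
  obtain ⟨g', hg'⟩ := c.one_class hk hkd ht
  exact ⟨g'⁻¹ * g, by rw [show g'⁻¹ * g * s * (g'⁻¹ * g)⁻¹ = g'⁻¹ * (g * s * g⁻¹) * g' by group, hg, ← hg']; group⟩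

theorem orderOf_e1 {b : P4} (h2 : b * b = 1) (h1 : b ≠ 1) :
    orderOf (⟨c.e 1 b, c.e_mem_K₀ b⟩ : c.K₀) = 2 := by
  refine orderOf_eq_prime ?_ fun h => h1 (c.e_eq_one.1 (congrArg Subtype.val h)).2
  rw [sq]
  refine Subtype.ext ?_
  show c.e 1 b * c.e 1 b = 1
  rw [c.e_mul, h2, mul_one, c.e_one]

/-- A normal subgroup with an involution contains `1 × D'`. -/
theorem DK_le {k : G} (hk : k ∈ c.K₀) (hkd : k * c.e 1 cd * k⁻¹ = c.z₂) {N : Subgroup c.K₀}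
    [N.Normal] {s : c.K₀} (hs : orderOf s = 2) (hsN : s ∈ N) : c.DK ≤ N := by
  have hall : ∀ b : P4, b * b = 1 → b ≠ 1 → (⟨c.e 1 b, c.e_mem_K₀ b⟩ : c.K₀) ∈ N := by
    intro b hb hb1
    obtain ⟨g, hg⟩ := c.one_class' hk hkd hs (c.orderOf_e1 hb hb1)
    rw [← hg]; exact Subgroup.Normal.conj_mem ‹_› s hsN g
  intro g hg
  obtain ⟨b, hb, e⟩ := c.mem_DK.1 hg
  obtain ⟨p, q, hp, hq, rfl⟩ : ∃ p q : P4, p * p = 1 ∧ q * q = 1 ∧ b = p * q :=
    forall_inD (p := fun b => ∃ p q : P4, p * p = 1 ∧ q * q = 1 ∧ b = p * q) (by decide +kernel) hb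
  have hmem : ∀ p : P4, p * p = 1 → (⟨c.e 1 p, c.e_mem_K₀ p⟩ : c.K₀) ∈ N := by
    intro p hp
    by_cases h : p = 1
    · subst h
      rw [show (⟨c.e 1 1, c.e_mem_K₀ 1⟩ : c.K₀) = 1 from Subtype.ext c.e_one]
      exact one_mem _
    · exact hall p hp h
  rw [show g = ⟨c.e 1 p, c.e_mem_K₀ p⟩ * ⟨c.e 1 q, c.e_mem_K₀ q⟩ from Subtype.ext (by
    rw [e, Subgroup.coe_mul, c.e_mul, mul_one])]
  exact mul_mem (hmem p hp) (hmem q hq)

theorem oddCore_K₀ {k : G} (hk : k ∈ c.K₀) (hkd : k * c.e 1 cd * k⁻¹ = c.z₂) :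
    Cfsg.oddCore c.K₀ = ⊥ := by
  set O := Cfsg.oddCore c.K₀ with hO
  haveI : O.Normal := (inferInstance : (Cfsg.oddCore c.K₀).Normal)
  have hodd : Odd (Nat.card O) := CfsgLib.Inv54.odd_card_oddCore
  have hinv : ∀ s : c.K₀, orderOf s = 2 → ∀ y ∈ O, s * y * s⁻¹ = y⁻¹ := by
    intro s hs
    refine DGroupCent.inverts_of_fpf (by rw [← sq, ← hs, pow_orderOf_eq_one])
      (fun y hy => Subgroup.Normal.conj_mem ‹_› y hy s) fun y hy hys => ?_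
    obtain ⟨g, hg⟩ := c.one_class hk hkd hs
    have hy' : g * y * g⁻¹ ∈ O := Subgroup.Normal.conj_mem ‹_› y hy g
    obtain ⟨b, hb, e⟩ := c.mem_of_comm_z₂ (g * y * g⁻¹).2 (congrArg Subtype.val
      (show g * y * g⁻¹ * ⟨c.z₂, c.e_mem_K₀ cz⟩ = ⟨c.z₂, c.e_mem_K₀ cz⟩ * (g * y * g⁻¹) by
        rw [← hg]
        calc g * y * g⁻¹ * (g * s * g⁻¹) = g * (y * s) * g⁻¹ := by group
          _ = g * (s * y) * g⁻¹ := by rw [hys]
          _ = _ := by group))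
    have hoy : Odd (orderOf (g * y * g⁻¹)) := by
      have := Subgroup.orderOf_dvd_natCard (s := O) hy'
      exact Odd.of_dvd_nat hodd this
    have h4 : (g * y * g⁻¹) ^ 4 = 1 := Subtype.ext (by
      rw [Subgroup.coe_pow, e, Subgroup.coe_one]
      exact c.pow_four_of_mem_J (c.e_mem_J inD_one hb))
    exact conj_eq_one_iff.1 (eq_one_of_pow_four hoy h4 (pow_orderOf_eq_one _))
  rw [eq_bot_iff]
  intro y hy
  set s1 : c.K₀ := ⟨c.e 1 cz, c.e_mem_K₀ cz⟩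
  set s2 : c.K₀ := ⟨c.e 1 cv, c.e_mem_K₀ cv⟩
  have h1 := hinv s1 (c.orderOf_e1 cz_sq cz_ne) y hy
  have h2 := hinv s2 (c.orderOf_e1 cv_sq cv_ne) y hy
  have h3 := hinv (s1 * s2) (by
    have e : s1 * s2 = ⟨c.e 1 (cz * cv), c.e_mem_K₀ _⟩ := Subtype.ext (by
      rw [Subgroup.coe_mul]; show c.e 1 cz * c.e 1 cv = _; rw [c.e_mul, mul_one])
    rw [e]
    exact c.orderOf_e1 (by decide +kernel) (by decide +kernel)) y hy
  have h4 : s1 * s2 * y * (s1 * s2)⁻¹ = y := by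
    calc s1 * s2 * y * (s1 * s2)⁻¹ = s1 * (s2 * y * s2⁻¹) * s1⁻¹ := by group
      _ = (s1 * y * s1⁻¹)⁻¹ := by rw [h2]; group
      _ = y := by rw [h1, inv_inv]
  have hy2 : y * y = 1 := by
    have := h4.symm.trans h3
    nth_rewrite 1 [this]; simp
  have hoy : Odd (orderOf y) := Odd.of_dvd_nat hodd (Subgroup.orderOf_dvd_natCard (s := O) hy)
  refine mem_bot.2 (eq_one_of_pow_four hoy ?_ (pow_orderOf_eq_one y))
  rw [pow_succ, pow_succ, pow_succ, pow_one, hy2, one_mul, hy2]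

/-- `K₀` has no nontrivial abelian normal subgroup. -/
theorem no_abelian_normal {k : G} (hk : k ∈ c.K₀) (hkd : k * c.e 1 cd * k⁻¹ = c.z₂)
    (N : Subgroup c.K₀) [N.Normal] (hN : ∀ a ∈ N, ∀ b ∈ N, a * b = b * a) : N = ⊥ := by
  haveI : Fact (Nat.Prime 2) := ⟨Nat.prime_two⟩
  by_cases h2 : 2 ∣ Nat.card N
  · exfalso
    obtain ⟨s, hs⟩ := exists_prime_orderOf_dvd_card' 2 h2
    have hle := c.DK_le hk hkd (N := N) (s := (s : c.K₀)) (by rw [Subgroup.orderOf_coe, hs]) s.2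
    have h := congrArg Subtype.val (hN ⟨c.e 1 cv, c.e_mem_K₀ cv⟩ (hle ⟨cv, inD_cv, rfl⟩)
      ⟨c.e 1 cd, c.e_mem_K₀ cd⟩ (hle ⟨cd, inD_cd, rfl⟩))
    exact absurd (c.e_comm_iff.1 h).2 (by decide +kernel)
  · rw [eq_bot_iff, ← c.oddCore_K₀ hk hkd]
    exact CfsgLib.PLocal.le_pPrimeCore (CfsgLib.PLocal.not_dvd_iff_coprime.2 h2)

theorem card_DK : Nat.card c.DK = 8 := by
  classical
  let f : {b : P4 // b ∈ dList} → c.DK := fun b =>
    ⟨⟨c.e 1 b, c.e_mem_K₀ b⟩, b, (inD_iff _).2 b.2, rfl⟩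
  rw [← Nat.card_eq_of_bijective f ⟨fun a b h => Subtype.ext
    (c.e_eq_iff.1 (congrArg Subtype.val (congrArg Subtype.val h))).2, fun ⟨g, b, hb, e⟩ =>
      ⟨⟨b, (inD_iff b).1 hb⟩, Subtype.ext (Subtype.ext e.symm)⟩⟩, Nat.card_eq_fintype_card]
  decide +kernel

theorem card_centralizer_K₀ {k : G} (hk : k ∈ c.K₀) (hkd : k * c.e 1 cd * k⁻¹ = c.z₂) (s : c.K₀)
    (hs : orderOf s = 2) : Nat.card (centralizer ({s} : Set c.K₀)) = 8 := by
  obtain ⟨g, hg⟩ := c.one_class hk hkd hs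
  have h := card_centralizer_equiv (MulAut.conj g) s
  rw [show MulAut.conj g s = ⟨c.z₂, c.e_mem_K₀ cz⟩ from hg] at h
  rw [← h, show centralizer ({⟨c.z₂, c.e_mem_K₀ cz⟩} : Set c.K₀) = c.DK from ?_, c.card_DK]
  ext y
  rw [mem_centralizer_singleton_iff, c.mem_DK]
  constructor
  · exact fun h => c.mem_of_comm_z₂ y.2 (congrArg Subtype.val h)
  · rintro ⟨b, hb, e⟩
    refine Subtype.ext ?_
    show (y : G) * c.z₂ = c.z₂ * y
    rw [e]; exact c.e_comm_iff.2 ⟨rfl, hb⟩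

theorem d2_K₀ : DGroupCent.D2 c.K₀ := by
  let A : Subgroup c.K₀ :=
    { carrier := {g | ∃ b : P4, InR b ∧ (g : G) = c.e 1 b}
      one_mem' := ⟨1, Or.inl rfl, c.e_one.symm⟩
      mul_mem' := by
        rintro g g' ⟨b, hb, e⟩ ⟨b', hb', e'⟩
        refine ⟨b * b', ?_, by rw [Subgroup.coe_mul, e, e', c.e_mul, mul_one]⟩
        rcases hb with rfl | rfl | rfl | rfl <;> rcases hb' with rfl | rfl | rfl | rfl <;> decide +kernel
      inv_mem' := by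
        rintro g ⟨b, hb, e⟩
        refine ⟨b⁻¹, ?_, by rw [Subgroup.coe_inv, e, c.e_inv, inv_one]⟩
        rcases hb with rfl | rfl | rfl | rfl <;> decide +kernel }
  let t : c.K₀ := ⟨c.z₂, c.e_mem_K₀ cz⟩
  have hC : ∀ y : c.K₀, y ∈ centralizer ({t} : Set c.K₀) → ∃ b : P4, InD b ∧ (y : G) = c.e 1 b :=
    fun y hy => c.mem_of_comm_z₂ y.2 (congrArg Subtype.val (mem_centralizer_singleton_iff.1 hy))
  have hA : ∀ {y : c.K₀} {b : P4}, (y : G) = c.e 1 b → (y ∈ A ↔ InR b) := fun {y b} e =>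
    ⟨fun ⟨b', hb', e'⟩ => (c.e_eq_iff.1 (e.symm.trans e')).2 ▸ hb', fun h => ⟨b, h, e⟩⟩
  refine ⟨t, A, ⟨?_, ?_, c.orderOf_e1 cz_sq cz_ne, ⟨cz, Or.inr (Or.inl rfl), rfl⟩, ?_, ?_, ?_,
    ⟨c.e 1 cd, c.e_mem_K₀ cd⟩, ?_, ?_⟩⟩
  · rintro y ⟨b, hb, e⟩
    refine mem_centralizer_singleton_iff.2 (Subtype.ext ?_)
    show (y : G) * c.z₂ = c.z₂ * y
    rw [e]; exact c.e_comm_iff.2 ⟨rfl, hb.inD⟩
  · rintro y ⟨b, hb, e⟩ y' ⟨b', hb', e'⟩
    refine Subtype.ext ?_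
    rw [Subgroup.coe_mul, Subgroup.coe_mul, e, e']
    refine c.e_comm_iff.2 ⟨rfl, ?_⟩
    rcases hb with rfl | rfl | rfl | rfl <;> rcases hb' with rfl | rfl | rfl | rfl <;> decide +kernel
  · rintro y ⟨b, hb, e⟩ hy
    have h := congrArg Subtype.val hy
    rw [Subgroup.coe_mul, e, c.e_mul, Subgroup.coe_one, c.e_eq_one] at h
    rcases hb with rfl | rfl | rfl | rfl
    · exact Or.inl (Subtype.ext (e.trans c.e_one))
    · exact Or.inr (Subtype.ext e)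
    all_goals exact absurd h.2 (by decide +kernel)
  · intro y hy hyA
    obtain ⟨b, hb, e⟩ := hC y hy
    refine Subtype.ext ?_
    rw [Subgroup.coe_mul, e, c.e_mul, mul_one, Subgroup.coe_one, c.e_eq_one]
    refine ⟨rfl, forall_inD (p := fun b => ¬ InR b → b * b = 1) (by decide +kernel) hb fun h => ?_⟩
    exact hyA ((hA e).2 h)
  · intro y hy hyA z hz hzA
    obtain ⟨b, hb, e⟩ := hC y hy
    obtain ⟨b', hb', e'⟩ := hC z hz
    refine ⟨b * b', ?_, by rw [Subgroup.coe_mul, e, e', c.e_mul, mul_one]⟩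
    exact forall_inD (p := fun b => ∀ b' ∈ dList, ¬ InR b → ¬ InR b' → InR (b * b')) (by decide +kernel)
      hb b' ((inD_iff b').1 hb') (fun h => hyA ((hA e).2 h)) (fun h => hzA ((hA e').2 h))
  · refine mem_centralizer_singleton_iff.2 (Subtype.ext ?_)
    exact c.e_comm_iff.2 ⟨rfl, inD_cd⟩
  · exact fun h => absurd ((hA rfl).1 h) (by decide +kernel)

/-- The order of `K₀` is `168`, or it contains a subgroup of type `(3,3)`. -/
theorem K₀_cases {k : G} (hk : k ∈ c.K₀) (hkd : k * c.e 1 cd * k⁻¹ = c.z₂) :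
    Nat.card c.K₀ = 168 ∨ ∃ E : Subgroup G, E ≤ c.K₀ ∧ (∀ a ∈ E, ∀ b ∈ E, a * b = b * a) ∧
      (∀ a ∈ E, a ^ 3 = 1) ∧ Nat.card E = 9 := by
  haveI : Fact (Nat.Prime 2) := ⟨Nat.prime_two⟩
  have hns : ¬ Group.IsSolvable c.K₀ := by
    intro hsol
    haveI := hsol
    haveI : Nontrivial c.K₀ := ⟨1, ⟨c.z₂, c.e_mem_K₀ cz⟩, fun h => c.z₂_ne (congrArg Subtype.val h).symm⟩
    obtain ⟨N, hN, hN1, hNc⟩ : ∃ N : Subgroup c.K₀, N.Normal ∧ N ≠ ⊥ ∧ ∀ a ∈ N, ∀ b ∈ N, a * b = b * a := by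
      obtain ⟨n, hn⟩ := (Group.isSolvable_def c.K₀).1 hsol
      classical
      have hex : ∃ i, derivedSeries c.K₀ i = ⊥ := ⟨n, hn⟩
      have h0 : Nat.find hex ≠ 0 := by
        intro h
        have := Nat.find_spec hex
        rw [h, derivedSeries_zero] at this
        exact top_ne_bot this
      obtain ⟨i, hi⟩ := Nat.exists_eq_succ_of_ne_zero h0
      refine ⟨derivedSeries c.K₀ i, derivedSeries_normal _ _, Nat.find_min hex (hi ▸ i.lt_succ_self),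
        fun a ha b hb => commutatorElement_eq_one_iff_mul_comm.1 ?_⟩
      have := Nat.find_spec hex
      rw [hi, derivedSeries_succ] at this
      exact mem_bot.1 (this ▸ commutator_mem_commutator ha hb)
    exact hN1 (c.no_abelian_normal hk hkd N hNc)
  obtain hsol | ⟨F, iF, iT, hodd, h3, he⟩ := DGroupCent.good_of_d2 c.d2_K₀
  · exact absurd hsol hns
  let q := (QuotientGroup.quotientMulEquivOfEq (c.oddCore_K₀ hk hkd)).trans QuotientGroup.quotientBot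
  rcases he with he | he
  swap
  · -- a subgroup of index two would contain a Sylow 2-subgroup
    exfalso
    obtain ⟨e⟩ := he
    let e' := q.symm.trans e
    haveI := CfsgLib.DicksonPSL2.finite_PGL (F := F)
    let N : Subgroup c.K₀ := (CfsgLib.DicksonPSL2.toG (F := F)).range.comap e'.toMonoidHom
    haveI := CfsgLib.DicksonPSL2.normal_range_toG (F := F) hodd
    haveI : N.Normal := inferInstanceAs (((CfsgLib.DicksonPSL2.toG (F := F)).range.comap e'.toMonoidHom).Normal)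
    have hidx : N.index = 2 := by
      rw [show N.index = (CfsgLib.DicksonPSL2.toG (F := F)).range.index from
        index_comap_of_surjective _ e'.surjective]
      exact CfsgLib.DicksonPSL2.index_range_toG_odd hodd
    have h8 : 8 ∣ Nat.card c.K₀ := c.card_DK ▸ c.DK.card_subgroup_dvd_card
    have hN2 : 2 ∣ Nat.card N := by
      have := N.card_mul_index
      rw [hidx] at this
      omega
    obtain ⟨s, hs⟩ := exists_prime_orderOf_dvd_card' 2 hN2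
    have hle := c.DK_le hk hkd (N := N) (s := (s : c.K₀)) (by rw [Subgroup.orderOf_coe, hs]) s.2
    have := index_dvd_of_le hle
    rw [hidx] at this
    exact c.SK.not_dvd_index this
  obtain ⟨e⟩ := he
  have h8 : ∃ m : ℕ, Odd m ∧ Nat.card c.K₀ = 8 * m :=
    ⟨c.DK.index, Nat.not_even_iff_odd.1 fun h => c.SK.not_dvd_index (even_iff_two_dvd.1 h),
      by rw [← c.card_DK, card_mul_index]⟩
  rcases psl_of_centralizer_eight hodd h3 (q.symm.trans e)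
    (fun s hs => c.card_centralizer_K₀ hk hkd s hs) h8 with h | ⟨f, hf, hq, h3'⟩
  · exact Or.inl h
  right
  let φ : Multiplicative F →* G := c.K₀.subtype.comp (AddMonoidHom.toMultiplicativeLeft f)
  refine ⟨φ.range, ?_, ?_, ?_, ?_⟩
  · rintro _ ⟨a, rfl⟩
    exact (AddMonoidHom.toMultiplicativeLeft f a).2
  · rintro _ ⟨a, rfl⟩ _ ⟨b, rfl⟩
    rw [← map_mul, ← map_mul, mul_comm]
  · rintro _ ⟨a, rfl⟩
    rw [← map_pow, show a ^ 3 = 1 from Multiplicative.toAdd.injective (by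
      rw [toAdd_pow, toAdd_one, nsmul_eq_mul]; push_cast; rw [h3', zero_mul]), map_one]
  · have hinj : Function.Injective φ := fun a b h => by
      have := Subtype.val_injective h
      exact Multiplicative.toAdd.injective (hf (Additive.toMul.injective this))
    rw [← Nat.card_congr (MonoidHom.ofInjective hinj).toEquiv,
      Nat.card_congr Multiplicative.toAdd, Nat.card_eq_fintype_card, hq]

end Cfg

end CfsgLib.S4Wr
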