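import Cfsg.Agent.S4Wr.Fusion

/-!
# Moving `U × D'` into `J`
-/

set_option autoImplicit false
set_option linter.style.haveILetI false
set_option linter.unusedSectionVars false

namespace CfsgLib.S4Wr

open Subgroup

theorem inD_sq {a : P4} (ha : InD a) : a * a = 1 ∨ a * a = cz :=
  forall_inD (p := fun a => a * a = 1 ∨ a * a = cz) (by decide +kernel) ha

namespace Cfg

variable {G : Type*} [Group G] [Finite G] (c : Cfg G)

/-- In the case that `d` goes to `z`, the image of `z₂` is `z₁` or `z₂`. -/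
theorem image_z₂ {f : G} (hf : f * c.e cd 1 * f⁻¹ = c.z)
    (hfT : ∀ x ∈ c.X, f * x * f⁻¹ ∈ (c.T : Subgroup G)) :
    f * c.z₂ * f⁻¹ = c.z₁ ∨ f * c.z₂ * f⁻¹ = c.z₂ := by
  have hx4 : InD (cv * cd) := inD_mul inD_cv inD_cd
  set r := f * c.e 1 (cv * cd) * f⁻¹ with hr
  have hrT : r ∈ (c.T : Subgroup G) := hfT _ (c.e_mem_X (Or.inl rfl) hx4)
  have hr2 : r * r = f * c.z₂ * f⁻¹ := by
    rw [hr, show f * c.e 1 (cv * cd) * f⁻¹ * (f * c.e 1 (cv * cd) * f⁻¹) =
      f * (c.e 1 (cv * cd) * c.e 1 (cv * cd)) * f⁻¹ by group, c.e_mul,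
      show cv * cd * (cv * cd) = cz by decide +kernel, mul_one]
  have hcls : IsConj (f * c.z₂ * f⁻¹) c.z₁ :=
    (isConj_iff.2 ⟨f, rfl⟩).symm.trans c.isConj_z₂_z₁
  obtain ⟨a, b, ha, hb, e | e⟩ := (c.memT r).1 hrT
  · rw [show c.ι (a, b) = c.e a b from rfl] at e
    rw [← hr2, e, c.e_mul] at hcls ⊢
    rcases inD_sq ha with h | h <;> rcases inD_sq hb with h' | h' <;> rw [h, h'] at hcls ⊢
    · rw [c.e_one] at hcls
      exact absurd ((isConj_one_right.1 hcls)) c.z₁_ne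
    · exact Or.inr rfl
    · exact Or.inl rfl
    · exact absurd hcls.symm c.not_isConj_z₁_z
  · exfalso
    rw [show c.ι (a, b) = c.e a b from rfl] at e
    rw [← hr2, e, mul_assoc, ← mul_assoc c.w, c.w_e, mul_assoc _ c.w, c.w2, mul_one, c.e_mul] at hcls
    have hinv : a * b * (a * b) = 1 ∧ b * a * (b * a) = 1 := by
      obtain ⟨g, hg⟩ := isConj_iff.1 hcls
      have h : g * (c.e (a * b) (b * a) * c.e (a * b) (b * a)) * g⁻¹ = 1 := by
        rw [← c.z₁_sq, ← hg]; group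
      rw [conj_eq_one_iff, c.e_mul, c.e_eq_one] at h
      exact h
    have key := forall_inD (p := fun a => ∀ b ∈ dList, a * b * (a * b) = 1 →
      (a * b = 1 ∧ b * a = 1) ∨ (InV (a * b) ∧ InV (b * a) ∧ a * b ≠ 1 ∧ b * a ≠ 1) ∨
        ((a * b = cd ∨ a * b = cd * cz) ∧ (b * a = cd ∨ b * a = cd * cz))) (by decide +kernel)
      ha b ((inD_iff b).1 hb) hinv.1
    rcases key with ⟨h, h'⟩ | ⟨h, h', hn, hn'⟩ | ⟨h, h'⟩
    · rw [h, h', c.e_one] at hcls
      exact absurd (isConj_one_right.1 hcls) c.z₁_ne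
    · exact c.not_isConj_z₁_z (hcls.symm.trans (c.isConj_z_of_V h h' hn hn'))
    · -- the centralizer of such an element of order four is too small
      set u := f * c.z₁ * f⁻¹ with hu
      have huT : u ∈ (c.T : Subgroup G) := hfT _ (c.e_mem_X (Or.inr (Or.inl rfl)) inD_one)
      have hur : u * r = r * u := by
        rw [hu, hr, show f * c.z₁ * f⁻¹ * (f * c.e 1 (cv * cd) * f⁻¹) =
          f * (c.z₁ * c.e 1 (cv * cd)) * f⁻¹ by group,
          show f * c.e 1 (cv * cd) * f⁻¹ * (f * c.z₁ * f⁻¹) =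
          f * (c.e 1 (cv * cd) * c.z₁) * f⁻¹ by group, c.e_mul, c.e_mul, mul_one, one_mul,
          mul_one, one_mul]
      have hu2 : u * u = 1 := by
        rw [hu, show f * c.z₁ * f⁻¹ * (f * c.z₁ * f⁻¹) = f * (c.z₁ * c.z₁) * f⁻¹ by group, c.z₁_sq]
        group
      have hu1 : u ≠ 1 := fun h => c.z₁_ne (conj_eq_one_iff.1 h)
      have huz : u ≠ c.z := fun h => by
        rw [← hf] at h
        exact absurd (c.e_eq_iff.1 (mul_left_cancel (mul_right_cancel h))).1 (by decide +kernel)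
      have huζ : u ≠ r * r := fun h => by
        rw [hr2] at h
        exact c.z₁_ne_z₂ (mul_left_cancel (mul_right_cancel h))
      have huzζ : u ≠ c.z * (r * r) := fun h => by
        rw [hr2, ← hf, show f * c.e cd 1 * f⁻¹ * (f * c.z₂ * f⁻¹) = f * (c.e cd 1 * c.z₂) * f⁻¹ by group]
          at h
        have h := mul_left_cancel (mul_right_cancel h)
        rw [c.e_mul, c.e_eq_iff] at h
        exact absurd h.1 (by decide +kernel)
      rw [e] at hur huζ huzζ
      rw [mul_assoc (c.e a b) c.w, ← mul_assoc c.w, c.w_e, mul_assoc _ c.w, c.w2, mul_one, c.e_mul] at huζ huzζ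
      rw [c.e_mul] at huzζ
      obtain ⟨p, q, hp, hq, e' | e'⟩ := (c.memT u).1 huT
      · rw [show c.ι (p, q) = c.e p q from rfl] at e'
        rw [e'] at hur hu2 hu1 huz huζ huzζ
        rw [← mul_assoc, c.e_mul, mul_assoc (c.e a b), c.w_e, ← mul_assoc, c.e_mul] at hur
        obtain ⟨h1, h2⟩ := c.e_eq_iff.1 (mul_right_cancel hur)
        have hpc : p * (a * b) = a * b * p := by
          calc p * (a * b) = p * a * b := by group
            _ = a * (q * b) := by rw [h1, mul_assoc]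
            _ = a * b * p := by rw [h2, mul_assoc]
        have key2 := forall_inD (p := fun p => ∀ s ∈ dList, (s = cd ∨ s = cd * cz) → p * s = s * p →
          p = 1 ∨ p = cz ∨ p = s ∨ p = cz * s) (by decide +kernel) hp (a * b)
          ((inD_iff _).1 (inD_mul ha hb)) h hpc
        have hq' : q = a⁻¹ * p * a := by rw [mul_assoc, h1]; group
        rcases key2 with rfl | rfl | rfl | rfl
        · exact hu1 (by rw [hq', show a⁻¹ * 1 * a = (1 : P4) by group, c.e_one])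
        · exact huz (by rw [hq', show a⁻¹ * cz * a = cz by rw [mul_assoc, ← ha]; group])
        · exact huζ (by rw [hq', show a⁻¹ * (a * b) * a = b * a by group])
        · refine huzζ (c.e_eq_iff.2 ⟨rfl, ?_⟩)
          rw [hq', show a⁻¹ * (cz * (a * b)) * a = a⁻¹ * (cz * a) * (b * a) by group, ← ha]; group
      · rw [show c.ι (p, q) = c.e p q from rfl] at e'
        -- then `u r` is in the base and squares to `r²`
        have hcc : Commute u (c.e a b * c.w) := hur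
        have h4 : (u * (c.e a b * c.w)) * (u * (c.e a b * c.w)) = c.e (a * b) (b * a) := by
          calc (u * (c.e a b * c.w)) * (u * (c.e a b * c.w))
              = u * ((c.e a b * c.w) * u) * (c.e a b * c.w) := by group
            _ = (u * u) * ((c.e a b * c.w) * (c.e a b * c.w)) := by rw [← hcc.eq]; group
            _ = c.e (a * b) (b * a) := by
                rw [hu2, one_mul, mul_assoc, ← mul_assoc c.w, c.w_e, mul_assoc _ c.w, c.w2, mul_one,
                  c.e_mul]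
        rw [e', mul_assoc (c.e p q) c.w, ← mul_assoc c.w (c.e a b), c.w_e, mul_assoc _ c.w, c.w2,
          mul_one, c.e_mul, c.e_mul, c.e_eq_iff] at h4
        rcases inD_sq (inD_mul hp hb) with e1 | e1 <;> rw [h4.1] at e1 <;>
          rcases h with h | h <;> rw [h] at e1 <;> exact absurd e1 (by decide +kernel)

/-- An element fixing `z₂` that moves `(cd,1)` to `z₁` or `z` and `U × D'` into `J`. -/
theorem exists_move (hno : ∀ H : Subgroup G, H.index ≠ 2) :
    ∃ g : G, g * c.z₂ = c.z₂ * g ∧ (g * c.e cd 1 * g⁻¹ = c.z₁ ∨ g * c.e cd 1 * g⁻¹ = c.z) ∧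
      ∀ x ∈ c.X, g * x * g⁻¹ ∈ c.J := by
  haveI : Fact (Nat.Prime 2) := ⟨Nat.prime_two⟩
  have hXp : IsPGroup 2 c.X := c.isPGroup_J.to_le c.X_le_J
  have hcd : ∀ x ∈ c.X, x * c.e cd 1 = c.e cd 1 * x := by
    rintro _ ⟨a, b, ha, hb, rfl⟩
    refine c.e_comm_iff.2 ⟨?_, by simp⟩
    rcases ha with rfl | rfl | rfl | rfl <;> decide +kernel
  have hcj : ∀ f : G, ∀ x ∈ c.X, f * x * f⁻¹ * (f * c.e cd 1 * f⁻¹) = f * c.e cd 1 * f⁻¹ * (f * x * f⁻¹) := by
    intro f x hx
    calc f * x * f⁻¹ * (f * c.e cd 1 * f⁻¹) = f * (x * c.e cd 1) * f⁻¹ := by group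
      _ = f * (c.e cd 1 * x) * f⁻¹ := by rw [hcd x hx]
      _ = _ := by group
  have hz₂X : c.z₂ ∈ c.X := c.e_mem_X (Or.inl rfl) inD_cz
  -- correct an element by `w`
  rcases c.d_class hno with h | h
  · obtain ⟨f, hf⟩ := isConj_iff.1 h
    obtain ⟨n, hn, hn'⟩ := c.exists_conj_mem_J (P := c.X.map (MulAut.conj f).toMonoidHom) (hXp.map _) (by
      rintro _ ⟨x, hx, rfl⟩
      exact hf ▸ hcj f x hx)
    have hd : n * f * c.e cd 1 * (n * f)⁻¹ = c.z₁ := by
      rw [show n * f * c.e cd 1 * (n * f)⁻¹ = n * (f * c.e cd 1 * f⁻¹) * n⁻¹ by group, hf, hn]; group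
    have hX : ∀ x ∈ c.X, n * f * x * (n * f)⁻¹ ∈ c.J := fun x hx => by
      rw [show n * f * x * (n * f)⁻¹ = n * (f * x * f⁻¹) * n⁻¹ by group]
      exact hn' _ ⟨x, hx, rfl⟩
    refine ⟨n * f, ?_, Or.inl hd, hX⟩
    -- `z₂` is the square of an element of `X`
    obtain ⟨a, b, ha, hb, e⟩ := hX _ (c.e_mem_X (Or.inl rfl) (inD_mul inD_cv inD_cd))
    have e2 : n * f * c.z₂ * (n * f)⁻¹ = c.e (a * a) (b * b) := by
      rw [← c.e_mul, ← e, show c.z₂ = c.e 1 (cv * cd) * c.e 1 (cv * cd) by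
        rw [c.e_mul, show cv * cd * (cv * cd) = cz by decide +kernel, mul_one]]
      group
    refine mul_inv_eq_iff_eq_mul.1 ?_
    have hcls : IsConj c.z₂ (n * f * c.z₂ * (n * f)⁻¹) := isConj_iff.2 ⟨_, rfl⟩
    rcases inD_sq ha with h1 | h1 <;> rcases inD_sq hb with h2 | h2 <;> rw [h1, h2] at e2
    · exact absurd (conj_eq_one_iff.1 (e2.trans c.e_one)) c.z₂_ne
    · exact e2
    · exact absurd (mul_left_cancel (mul_right_cancel (e2.trans hd.symm))) fun h =>
        absurd (c.e_eq_iff.1 h).1 (Ne.symm cd_ne)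
    · rw [e2] at hcls
      exact absurd hcls c.not_isConj_z₂_z
  · obtain ⟨f, hf⟩ := isConj_iff.1 h
    obtain ⟨n, hn, hn'⟩ := c.exists_conj_mem_T (P := c.X.map (MulAut.conj f).toMonoidHom) (hXp.map _) (by
      rintro _ ⟨x, hx, rfl⟩
      exact hf ▸ hcj f x hx)
    have hd : n * f * c.e cd 1 * (n * f)⁻¹ = c.z := by
      rw [show n * f * c.e cd 1 * (n * f)⁻¹ = n * (f * c.e cd 1 * f⁻¹) * n⁻¹ by group, hf, hn]; group
    have hT : ∀ x ∈ c.X, n * f * x * (n * f)⁻¹ ∈ (c.T : Subgroup G) := fun x hx => by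
      rw [show n * f * x * (n * f)⁻¹ = n * (f * x * f⁻¹) * n⁻¹ by group]
      exact hn' _ ⟨x, hx, rfl⟩
    have hcz : ∀ x ∈ c.X, x * c.z₂ = c.z₂ * x := fun x hx => c.comm_J_z₂ (c.X_le_J hx)
    have hcomm : ∀ {k : G}, ∀ x ∈ c.X, k * x * k⁻¹ * (k * c.z₂ * k⁻¹) = k * c.z₂ * k⁻¹ * (k * x * k⁻¹) := by
      intro k x hx
      calc k * x * k⁻¹ * (k * c.z₂ * k⁻¹) = k * (x * c.z₂) * k⁻¹ := by group
        _ = k * (c.z₂ * x) * k⁻¹ := by rw [hcz x hx]
        _ = _ := by group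
    rcases c.image_z₂ hd hT with h2 | h2
    · have hk2 : c.w * (n * f) * c.z₂ * (c.w * (n * f))⁻¹ = c.z₂ := by
        rw [show c.w * (n * f) * c.z₂ * (c.w * (n * f))⁻¹ = c.w * (n * f * c.z₂ * (n * f)⁻¹) * c.w⁻¹ by group,
          h2, c.w_conj]
      refine ⟨c.w * (n * f), mul_inv_eq_iff_eq_mul.1 hk2, Or.inr ?_, fun x hx => ?_⟩
      · rw [show c.w * (n * f) * c.e cd 1 * (c.w * (n * f))⁻¹ =
          c.w * (n * f * c.e cd 1 * (n * f)⁻¹) * c.w⁻¹ by group, hd, c.w_conj]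
      · rw [show c.w * (n * f) * x * (c.w * (n * f))⁻¹ = c.w * (n * f * x * (n * f)⁻¹) * c.w⁻¹ by group]
        refine c.conj_mem_J c.w_mem (c.mem_J_of_comm (hT x hx) ?_)
        rw [← h2]; exact hcomm x hx
    · refine ⟨n * f, mul_inv_eq_iff_eq_mul.1 h2, Or.inr hd, fun x hx => ?_⟩
      exact c.symm_J ▸ c.symm.mem_J_of_comm (hT x hx) (show _ * c.z₂ = c.z₂ * _ by
        have := hcomm (k := n * f) x hx; rwa [h2] at this)

end Cfg

end CfsgLib.S4Wr
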