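import Cfsg.Agent.S4Wr.Move

/-!
# An element of `C(z₁)` normalizing `V × U'` and `U × U'`
-/

set_option autoImplicit false
set_option linter.style.haveILetI false
set_option linter.unusedSectionVars false

namespace CfsgLib.S4Wr

open Subgroup

/-- The four-group `U`. -/
def fU : Finset P4 := {1, cz, cd, cd * cz}

/-- The four-group `V`. -/
def fV : Finset P4 := {1, cz, cv, cv * cz}

theorem mem_fU {a : P4} : a ∈ fU ↔ InU a := by simp [fU, InU]

theorem mem_fV {a : P4} : a ∈ fV ↔ InV a := by simp [fV, InV]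

theorem card_fU : fU.card = 4 := by decide +kernel

theorem card_fV : fV.card = 4 := by decide +kernel

theorem not_inV_cd : ¬ InV cd := by decide +kernel

theorem not_inU_cv : ¬ InU cv := by decide +kernel

theorem inUV {a : P4} (hU : InU a) (hV : InV a) : a = 1 ∨ a = cz := by
  rcases hU with rfl | rfl | rfl | rfl
  · exact Or.inl rfl
  · exact Or.inr rfl
  all_goals exact absurd hV (by decide +kernel)

/-- `P = U` or `P = V`. -/
def UorV (P : Finset P4) : Prop := P = fU ∨ P = fV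

theorem UorV.card {P : Finset P4} (h : UorV P) : P.card = 4 := by
  rcases h with rfl | rfl; exacts [card_fU, card_fV]

theorem UorV.inD {P : Finset P4} (h : UorV P) {a : P4} (ha : a ∈ P) : InD a := by
  rcases h with rfl | rfl
  exacts [(mem_fU.1 ha).inD, (mem_fV.1 ha).inD]

theorem UorV.sq {P : Finset P4} (h : UorV P) {a : P4} (ha : a ∈ P) : a * a = 1 := by
  rcases h with rfl | rfl
  exacts [inU_sq (mem_fU.1 ha), inV_sq (mem_fV.1 ha)]

theorem UorV.comm {P : Finset P4} (h : UorV P) {a b : P4} (ha : a ∈ P) (hb : b ∈ P) : a * b = b * a := by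
  have hab : (a * b) * (a * b) = 1 := by
    rcases h with rfl | rfl
    exacts [inU_sq (inU_mul (mem_fU.1 ha) (mem_fU.1 hb)), inV_sq (inV_mul (mem_fV.1 ha) (mem_fV.1 hb))]
  calc a * b = (a * b)⁻¹ := (inv_eq_of_mul_eq_one_left hab).symm
    _ = b * a := by
      rw [mul_inv_rev, inv_eq_of_mul_eq_one_left (h.sq ha), inv_eq_of_mul_eq_one_left (h.sq hb)]

namespace Cfg

variable {G : Type*} [Group G] [Finite G] (c : Cfg G)

/-- `P × Q` as a finite set. -/
noncomputable def EF (P Q : Finset P4) : Finset G := by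
  classical exact (P ×ˢ Q).image fun p => c.e p.1 p.2

theorem mem_EF {P Q : Finset P4} {g : G} : g ∈ c.EF P Q ↔ ∃ a ∈ P, ∃ b ∈ Q, g = c.e a b := by
  classical
  simp [EF, eq_comm, Prod.exists, and_assoc]

theorem e_mem_EF {P Q : Finset P4} {a b : P4} (ha : a ∈ P) (hb : b ∈ Q) : c.e a b ∈ c.EF P Q :=
  c.mem_EF.2 ⟨a, ha, b, hb, rfl⟩

theorem card_EF {P Q : Finset P4} (hP : UorV P) (hQ : UorV Q) : (c.EF P Q).card = 16 := by
  classical
  have h : Function.Injective fun p : P4 × P4 => c.e p.1 p.2 := fun p q e => c.inj e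
  rw [EF, Finset.card_image_of_injective _ h, Finset.card_product, hP.card, hQ.card]

theorem EF_injective {P Q P' Q' : Finset P4} (hP : (1 : P4) ∈ P) (hQ : (1 : P4) ∈ Q)
    (h : c.EF P Q = c.EF P' Q') : P ⊆ P' ∧ Q ⊆ Q' := by
  constructor
  · intro a ha
    obtain ⟨a', ha', b', -, e⟩ := c.mem_EF.1 (h ▸ c.e_mem_EF ha hQ)
    exact (c.e_eq_iff.1 e).1 ▸ ha'
  · intro b hb
    obtain ⟨a', -, b', hb', e⟩ := c.mem_EF.1 (h ▸ c.e_mem_EF hP hb)
    exact (c.e_eq_iff.1 e).2 ▸ hb'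

/-- The image under conjugation. -/
noncomputable def img (g : G) (F : Finset G) : Finset G := F.map (MulAut.conj g).toEquiv.toEmbedding

theorem mem_img {g x : G} {F : Finset G} : x ∈ img g F ↔ ∃ y ∈ F, g * y * g⁻¹ = x := Finset.mem_map

theorem img_one (F : Finset G) : img 1 F = F := by
  ext x; simp [mem_img]

theorem img_mul (g k : G) (F : Finset G) : img (g * k) F = img g (img k F) := by
  ext x
  simp only [mem_img]
  constructor
  · rintro ⟨y, hy, rfl⟩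
    exact ⟨k * y * k⁻¹, ⟨y, hy, rfl⟩, by group⟩
  · rintro ⟨_, ⟨y, hy, rfl⟩, rfl⟩
    exact ⟨y, hy, by group⟩

theorem img_inv {g : G} {F F' : Finset G} (h : img g F = F') : img g⁻¹ F' = F := by
  rw [← h, ← img_mul, inv_mul_cancel, img_one]

theorem card_img (g : G) (F : Finset G) : (img g F).card = F.card := Finset.card_map _

theorem image_cases {g : G} {P Q : Finset P4} (hP : UorV P) (hQ : UorV Q)
    (hJ : ∀ x ∈ c.EF P Q, g * x * g⁻¹ ∈ c.J) :
    ∃ P' Q', UorV P' ∧ UorV Q' ∧ img g (c.EF P Q) = c.EF P' Q' := by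
  classical
  have hshape : ∀ x ∈ c.EF P Q, ∀ y ∈ c.EF P Q, ∀ a b a' b' : P4, InD a → InD b → InD a' → InD b' →
      g * x * g⁻¹ = c.e a b → g * y * g⁻¹ = c.e a' b' →
      ((InU a ∧ InU a') ∨ (InV a ∧ InV a')) ∧ ((InU b ∧ InU b') ∨ (InV b ∧ InV b')) := by
    intro x hx y hy a b a' b' ha hb ha' hb' ex ey
    have hsq : ∀ z ∈ c.EF P Q, ∀ p q : P4, g * z * g⁻¹ = c.e p q → p * p = 1 ∧ q * q = 1 := by
      intro z hz p q e
      obtain ⟨s, hs, t, ht, rfl⟩ := c.mem_EF.1 hz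
      refine c.e_eq_one.1 ?_
      rw [← c.e_mul, ← e, show g * c.e s t * g⁻¹ * (g * c.e s t * g⁻¹) = g * (c.e s t * c.e s t) * g⁻¹ by
        group, c.e_mul, hP.sq hs, hQ.sq ht, c.e_one]
      group
    have hxy : c.e a b * c.e a' b' = c.e a' b' * c.e a b := by
      obtain ⟨s, hs, t, ht, rfl⟩ := c.mem_EF.1 hx
      obtain ⟨s', hs', t', ht', rfl⟩ := c.mem_EF.1 hy
      have h := c.e_comm_iff.2 ⟨hP.comm hs hs', hQ.comm ht ht'⟩
      rw [← ex, ← ey]
      calc g * c.e s t * g⁻¹ * (g * c.e s' t' * g⁻¹) = g * (c.e s t * c.e s' t') * g⁻¹ := by group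
        _ = g * (c.e s' t' * c.e s t) * g⁻¹ := by rw [h]
        _ = _ := by group
    obtain ⟨h1, h2⟩ := c.e_comm_iff.1 hxy
    exact ⟨inU_inV_of_comm ha ha' (hsq x hx a b ex).1 (hsq y hy a' b' ey).1 h1,
      inU_inV_of_comm hb hb' (hsq x hx a b ex).2 (hsq y hy a' b' ey).2 h2⟩
  have key : ∀ (pr : P4 × P4 → P4),
      (∀ x ∈ c.EF P Q, ∀ y ∈ c.EF P Q, ∀ a b a' b' : P4, InD a → InD b → InD a' → InD b' →
        g * x * g⁻¹ = c.e a b → g * y * g⁻¹ = c.e a' b' →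
        (InU (pr (a, b)) ∧ InU (pr (a', b'))) ∨ (InV (pr (a, b)) ∧ InV (pr (a', b')))) →
      ∃ P', UorV P' ∧ ∀ x ∈ c.EF P Q, ∀ a b : P4, InD a → InD b → g * x * g⁻¹ = c.e a b →
        pr (a, b) ∈ P' := by
    intro pr h
    by_cases hU : ∀ x ∈ c.EF P Q, ∀ a b : P4, InD a → InD b → g * x * g⁻¹ = c.e a b → InU (pr (a, b))
    · exact ⟨fU, Or.inl rfl, fun x hx a b ha hb e => mem_fU.2 (hU x hx a b ha hb e)⟩
    push Not at hU
    obtain ⟨x, hx, a, b, ha, hb, e, hn⟩ := hU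
    exact ⟨fV, Or.inr rfl, fun y hy a' b' ha' hb' e' => mem_fV.2
      ((h x hx y hy a b a' b' ha hb ha' hb' e e').resolve_left fun h => hn h.1).2⟩
  obtain ⟨P', hP', h1⟩ := key Prod.fst fun x hx y hy a b a' b' ha hb ha' hb' e e' =>
    (hshape x hx y hy a b a' b' ha hb ha' hb' e e').1
  obtain ⟨Q', hQ', h2⟩ := key Prod.snd fun x hx y hy a b a' b' ha hb ha' hb' e e' =>
    (hshape x hx y hy a b a' b' ha hb ha' hb' e e').2
  refine ⟨P', Q', hP', hQ', Finset.eq_of_subset_of_card_le ?_ ?_⟩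
  · intro z hz
    obtain ⟨x, hx, rfl⟩ := mem_img.1 hz
    obtain ⟨a, b, ha, hb, e⟩ := hJ x hx
    exact c.mem_EF.2 ⟨a, h1 x hx a b ha hb e, b, h2 x hx a b ha hb e, e⟩
  · rw [card_img, c.card_EF hP hQ, c.card_EF hP' hQ']

theorem img_EF_of_mem_J {j : G} (hj : j ∈ c.J) {P Q : Finset P4} (hP : UorV P) (hQ : UorV Q) :
    img j (c.EF P Q) = c.EF P Q := by
  refine Finset.eq_of_subset_of_card_le ?_ (by rw [card_img])
  intro z hz
  obtain ⟨x, hx, rfl⟩ := mem_img.1 hz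
  obtain ⟨a, b, ha, hb, rfl⟩ := hj
  obtain ⟨s, hs, t, ht, rfl⟩ := c.mem_EF.1 hx
  have hinv : ∀ {R : Finset P4}, UorV R → ∀ {p u : P4}, InD p → u ∈ R → p * u * p⁻¹ ∈ R := by
    intro R hR p u hp hu
    rcases hR with rfl | rfl
    · exact forall_inD (p := fun p => ∀ u ∈ fU, p * u * p⁻¹ ∈ fU) (by decide +kernel) hp u hu
    · exact mem_fV.2 ((mem_fV.1 hu).conj p)
  rw [c.e_conj]
  exact c.e_mem_EF (hinv hP ha hs) (hinv hQ hb ht)

/-- The transvection-inducing element. -/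
theorem exists_normalizing (hno : ∀ H : Subgroup G, H.index ≠ 2) :
    ∃ h : G, h * c.z₁ = c.z₁ * h ∧ (h * c.e 1 cd * h⁻¹ = c.z₂ ∨ h * c.e 1 cd * h⁻¹ = c.z) ∧
      img h (c.EF fU fU) = c.EF fU fU ∧ img h (c.EF fV fU) = c.EF fV fU := by
  classical
  obtain ⟨h, hz1, hd, hX⟩ := c.symm.exists_move hno
  refine ⟨h, hz1, hd, ?_⟩
  have hXJ : ∀ {P : Finset P4}, UorV P → ∀ x ∈ c.EF P fU, h * x * h⁻¹ ∈ c.J := by
    intro P hP x hx
    obtain ⟨a, ha, b, hb, rfl⟩ := c.mem_EF.1 hx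
    rw [← c.symm_J]
    exact hX _ ⟨b, a, mem_fU.1 hb, hP.inD ha, rfl⟩
  obtain ⟨P₁, Q₁, hP₁, hQ₁, e₁⟩ := c.image_cases (Or.inl rfl) (Or.inl rfl) (hXJ (Or.inl rfl))
  obtain ⟨P₂, Q₂, hP₂, hQ₂, e₂⟩ := c.image_cases (Or.inr rfl) (Or.inl rfl) (hXJ (Or.inr rfl))
  have one_mem' : ∀ {P : Finset P4}, UorV P → (1 : P4) ∈ P := by
    rintro P (rfl | rfl) <;> simp [fU, fV]
  -- equal second components
  have hQ : Q₁ = Q₂ := by
    by_contra hne
    obtain ⟨q₁, hq₁, q₂, hq₂, hq⟩ : ∃ q₁ ∈ Q₁, ∃ q₂ ∈ Q₂, q₁ * q₂ * q₁⁻¹ * q₂⁻¹ = cz := by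
      rcases hQ₁ with rfl | rfl <;> rcases hQ₂ with rfl | rfl
      · exact absurd rfl hne
      · decide +kernel
      · decide +kernel
      · exact absurd rfl hne
    obtain ⟨x, hx, ex⟩ := mem_img.1 (e₁ ▸ c.e_mem_EF (one_mem' hP₁) hq₁)
    obtain ⟨y, hy, ey⟩ := mem_img.1 (e₂ ▸ c.e_mem_EF (one_mem' hP₂) hq₂)
    obtain ⟨a, ha, b, hb, rfl⟩ := c.mem_EF.1 hx
    obtain ⟨p, hp, q, hq', rfl⟩ := c.mem_EF.1 hy
    have h' := congrArg (fun x : G × G => x.1 * x.2 * x.1⁻¹ * x.2⁻¹) (Prod.ext (x := (h * c.e a b * h⁻¹, h * c.e p q * h⁻¹))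
      (y := (c.e 1 q₁, c.e 1 q₂)) ex ey)
    simp only at h'
    rw [c.e_commutator, hq, show h * c.e a b * h⁻¹ * (h * c.e p q * h⁻¹) * (h * c.e a b * h⁻¹)⁻¹ *
      (h * c.e p q * h⁻¹)⁻¹ = h * (c.e a b * c.e p q * (c.e a b)⁻¹ * (c.e p q)⁻¹) * h⁻¹ by group,
      c.e_commutator, show (1 : P4) * 1 * 1⁻¹ * 1⁻¹ = 1 by group] at h'
    have hbq : b * q * b⁻¹ * q⁻¹ = 1 := by
      rw [UorV.comm (P := fU) (Or.inl rfl) hb hq']; group
    rw [hbq] at h'
    rcases inD_comm_mem (UorV.inD (Or.inl rfl) ha) (UorV.inD (Or.inr rfl) hp) with e | e <;> rw [e] at h'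
    · rw [c.e_one, mul_one, mul_inv_cancel] at h'
      exact c.z₂_ne h'.symm
    · exact c.z₁_ne_z₂ ((mul_inv_eq_iff_eq_mul.2 hz1).symm.trans h')
  subst hQ
  have hPne : P₁ ≠ P₂ := by
    rintro rfl
    have h := congrArg (img h⁻¹) (e₁.trans e₂.symm)
    rw [← img_mul, ← img_mul, inv_mul_cancel, img_one, img_one] at h
    exact absurd ((c.EF_injective (one_mem' (Or.inl rfl)) (one_mem' (Or.inl rfl)) h).1
      (show cd ∈ fU by decide +kernel)) (by decide +kernel)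
  -- `A` and `B` are not conjugate
  have hAB : ∀ g : G, img g (c.EF fU fU) = c.EF fV fV → False := by
    intro g hg
    refine c.not_conj_A_B g⁻¹ (fun a b ha hb => ?_) fun a b ha hb => ?_
    · obtain ⟨y, hy, e⟩ := mem_img.1 (hg ▸ c.e_mem_EF (mem_fV.2 ha) (mem_fV.2 hb))
      obtain ⟨p, hp, q, hq, rfl⟩ := c.mem_EF.1 hy
      exact ⟨p, q, mem_fU.1 hp, mem_fU.1 hq, by rw [← e]; group⟩
    · have := (mem_img (g := g)).2 ⟨_, c.e_mem_EF (mem_fU.2 ha) (mem_fU.2 hb), rfl⟩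
      rw [hg] at this
      obtain ⟨p, hp, q, hq, e⟩ := c.mem_EF.1 this
      exact ⟨p, q, mem_fV.1 hp, mem_fV.1 hq, by rw [inv_inv]; exact e⟩
  have hw : ∀ {P Q : Finset P4}, UorV P → UorV Q → img c.w (c.EF P Q) = c.EF Q P := by
    intro P Q hP hQ
    refine Finset.eq_of_subset_of_card_le ?_ (by rw [card_img, c.card_EF hP hQ, c.card_EF hQ hP])
    intro z hz
    obtain ⟨x, hx, rfl⟩ := mem_img.1 hz
    obtain ⟨a, ha, b, hb, rfl⟩ := c.mem_EF.1 hx
    rw [c.w_conj]; exact c.e_mem_EF hb ha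
  rcases hQ₁ with rfl | rfl
  swap
  · exfalso
    rcases hP₁ with rfl | rfl <;> rcases hP₂ with rfl | rfl
    · exact hPne rfl
    · refine hAB (h * c.w * h) ?_
      rw [img_mul, img_mul, e₁, hw (Or.inl rfl) (Or.inr rfl), e₂]
    · exact hAB h e₁
    · exact hPne rfl
  rcases hP₁ with rfl | rfl <;> rcases hP₂ with rfl | rfl
  · exact absurd rfl hPne
  · exact ⟨e₁, e₂⟩
  · -- `h` would interchange two classes of subgroups
    exfalso
    let N : Subgroup G :=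
      { carrier := {n | n * c.z₁ = c.z₁ * n ∧
          ((img n (c.EF fU fU) = c.EF fU fU ∧ img n (c.EF fV fU) = c.EF fV fU) ∨
           (img n (c.EF fU fU) = c.EF fV fU ∧ img n (c.EF fV fU) = c.EF fU fU))}
        one_mem' := ⟨by simp, Or.inl ⟨img_one _, img_one _⟩⟩
        mul_mem' := by
          rintro m n ⟨hm, hm'⟩ ⟨hn, hn'⟩
          refine ⟨Commute.mul_left hm hn, ?_⟩
          rcases hm' with ⟨a, b⟩ | ⟨a, b⟩ <;> rcases hn' with ⟨a', b'⟩ | ⟨a', b'⟩ <;>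
            simp only [img_mul, a', b', a, b, and_self, true_or, or_true]
        inv_mem' := by
          rintro n ⟨hn, hn'⟩
          refine ⟨Commute.inv_left hn, ?_⟩
          rcases hn' with ⟨a, b⟩ | ⟨a, b⟩
          · exact Or.inl ⟨img_inv a, img_inv b⟩
          · exact Or.inr ⟨img_inv b, img_inv a⟩ }
    let K : Subgroup G :=
      { carrier := {n | n * c.z₁ = c.z₁ * n ∧
          img n (c.EF fU fU) = c.EF fU fU ∧ img n (c.EF fV fU) = c.EF fV fU}
        one_mem' := ⟨by simp, img_one _, img_one _⟩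
        mul_mem' := by
          rintro m n ⟨hm, a, b⟩ ⟨hn, a', b'⟩
          exact ⟨Commute.mul_left hm hn, by rw [img_mul, a', a], by rw [img_mul, b', b]⟩
        inv_mem' := by
          rintro n ⟨hn, a, b⟩
          exact ⟨Commute.inv_left hn, img_inv a, img_inv b⟩ }
    have hhN : h ∈ N := ⟨hz1, Or.inr ⟨e₁, e₂⟩⟩
    have hhK : ∀ n : G, n ∈ N → n ∉ K → n * h ∈ K := by
      rintro n ⟨hn, hn'⟩ hnK
      rcases hn' with ⟨a, b⟩ | ⟨a, b⟩
      · exact absurd ⟨hn, a, b⟩ hnK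
      · exact ⟨Commute.mul_left hn hz1, by rw [img_mul, e₁, b], by rw [img_mul, e₂, a]⟩
    have hJK : c.J ≤ K := fun j hj => ⟨c.comm_J_z₁ hj, c.img_EF_of_mem_J hj (Or.inl rfl) (Or.inl rfl),
      c.img_EF_of_mem_J hj (Or.inr rfl) (Or.inl rfl)⟩
    have hKN : K ≤ N := fun n hn => ⟨hn.1, Or.inl hn.2⟩
    have hne : h ∉ K := fun hk => hPne (by
      have hh := hk.2.1.symm.trans e₁
      exact (Finset.eq_of_subset_of_card_le ((c.EF_injective (one_mem' (Or.inl rfl)) (one_mem' (Or.inl rfl)) hh).1)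
        (by rw [card_fU, card_fV])).symm)
    have hidx : K.relIndex N = 2 := by
      refine Subgroup.index_eq_two_iff.2 ⟨⟨h, hhN⟩, fun x => ?_⟩
      simp only [mem_subgroupOf, Subgroup.coe_mul]
      by_cases hx : (x : G) ∈ K
      · exact Or.inr ⟨hx, fun h' => hne (by simpa using mul_mem (inv_mem hx) h')⟩
      · exact Or.inl ⟨hhK x x.2 hx, hx⟩
    haveI : Fact (Nat.Prime 2) := ⟨Nat.prime_two⟩
    let S : Sylow 2 N := ⟨c.J.subgroupOf N, c.isPGroup_J.comap_of_injective _ Subtype.val_injective,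
      fun {P} hP hle => by
        have h := c.eq_J_of_le (P := P.map N.subtype) (hP.map _)
          (fun x hx => ⟨⟨x, hKN (hJK hx)⟩, hle (mem_subgroupOf.2 hx), rfl⟩) (by
            rintro _ ⟨x, -, rfl⟩; exact x.2.1)
        refine le_antisymm (fun x hx => mem_subgroupOf.2 ?_) hle
        rw [← h]; exact mem_map_of_mem _ hx⟩
    refine S.not_dvd_index ?_
    show 2 ∣ c.J.relIndex N
    rw [← Subgroup.relIndex_mul_relIndex c.J K N hJK hKN, hidx]
    exact dvd_mul_left 2 _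
  · exact absurd rfl hPne

end Cfg

end CfsgLib.S4Wr
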