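import Cfsg.Agent.S4Wr.Cent
import Cfsg.Agent.PLocal.Cores

/-!
# The centralizers of pairs of commuting involutions
-/

set_option autoImplicit false
set_option linter.style.haveILetI false
set_option linter.unusedSectionVars false

namespace CfsgLib.S4Wr

open Subgroup

namespace Cfg

variable {G : Type*} [Group G] [Finite G] (c : Cfg G)

theorem z_mem_Q : c.z ∈ c.Q :=
  c.Q_cent c.z rfl fun _ hq => (c.comm_z_of_mem (c.Q_le hq)).symm

theorem Q_conj_T {t q : G} (ht : t ∈ (c.T : Subgroup G)) (hq : q ∈ c.Q) : t * q * t⁻¹ ∈ c.Q :=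
  c.Q_norm t (c.comm_z_of_mem ht) q hq

theorem Q_commutator {t q : G} (ht : t ∈ (c.T : Subgroup G)) (hq : q ∈ c.Q) :
    q * t * q⁻¹ * t⁻¹ ∈ c.Q := by
  have h := mul_mem hq (c.Q_conj_T ht (inv_mem hq))
  rwa [show q * (t * q⁻¹ * t⁻¹) = q * t * q⁻¹ * t⁻¹ by group] at h

theorem z₁_mem_of_noncentral {a b a' : P4} (ha' : InD a')
    (h : c.e a b ∈ c.Q) (e : a * a' * a⁻¹ * a'⁻¹ = cz) : c.z₁ ∈ c.Q := by
  have h1 := c.Q_commutator (c.e_mem ha' inD_one) h
  rwa [c.e_commutator, e, show b * 1 * b⁻¹ * (1 : P4)⁻¹ = 1 by group] at h1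

theorem z₁_mem_Q : c.z₁ ∈ c.Q := by
  by_contra hz1
  have hz2 : c.z₂ ∉ c.Q := fun h => hz1 (by
    rw [← c.z_mul_z₂]; exact mul_mem c.z_mem_Q h)
  have hbase : ∀ a b : P4, InD a → InD b → c.e a b ∈ c.Q → c.e a b = 1 ∨ c.e a b = c.z := by
    intro a b ha hb h
    rcases inD_noncentral ha with rfl | rfl | ⟨a', ha', e⟩
    rotate_left 2
    · exact absurd (c.z₁_mem_of_noncentral ((inD_iff a').2 ha') h e) hz1
    all_goals
      rcases inD_noncentral hb with rfl | rfl | ⟨b', hb', e⟩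
      rotate_left 2
      · exact absurd (c.symm.z₁_mem_of_noncentral ((inD_iff b').2 hb') h e) hz2
    · exact Or.inl c.e_one
    · exact absurd h hz2
    · exact absurd h hz1
    · exact Or.inr rfl
  have hout : ∀ q ∈ c.Q, q = 1 ∨ q = c.z := by
    intro q hq
    obtain ⟨a, b, ha, hb, rfl | rfl⟩ := (c.memT q).1 (c.Q_le hq)
    · exact hbase a b ha hb hq
    · exfalso
      have h := c.Q_commutator (c.e_mem inD_cv inD_one) hq
      rw [show c.ι (a, b) = c.e a b from rfl, c.ew_conj, c.e_inv, c.e_mul] at h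
      have hD : InD (b * cv * b⁻¹ * (1 : P4)⁻¹) := by
        rw [inv_one, mul_one]; exact inD_mul (inD_mul hb inD_cv) (inD_inv hb)
      have hD' : InD (a * 1 * a⁻¹ * cv⁻¹) := by
        rw [show a * 1 * a⁻¹ * cv⁻¹ = cv⁻¹ by group]; exact inD_inv inD_cv
      rcases hbase _ _ hD' hD h with e | e
      · rw [c.e_eq_one] at e
        exact cv_ne (inv_eq_one.1 (by simpa using e.1))
      · rw [c.e_eq_iff] at e
        exact absurd (show cv⁻¹ = cz by simpa using e.1) (by decide +kernel)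
  have h := c.Q_cent (c.e cv 1) (c.comm_z_of_mem (c.e_mem inD_cv inD_one)) fun q hq => by
    rcases hout q hq with rfl | rfl
    · simp
    · exact c.comm_z_of_mem (c.e_mem inD_cv inD_one)
  rcases hout _ h with e | e
  · exact cv_ne (c.e_eq_one.1 e).1
  · exact cz_ne (c.e_eq_iff.1 e).2.symm

/-- The centralizer of `z₁` and `z₂` as a subgroup. -/
def H : Subgroup G := centralizer ({c.z₁} : Set G) ⊓ centralizer ({c.z} : Set G)

theorem mem_H {g : G} : g ∈ c.H ↔ g * c.z₁ = c.z₁ * g ∧ g * c.z = c.z * g := by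
  simp only [H, mem_inf, mem_centralizer_singleton_iff]

theorem J_le_H : c.J ≤ c.H := fun _ h =>
  c.mem_H.2 ⟨c.comm_J_z₁ h, c.comm_z_of_mem (c.J_le h)⟩

theorem isPGroup_J : IsPGroup 2 c.J := c.T.isPGroup'.to_le c.J_le

/-- An element of odd order centralizing `z₁` and `z₂` centralizes `R = Q ∩ J`. -/
theorem comm_of_odd {y q : G} (hy : y ∈ c.H) (hodd : Odd (orderOf y)) (hq : q ∈ c.Q) (hqJ : q ∈ c.J) :
    y * q = q * y := by
  haveI : Fact (Nat.Prime 2) := ⟨Nat.prime_two⟩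
  let JH : Subgroup c.H := c.J.subgroupOf c.H
  have hmaxJ : ∀ {P : Subgroup c.H}, IsPGroup 2 P → JH ≤ P → P = JH := by
    intro P hP hle
    have h := c.eq_J_of_le (P := P.map c.H.subtype) (hP.map _) (fun g hg =>
      ⟨⟨g, c.J_le_H hg⟩, hle (mem_subgroupOf.2 hg), rfl⟩) (by
        rintro _ ⟨g, -, rfl⟩; exact (c.mem_H.1 g.2).1)
    refine le_antisymm (fun g hg => mem_subgroupOf.2 ?_) hle
    rw [← h]; exact mem_map_of_mem _ hg
  let S : Sylow 2 c.H := ⟨JH, c.isPGroup_J.comap_of_injective _ Subtype.val_injective, hmaxJ⟩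
  let N : Subgroup c.H := center c.H ⊓ JH
  haveI : N.Normal := ⟨fun n hn g => by
    rwa [mem_center_iff.1 (mem_inf.1 hn).1 g, mul_inv_cancel_right]⟩
  let π := QuotientGroup.mk' N
  let S' : Sylow 2 (c.H ⧸ N) := S.mapSurjective (f := π) (QuotientGroup.mk'_surjective N)
  have hS' : (S' : Subgroup (c.H ⧸ N)) = JH.map π := rfl
  have hzc : ∀ x : c.H, ((x : G) = 1 ∨ (x : G) = c.z₁ ∨ (x : G) = c.z₂ ∨ (x : G) = c.z) → x ∈ N := by
    intro x hx
    refine mem_inf.2 ⟨mem_center_iff.2 fun g => Subtype.ext ?_, mem_subgroupOf.2 ?_⟩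
    · show (g : G) * x = x * g
      obtain ⟨h1, h2⟩ := c.mem_H.1 g.2
      rcases hx with e | e | e | e <;> rw [e]
      · simp
      · exact h1
      · exact ((c.comm_z₁_z₂_iff).2 ⟨h1, h2⟩).2
      · exact h2
    · rcases hx with e | e | e | e <;> rw [e]
      · exact one_mem _
      · exact c.e_mem_J inD_cz inD_one
      · exact c.e_mem_J inD_one inD_cz
      · exact c.e_mem_J inD_cz inD_cz
  have hab : ∀ u ∈ (S' : Subgroup (c.H ⧸ N)), ∀ v ∈ (S' : Subgroup (c.H ⧸ N)), u * v = v * u := by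
    rw [hS']
    rintro _ ⟨u, hu, rfl⟩ _ ⟨v, hv, rfl⟩
    obtain ⟨a, b, ha, hb, eu⟩ := mem_subgroupOf.1 hu
    obtain ⟨p, q, hp, hq, ev⟩ := mem_subgroupOf.1 hv
    rw [← commutatorElement_eq_one_iff_mul_comm, ← map_commutatorElement]
    refine (QuotientGroup.eq_one_iff _).2 (hzc _ ?_)
    rw [commutatorElement_def]
    simp only [Subgroup.coe_mul, Subgroup.coe_inv, eu, ev, c.e_commutator]
    rcases inD_comm_mem ha hp with e1 | e1 <;> rcases inD_comm_mem hb hq with e2 | e2 <;>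
      rw [e1, e2] <;> simp [c.e_one]
  have hN : normalizer ((S' : Subgroup (c.H ⧸ N)) : Set (c.H ⧸ N)) ≤
      centralizer ((S' : Subgroup (c.H ⧸ N)) : Set (c.H ⧸ N)) := by
    intro u hu
    obtain ⟨n, rfl⟩ := QuotientGroup.mk'_surjective N u
    have hnJ : (n : G) ∈ c.J := by
      refine c.mem_J_of_comm ?_ (c.mem_H.1 n.2).1
      rw [← c.normalizer_J, Subgroup.mem_normalizer_iff_map_conj_eq]
      refine Subgroup.eq_of_le_of_card_ge ?_ (le_of_eq (Subgroup.card_map_of_injective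
        (MulAut.conj (n : G)).injective).symm)
      rintro _ ⟨x, hx, rfl⟩
      have h := (mem_normalizer_iff.1 hu (π ⟨x, c.J_le_H hx⟩)).1
        (by rw [hS']; exact mem_map_of_mem _ (mem_subgroupOf.2 hx))
      rw [hS', ← map_inv, ← map_mul, ← map_mul] at h
      obtain ⟨j, hj, ej⟩ := mem_map.1 h
      have hjn := (QuotientGroup.eq (s := N)).1 ej
      have := mul_mem hj (mem_inf.1 hjn).2
      rw [mul_inv_cancel_left] at this
      exact mem_subgroupOf.1 this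
    intro v hv
    exact hab v hv (π n) (by rw [hS']; exact mem_map_of_mem _ (mem_subgroupOf.2 hnJ))
  let f : c.H →* (S' : Subgroup (c.H ⧸ N)) := (MonoidHom.transferSylow S' hN).comp π
  have hcompl := MonoidHom.ker_transferSylow_isComplement' S' hN
  have hy' : f ⟨y, hy⟩ = 1 := by
    obtain ⟨k, hk⟩ := IsPGroup.iff_card.1 S'.isPGroup'
    have h1 : orderOf (f ⟨y, hy⟩) ∣ orderOf y := by
      have := orderOf_map_dvd f (⟨y, hy⟩ : c.H)
      rwa [← Subgroup.orderOf_coe (⟨y, hy⟩ : c.H)] at this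
    have h2 : orderOf (f ⟨y, hy⟩) ∣ 2 ^ k := hk ▸ orderOf_dvd_natCard _
    have h3 : orderOf (f ⟨y, hy⟩) ∣ Nat.gcd (orderOf y) (2 ^ k) := Nat.dvd_gcd h1 h2
    rw [(Nat.coprime_two_right.2 hodd).pow_right k, Nat.dvd_one, orderOf_eq_one_iff] at h3
    exact h3
  have hyz : y * c.z = c.z * y := (c.mem_H.1 hy).2
  have hy1 : y * c.z₁ = c.z₁ * y := (c.mem_H.1 hy).1
  have hq'Q : y * q * y⁻¹ ∈ c.Q := c.Q_norm y hyz q hq
  have hq'J : y * q * y⁻¹ ∈ c.J := c.mem_J_of_comm (c.Q_le hq'Q)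
    (Commute.mul_left (Commute.mul_left hy1 (c.comm_J_z₁ hqJ)) (Commute.inv_left hy1))
  let yy : c.H := ⟨y, hy⟩
  let qq : c.H := ⟨q, c.J_le_H hqJ⟩
  let r : c.H := yy * qq * yy⁻¹ * qq⁻¹
  have hrJ : (r : G) ∈ c.J := mul_mem hq'J (inv_mem hqJ)
  have hfr : f r = 1 := by
    simp only [r, map_mul, map_inv, yy]
    rw [hy']
    group
  have hrN : r ∈ N := by
    rw [← QuotientGroup.eq_one_iff]
    exact Subgroup.disjoint_def.1 hcompl.disjoint (show π r ∈ (MonoidHom.transferSylow S' hN).ker from hfr)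
      (show π r ∈ (S' : Subgroup (c.H ⧸ N)) from hS' ▸ mem_map_of_mem _ (mem_subgroupOf.2 hrJ))
  have hcy : Commute y (r : G) := congrArg Subtype.val (mem_center_iff.1 (mem_inf.1 hrN).1 yy)
  have hyq : y * q * y⁻¹ = (r : G) * q := by simp [r, yy, qq, mul_assoc]
  have hpow : ∀ i : ℕ, y ^ i * q * (y ^ i)⁻¹ = (r : G) ^ i * q := by
    intro i
    induction i with
    | zero => simp
    | succ i ih =>
      rw [pow_succ' y i, show y * y ^ i * q * (y * y ^ i)⁻¹ = y * (y ^ i * q * (y ^ i)⁻¹) * y⁻¹ by group,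
        ih, pow_succ (r : G) i, mul_assoc _ (r : G), ← hyq]
      have := (hcy.pow_right i).eq
      calc y * ((r : G) ^ i * q) * y⁻¹ = y * (r : G) ^ i * (q * y⁻¹) := by group
        _ = (r : G) ^ i * (y * q * y⁻¹) := by rw [this]; group
  have h := hpow (orderOf y)
  rw [pow_orderOf_eq_one, one_mul, inv_one, mul_one] at h
  have hr1 : (r : G) = 1 := eq_one_of_pow_four hodd (c.pow_four_of_mem_J hrJ) (right_eq_mul.1 h)
  rw [hr1, one_mul] at hyq
  exact mul_inv_eq_iff_eq_mul.1 hyq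

theorem eq_one_of_odd_H {y : G} (hy : y ∈ c.H) (hodd : Odd (orderOf y)) : y = 1 := by
  have hyz : y * c.z = c.z * y := (c.mem_H.1 hy).2
  have hy1 : y * c.z₁ = c.z₁ * y := (c.mem_H.1 hy).1
  have hcent : ∀ q ∈ c.Q, y * q = q * y := by
    intro q hq
    by_cases hqJ : q ∈ c.J
    · exact c.comm_of_odd hy hodd hq hqJ
    have hq' : y * q * y⁻¹ ∈ c.Q := c.Q_norm y hyz q hq
    have hq'J : y * q * y⁻¹ ∉ c.J := by
      intro h
      refine hqJ (c.mem_J_of_comm (c.Q_le hq) ?_)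
      have h1 : Commute (y * q * y⁻¹) c.z₁ := c.comm_J_z₁ h
      have h2 := Commute.mul_left (Commute.mul_left (Commute.inv_left hy1) h1) hy1
      rwa [show y⁻¹ * (y * q * y⁻¹) * y = q by group] at h2
    have hr := c.mem_T_mul_of_not_mem (c.Q_le hq) (c.Q_le hq') hqJ hq'J
    have hrQ : y * q * y⁻¹ * q⁻¹ ∈ c.Q := mul_mem hq' (inv_mem hq)
    have hry : Commute y (y * q * y⁻¹ * q⁻¹) := c.comm_of_odd hy hodd hrQ hr
    set r := y * q * y⁻¹ * q⁻¹ with hrdef
    have hyq : y * q * y⁻¹ = r * q := by rw [hrdef]; group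
    have hpow : ∀ i : ℕ, y ^ i * q * (y ^ i)⁻¹ = r ^ i * q := by
      intro i
      induction i with
      | zero => simp
      | succ i ih =>
        rw [pow_succ' y i, show y * y ^ i * q * (y * y ^ i)⁻¹ = y * (y ^ i * q * (y ^ i)⁻¹) * y⁻¹ by group,
          ih, pow_succ r i, mul_assoc _ r, ← hyq]
        calc y * (r ^ i * q) * y⁻¹ = y * r ^ i * (q * y⁻¹) := by group
          _ = r ^ i * (y * q * y⁻¹) := by rw [(hry.pow_right i).eq]; group
    have h := hpow (orderOf y)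
    rw [pow_orderOf_eq_one, one_mul, inv_one, mul_one] at h
    have hr1 : r = 1 := eq_one_of_pow_four hodd (c.pow_four_of_mem_J hr) (right_eq_mul.1 h)
    rw [hr1, one_mul] at hyq
    exact mul_inv_eq_iff_eq_mul.1 hyq
  have hyQ := c.Q_le (c.Q_cent y hyz hcent)
  exact eq_one_of_pow_four hodd (c.pow_four_of_mem_J (c.mem_J_of_comm hyQ hy1)) (pow_orderOf_eq_one y)

/-- **`C(z₁) ∩ C(z) = J`.** -/
theorem mem_J_of_comm_pair {g : G} (h1 : g * c.z₁ = c.z₁ * g) (h : g * c.z = c.z * g) : g ∈ c.J := by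
  haveI : Fact (Nat.Prime 2) := ⟨Nat.prime_two⟩
  have hp : IsPGroup 2 c.H := by
    intro y
    obtain ⟨k, m, hm, he⟩ := Nat.exists_eq_two_pow_mul_odd (orderOf_pos (y : G)).ne'
    refine ⟨k, Subtype.ext ?_⟩
    rw [Subgroup.coe_pow, Subgroup.coe_one]
    refine c.eq_one_of_odd_H (pow_mem y.2 _) ?_
    rw [orderOf_pow, Nat.gcd_eq_right (Dvd.intro m he.symm), he,
      Nat.mul_div_cancel_left _ (by positivity)]
    exact hm
  rw [← c.eq_J_of_le hp c.J_le_H fun x hx => (c.mem_H.1 hx).1]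
  exact c.mem_H.2 ⟨h1, h⟩

/-- **`C(z) ∩ C((cv,1)) ≤ J`.** -/
theorem mem_J_of_comm_v {y : G} (hz : y * c.z = c.z * y) (hv : y * c.e cv 1 = c.e cv 1 * y) :
    y ∈ c.J := by
  by_cases hR : ∃ a b : P4, InD a ∧ InD b ∧ c.e a b ∈ c.Q ∧ a * cv ≠ cv * a
  · obtain ⟨a, b, ha, hb, hq, hne⟩ := hR
    refine c.mem_J_of_comm_pair (mul_inv_eq_iff_eq_mul.1 ?_) hz
    have hcom : ∀ q : G, q ∈ c.Q → q ∈ c.J →
        q * c.e cv 1 * q⁻¹ * c.e cv 1 = 1 ∨ q * c.e cv 1 * q⁻¹ * c.e cv 1 = c.z₁ := by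
      rintro q - ⟨p, s, hp, hs, rfl⟩
      rw [c.e_conj, c.e_mul]
      rcases inD_comm_mem hp inD_cv with e | e
      · left
        rw [show p * cv * p⁻¹ * cv = 1 by
          have := e; rw [show cv⁻¹ = cv from inv_eq_of_mul_eq_one_left cv_sq] at this; exact this]
        rw [show s * 1 * s⁻¹ * 1 = 1 by group, c.e_one]
      · right
        rw [show p * cv * p⁻¹ * cv = cz by
          have := e; rw [show cv⁻¹ = cv from inv_eq_of_mul_eq_one_left cv_sq] at this; exact this]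
        rw [show s * 1 * s⁻¹ * 1 = 1 by group]
    have hz1 : c.e a b * c.e cv 1 * (c.e a b)⁻¹ * c.e cv 1 = c.z₁ := by
      refine (hcom _ hq (c.e_mem_J ha hb)).resolve_left fun h => hne ?_
      rw [c.e_conj, c.e_mul, c.e_eq_one] at h
      exact mul_inv_eq_iff_eq_mul.1 ((mul_eq_one_iff_eq_inv.1 h.1).trans
        (inv_eq_of_mul_eq_one_left cv_sq))
    -- the image of `z₁` is again a commutator of an element of `Q` with `(cv, 1)`
    have himg : y * c.z₁ * y⁻¹ =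
        y * c.e a b * y⁻¹ * c.e cv 1 * (y * c.e a b * y⁻¹)⁻¹ * c.e cv 1 := by
      have hv1 : y * c.e cv 1 * y⁻¹ = c.e cv 1 := mul_inv_eq_iff_eq_mul.2 hv
      calc y * c.z₁ * y⁻¹ = y * (c.e a b * c.e cv 1 * (c.e a b)⁻¹ * c.e cv 1) * y⁻¹ := by rw [hz1]
        _ = y * c.e a b * y⁻¹ * (y * c.e cv 1 * y⁻¹) * (y * c.e a b * y⁻¹)⁻¹ * (y * c.e cv 1 * y⁻¹) := by
            group
        _ = _ := by rw [hv1]
    have hq' : y * c.e a b * y⁻¹ ∈ c.Q := c.Q_norm y hz _ hq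
    have hne1 : y * c.z₁ * y⁻¹ ≠ 1 := fun h => c.z₁_ne (conj_eq_one_iff.1 h)
    obtain ⟨p, s, hp, hs, e | e⟩ := (c.memT _).1 (c.Q_le hq')
    · rcases hcom _ hq' (e ▸ c.e_mem_J hp hs) with h | h
      · exact absurd (himg.trans h) hne1
      · exact himg.trans h
    · -- the image would be `(cv, ·)`, an involution of the class of `z`
      exfalso
      rw [e, show c.ι (p, s) = c.e p s from rfl, c.ew_conj, c.e_mul] at himg
      refine c.not_conj_z₁_z (c.e cs (cs * s⁻¹) * y) ?_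
      rw [show c.e cs (cs * s⁻¹) * y * c.z₁ * (c.e cs (cs * s⁻¹) * y)⁻¹ =
        c.e cs (cs * s⁻¹) * (y * c.z₁ * y⁻¹) * (c.e cs (cs * s⁻¹))⁻¹ by group, himg, c.e_conj,
        show p * 1 * p⁻¹ * cv = cv by group, show s * cv * s⁻¹ * 1 = s * cv * s⁻¹ by group,
        cs_cv, show cs * s⁻¹ * (s * cv * s⁻¹) * (cs * s⁻¹)⁻¹ = cs * cv * cs⁻¹ by group, cs_cv]
  · push Not at hR
    have hQJ : ∀ q ∈ c.Q, q ∈ c.J := by
      intro q hq
      by_contra hqJ
      obtain ⟨p, s, hp, hs, rfl | rfl⟩ := (c.memT q).1 (c.Q_le hq)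
      · exact hqJ (c.e_mem_J hp hs)
      have h := c.Q_commutator (c.e_mem inD_cd inD_one) hq
      rw [show c.ι (p, s) = c.e p s from rfl, c.ew_conj, c.e_inv, c.e_mul] at h
      have h' := hR _ _ (by
        rw [show p * 1 * p⁻¹ * cd⁻¹ = cd⁻¹ by group]; exact inD_inv inD_cd)
        (by rw [inv_one, mul_one]; exact inD_mul (inD_mul hs inD_cd) (inD_inv hs)) h
      rw [show p * 1 * p⁻¹ * cd⁻¹ = cd⁻¹ by group] at h'
      revert h'
      decide +kernel
    have hQA : ∀ q ∈ c.Q, ∃ a b : P4, InV a ∧ InV b ∧ q = c.e a b := by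
      intro q hq
      obtain ⟨a, b, ha, hb, rfl⟩ := hQJ q hq
      have ha' := hR a b ha hb hq
      have h := c.Q_conj_T c.w_mem hq
      rw [c.w_conj] at h
      exact ⟨a, b, inV_of_comm a ha ha', inV_of_comm b hb (hR b a hb ha h), rfl⟩
    have hAQ : ∀ a b : P4, InV a → InV b → c.e a b ∈ c.Q := fun a b ha hb =>
      c.Q_cent _ (c.comm_z_of_mem (c.e_mem ha.inD hb.inD)) fun q hq => by
        obtain ⟨a', b', ha', hb', rfl⟩ := hQA q hq
        refine c.e_comm_iff.2 ⟨?_, ?_⟩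
        · rcases ha with rfl | rfl | rfl | rfl <;> rcases ha' with rfl | rfl | rfl | rfl <;> decide +kernel
        · rcases hb with rfl | rfl | rfl | rfl <;> rcases hb' with rfl | rfl | rfl | rfl <;> decide +kernel
    obtain ⟨a, b, rfl | rfl⟩ := c.normA y fun a b ha hb => hQA _ (c.Q_norm y hz _ (hAQ a b ha hb))
    · exact c.e_mem_J (c.e_comm_iff.1 hz).1 (c.e_comm_iff.1 hz).2
    · exfalso
      have h1 := c.ew_conj a b cv 1
      rw [mul_inv_eq_iff_eq_mul.2 hv, c.e_eq_iff] at h1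
      exact cv_ne (by simpa using h1.1)

/-- An element centralizing `z₁` and `(cv, cz)` has order dividing four. -/
theorem pow_four_of_comm {g : G} (h1 : g * c.z₁ = c.z₁ * g)
    (h2 : g * c.e cv cz = c.e cv cz * g) : g ^ 4 = 1 := by
  set σ := c.e cs 1 with hσ
  have e1 : σ * c.z₁ * σ⁻¹ = c.e cv 1 := by
    rw [hσ, c.e_conj, cs_cz]; simp
  have e2 : σ * c.e cv cz * σ⁻¹ = c.z := by
    rw [hσ, c.e_conj, cs_cv]; simp
  have key : ∀ x : G, g * x = x * g → σ * g * σ⁻¹ * (σ * x * σ⁻¹) = σ * x * σ⁻¹ * (σ * g * σ⁻¹) :=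
    fun x hx => by
      calc σ * g * σ⁻¹ * (σ * x * σ⁻¹) = σ * (g * x) * σ⁻¹ := by group
        _ = σ * (x * g) * σ⁻¹ := by rw [hx]
        _ = _ := by group
  have hJ : σ * g * σ⁻¹ ∈ c.J :=
    c.mem_J_of_comm_v (e2 ▸ key _ h2) (e1 ▸ key _ h1)
  have := c.pow_four_of_mem_J hJ
  rwa [conj_pow, conj_eq_one_iff] at this

end Cfg

end CfsgLib.S4Wr
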