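import Mathlib.GroupTheory.Perm.Fin
import Mathlib.GroupTheory.SpecificGroups.Alternating
import Mathlib.Tactic

/-!
# Facts about `S₄` and its Sylow 2-subgroup `D₈`

`cz` is the central involution of the dihedral group `{a | InD a}`; `{a | InU a}` and `{a | InV a}`
are its two four-groups, the second one normal in `S₄`.
-/

set_option autoImplicit false

namespace CfsgLib.S4Wr

open Equiv

/-- The symmetric group of degree four. -/
abbrev P4 := Perm (Fin 4)

/-- `(01)(23)`. -/
def cz : P4 := swap 0 1 * swap 2 3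

/-- `(02)(13)`. -/
def cv : P4 := swap 0 2 * swap 1 3

/-- `(01)`. -/
def cd : P4 := swap 0 1

/-- A three-cycle inverted by `(01)`. -/
def cx : P4 := swap 0 1 * swap 1 2

/-- `(12)`, which interchanges `(01)(23)` and `(02)(13)`. -/
def cs : P4 := swap 1 2

/-- Membership in the dihedral group of order eight. -/
def InD (a : P4) : Prop := a * cz = cz * a

/-- Membership in the four-group containing a transposition. -/
def InU (a : P4) : Prop := a = 1 ∨ a = cz ∨ a = cd ∨ a = cd * cz

/-- Membership in the normal four-group. -/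
def InV (a : P4) : Prop := a = 1 ∨ a = cz ∨ a = cv ∨ a = cv * cz

instance (a : P4) : Decidable (InD a) := inferInstanceAs (Decidable (_ = _))
instance (a : P4) : Decidable (InU a) := inferInstanceAs (Decidable (_ ∨ _ ∨ _ ∨ _))
instance (a : P4) : Decidable (InV a) := inferInstanceAs (Decidable (_ ∨ _ ∨ _ ∨ _))

/-- The elements of the dihedral group. -/
def dList : List P4 := [1, cz, cd, cd * cz, cv, cv * cz, cd * cv, cv * cd]

theorem inD_iff : ∀ a : P4, InD a ↔ a ∈ dList := by decide +kernel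

theorem forall_inD {p : P4 → Prop} (h : ∀ a ∈ dList, p a) {a : P4} (ha : InD a) : p a :=
  h a ((inD_iff a).1 ha)

theorem inD_one : InD 1 := by simp [InD]

theorem inD_mul {a b : P4} (ha : InD a) (hb : InD b) : InD (a * b) := by
  unfold InD at *
  rw [mul_assoc, hb, ← mul_assoc, ha, mul_assoc]

theorem inD_inv {a : P4} (ha : InD a) : InD a⁻¹ :=
  show Commute a⁻¹ cz from Commute.inv_left ha

theorem inD_cz : InD cz := rfl
theorem inD_cd : InD cd := by decide +kernel
theorem inD_cv : InD cv := by decide +kernel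
theorem cz_sq : cz * cz = 1 := by decide +kernel
theorem cv_sq : cv * cv = 1 := by decide +kernel
theorem cd_sq : cd * cd = 1 := by decide +kernel
theorem cz_ne : cz ≠ 1 := by decide +kernel
theorem cv_ne : cv ≠ 1 := by decide +kernel
theorem cd_ne : cd ≠ 1 := by decide +kernel
theorem cx_ne : cx ≠ 1 := by decide +kernel
theorem cx_cube : cx * cx * cx = 1 := by decide +kernel
theorem cd_cx : cd * cx * cd = cx⁻¹ := by decide +kernel
theorem cs_sq : cs * cs = 1 := by decide +kernel
theorem cs_cz : cs * cz * cs⁻¹ = cv := by decide +kernel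
theorem cs_cv : cs * cv * cs⁻¹ = cz := by decide +kernel

theorem InV.inD {a : P4} (ha : InV a) : InD a := by
  rcases ha with rfl | rfl | rfl | rfl <;> decide

theorem InU.inD {a : P4} (ha : InU a) : InD a := by
  rcases ha with rfl | rfl | rfl | rfl <;> decide

theorem inV_of_comm : ∀ a : P4, a * cz = cz * a → a * cv = cv * a → InV a := by decide +kernel

theorem inV_conj_cz : ∀ a : P4, InV (a * cz * a⁻¹) := by decide +kernel

theorem inV_conj_cv : ∀ a : P4, InV (a * cv * a⁻¹) := by decide +kernel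

theorem inV_mul {a b : P4} (ha : InV a) (hb : InV b) : InV (a * b) := by
  rcases ha with rfl | rfl | rfl | rfl <;> rcases hb with rfl | rfl | rfl | rfl <;> decide

theorem InV.conj {b : P4} (hb : InV b) (a : P4) : InV (a * b * a⁻¹) := by
  rcases hb with rfl | rfl | rfl | rfl
  · exact Or.inl (by group)
  · exact inV_conj_cz a
  · exact inV_conj_cv a
  · rw [← conj_mul]; exact inV_mul (inV_conj_cv a) (inV_conj_cz a)

theorem inU_mul {a b : P4} (ha : InU a) (hb : InU b) : InU (a * b) := by
  rcases ha with rfl | rfl | rfl | rfl <;> rcases hb with rfl | rfl | rfl | rfl <;> decide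

theorem inV_sq {a : P4} (ha : InV a) : a * a = 1 := by
  rcases ha with rfl | rfl | rfl | rfl <;> decide

theorem inU_sq {a : P4} (ha : InU a) : a * a = 1 := by
  rcases ha with rfl | rfl | rfl | rfl <;> decide

theorem inD_pow_four {a : P4} (ha : InD a) : a ^ 4 = 1 :=
  forall_inD (p := fun a => a ^ 4 = 1) (by decide +kernel) ha

theorem inD_comm_mem {a b : P4} (ha : InD a) (hb : InD b) :
    a * b * a⁻¹ * b⁻¹ = 1 ∨ a * b * a⁻¹ * b⁻¹ = cz :=
  forall_inD (p := fun a => ∀ b ∈ dList, a * b * a⁻¹ * b⁻¹ = 1 ∨ a * b * a⁻¹ * b⁻¹ = cz)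
    (by decide +kernel) ha b ((inD_iff b).1 hb)

theorem inD_noncentral {a : P4} (ha : InD a) :
    a = 1 ∨ a = cz ∨ ∃ c ∈ dList, a * c * a⁻¹ * c⁻¹ = cz :=
  forall_inD (p := fun a => a = 1 ∨ a = cz ∨ ∃ c ∈ dList, a * c * a⁻¹ * c⁻¹ = cz) (by decide +kernel) ha

theorem inD_central {a : P4} (ha : InD a) (h1 : a * cv = cv * a) (h2 : a * cd = cd * a) :
    a = 1 ∨ a = cz :=
  forall_inD (p := fun a => a * cv = cv * a → a * cd = cd * a → a = 1 ∨ a = cz) (by decide +kernel) ha h1 h2

theorem inD_involution {a : P4} (ha : InD a) (h1 : a * a = 1) :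
    a = 1 ∨ a = cz ∨ a = cv ∨ a = cv * cz ∨ a = cd ∨ a = cd * cz :=
  forall_inD (p := fun a => a * a = 1 → a = 1 ∨ a = cz ∨ a = cv ∨ a = cv * cz ∨ a = cd ∨ a = cd * cz)
    (by decide +kernel) ha h1

theorem inU_inV_of_comm {a b : P4} (ha : InD a) (hb : InD b) (ha1 : a * a = 1) (hb1 : b * b = 1)
    (hab : a * b = b * a) : (InU a ∧ InU b) ∨ (InV a ∧ InV b) :=
  forall_inD (p := fun a => ∀ b ∈ dList, a * a = 1 → b * b = 1 → a * b = b * a →
    (InU a ∧ InU b) ∨ (InV a ∧ InV b)) (by decide +kernel) ha b ((inD_iff b).1 hb) ha1 hb1 hab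

end CfsgLib.S4Wr
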