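import Cfsg.Agent.S4Wr.Pairs

/-!
# Sylow arguments and conjugacy inside the wreath product
-/

set_option autoImplicit false
set_option linter.style.haveILetI false
set_option linter.unusedSectionVars false

namespace CfsgLib.S4Wr

open Subgroup

theorem inD_cases_involution {a : P4} (ha : InD a) (h1 : a * a = 1) (hne : a ≠ 1) :
    (∃ σ : P4, σ * a * σ⁻¹ = cz) ∨ (∃ σ : P4, σ * a * σ⁻¹ = cd) := by
  rcases inD_involution ha h1 with rfl | rfl | rfl | rfl | rfl | rfl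
  · exact absurd rfl hne
  · exact Or.inl ⟨1, by simp⟩
  all_goals decide +kernel

theorem exists_conj_cz : ∀ a : P4, InV a → a ≠ 1 → ∃ σ : P4, σ * a * σ⁻¹ = cz := by decide +kernel

theorem exists_conj_cd : ∀ a : P4, InU a → ¬ InV a → ∃ σ : P4, σ * a * σ⁻¹ = cd := by decide +kernel

theorem sign_inU : ∀ a : P4, InU a → (Equiv.Perm.sign a = 1 ↔ InV a) := by decide +kernel

theorem sign_inV : ∀ a : P4, InV a → Equiv.Perm.sign a = 1 := by decide +kernel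

namespace Cfg

variable {G : Type*} [Group G] [Finite G] (c : Cfg G)

theorem isConj_e {a b a' b' : P4} (h1 : ∃ σ : P4, σ * a * σ⁻¹ = a') (h2 : ∃ σ : P4, σ * b * σ⁻¹ = b') :
    IsConj (c.e a b) (c.e a' b') := by
  obtain ⟨σ, rfl⟩ := h1
  obtain ⟨τ, rfl⟩ := h2
  exact isConj_iff.2 ⟨c.e σ τ, c.e_conj σ τ a b⟩

theorem isConj_z_of_V {a b : P4} (ha : InV a) (hb : InV b) (ha1 : a ≠ 1) (hb1 : b ≠ 1) :
    IsConj (c.e a b) c.z :=
  c.isConj_e (exists_conj_cz a ha ha1) (exists_conj_cz b hb hb1)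

theorem isConj_z₁_of_V {a : P4} (ha : InV a) (ha1 : a ≠ 1) : IsConj (c.e a 1) c.z₁ :=
  c.isConj_e (exists_conj_cz a ha ha1) ⟨1, by simp⟩

theorem isConj_z₂_z₁ : IsConj c.z₂ c.z₁ := isConj_iff.2 ⟨c.w, c.w_conj 1 cz⟩

theorem isConj_z₂_of_V {b : P4} (hb : InV b) (hb1 : b ≠ 1) : IsConj (c.e 1 b) c.z₁ :=
  (c.isConj_e (a := 1) ⟨1, by simp⟩ (exists_conj_cz b hb hb1)).trans c.isConj_z₂_z₁

theorem not_isConj_z₁_z : ¬ IsConj c.z₁ c.z := fun h => by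
  obtain ⟨g, hg⟩ := isConj_iff.1 h
  exact c.not_conj_z₁_z g hg

theorem not_isConj_z₂_z : ¬ IsConj c.z₂ c.z := fun h =>
  c.not_isConj_z₁_z (c.isConj_z₂_z₁.symm.trans h)

theorem z₂_ne : c.z₂ ≠ 1 := fun h => cz_ne (c.e_eq_one.1 h).2

theorem z₁_ne_z₂ : c.z₁ ≠ c.z₂ := fun h => cz_ne (c.e_eq_iff.1 h).1

/-- A 2-subgroup centralizing `z₁` is conjugate into `J` inside the centralizer. -/
theorem exists_conj_mem_J {P : Subgroup G} (hP : IsPGroup 2 P) (hPz : ∀ p ∈ P, p * c.z₁ = c.z₁ * p) :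
    ∃ g : G, g * c.z₁ = c.z₁ * g ∧ ∀ p ∈ P, g * p * g⁻¹ ∈ c.J := by
  haveI : Fact (Nat.Prime 2) := ⟨Nat.prime_two⟩
  let C := centralizer ({c.z₁} : Set G)
  have hmem : ∀ x : G, x ∈ C ↔ x * c.z₁ = c.z₁ * x := fun x => mem_centralizer_singleton_iff
  have hJC : c.J ≤ C := fun x hx => (hmem x).2 (c.comm_J_z₁ hx)
  let S : Sylow 2 C := ⟨c.J.subgroupOf C,
    c.isPGroup_J.comap_of_injective _ Subtype.val_injective, fun {P} hP hle => by
      have h := c.eq_J_of_le (P := P.map C.subtype) (hP.map _)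
        (fun x hx => ⟨⟨x, hJC hx⟩, hle (mem_subgroupOf.2 hx), rfl⟩) (by
          rintro _ ⟨x, -, rfl⟩; exact (hmem _).1 x.2)
      refine le_antisymm (fun x hx => mem_subgroupOf.2 ?_) hle
      rw [← h]; exact mem_map_of_mem _ hx⟩
  obtain ⟨R, hR⟩ := (hP.comap_of_injective C.subtype Subtype.val_injective).exists_le_sylow
  obtain ⟨g, hg⟩ := MulAction.exists_smul_eq C R S
  refine ⟨g, (hmem _).1 g.2, fun p hp => ?_⟩
  have h : g * (⟨p, (hmem p).2 (hPz p hp)⟩ : C) * g⁻¹ ∈ (S : Subgroup C) := by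
    rw [← hg]
    exact ⟨⟨p, (hmem p).2 (hPz p hp)⟩, hR (mem_subgroupOf.2 hp), rfl⟩
  exact mem_subgroupOf.1 h

/-- A 2-subgroup centralizing `z` is conjugate into `T` inside the centralizer. -/
theorem exists_conj_mem_T {P : Subgroup G} (hP : IsPGroup 2 P) (hPz : ∀ p ∈ P, p * c.z = c.z * p) :
    ∃ g : G, g * c.z = c.z * g ∧ ∀ p ∈ P, g * p * g⁻¹ ∈ (c.T : Subgroup G) := by
  haveI : Fact (Nat.Prime 2) := ⟨Nat.prime_two⟩
  let C := centralizer ({c.z} : Set G)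
  have hmem : ∀ x : G, x ∈ C ↔ x * c.z = c.z * x := fun x => mem_centralizer_singleton_iff
  have hTC : (c.T : Subgroup G) ≤ C := fun x hx => (hmem x).2 (c.comm_z_of_mem hx)
  let S : Sylow 2 C := c.T.subtype hTC
  obtain ⟨R, hR⟩ := (hP.comap_of_injective C.subtype Subtype.val_injective).exists_le_sylow
  obtain ⟨g, hg⟩ := MulAction.exists_smul_eq C R S
  refine ⟨g, (hmem _).1 g.2, fun p hp => ?_⟩
  have h : g * (⟨p, (hmem p).2 (hPz p hp)⟩ : C) * g⁻¹ ∈ (S : Subgroup C) := by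
    rw [← hg]
    exact ⟨⟨p, (hmem p).2 (hPz p hp)⟩, hR (mem_subgroupOf.2 hp), rfl⟩
  exact mem_subgroupOf.1 h

theorem central_T {t : G} (ht : t ∈ (c.T : Subgroup G))
    (h : ∀ s ∈ (c.T : Subgroup G), t * s = s * t) : t = 1 ∨ t = c.z := by
  obtain ⟨a, b, ha, hb, rfl | rfl⟩ := (c.memT t).1 ht
  · have h1 := c.e_comm_iff.1 (h _ (c.e_mem inD_cv inD_cv))
    have h2 := c.e_comm_iff.1 (h _ (c.e_mem inD_cd inD_cd))
    have hw := h _ c.w_mem
    rw [c.w_e a b] at hw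
    obtain ⟨hab, -⟩ := c.e_eq_iff.1 (mul_right_cancel hw)
    subst hab
    rcases inD_central ha h1.1 h2.1 with rfl | rfl
    · exact Or.inl c.e_one
    · exact Or.inr rfl
  · exfalso
    have h1 := c.ew_conj a b cv 1
    rw [mul_inv_eq_iff_eq_mul.2 (h _ (c.e_mem inD_cv inD_one)), c.e_eq_iff] at h1
    exact cv_ne (by simpa using h1.1)

/-- The Sylow 2-subgroup is self-normalizing. -/
theorem mem_T_of_normalizer {n : G} (hn : n ∈ normalizer ((c.T : Subgroup G) : Set G)) :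
    n ∈ (c.T : Subgroup G) := by
  have hmem := mem_normalizer_iff.1 hn
  have hmem' := mem_normalizer_iff''.1 hn
  have hback : ∀ s ∈ (c.T : Subgroup G), ∃ s' ∈ (c.T : Subgroup G), s = n * s' * n⁻¹ := fun s hs =>
    ⟨n⁻¹ * s * n, (hmem' s).1 hs, by group⟩
  have hz : n * c.z * n⁻¹ = c.z := by
    refine (c.central_T ((hmem _).1 (c.e_mem inD_cz inD_cz)) fun s hs => ?_).resolve_left
      fun h => c.z_ne (conj_eq_one_iff.1 h)
    obtain ⟨s', hs', rfl⟩ := hback s hs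
    calc n * c.z * n⁻¹ * (n * s' * n⁻¹) = n * (c.z * s') * n⁻¹ := by group
      _ = n * (s' * c.z) * n⁻¹ := by rw [c.comm_z_of_mem hs']
      _ = _ := by group
  have hcz : ∀ s ∈ (c.T : Subgroup G), c.z₁ * s * c.z₁⁻¹ * s⁻¹ = 1 ∨
      c.z₁ * s * c.z₁⁻¹ * s⁻¹ = c.z := by
    intro s hs
    obtain ⟨a, b, ha, hb, rfl | rfl⟩ := (c.memT s).1 hs
    · left
      rw [show c.ι (a, b) = c.e a b from rfl, show c.z₁ * c.e a b = c.e a b * c.z₁ from
        (c.comm_J_z₁ (c.e_mem_J ha hb)).symm]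
      group
    · right
      have h1 : c.e a b * c.w * c.z₁⁻¹ * (c.e a b * c.w)⁻¹ = c.z₂ := by
        rw [inv_eq_of_mul_eq_one_left c.z₁_sq, c.ew_conj, show a * 1 * a⁻¹ = 1 by group,
          show b * cz * b⁻¹ = cz by rw [hb]; group]
      rw [show c.ι (a, b) = c.e a b from rfl,
        show c.z₁ * (c.e a b * c.w) * c.z₁⁻¹ * (c.e a b * c.w)⁻¹ =
          c.z₁ * (c.e a b * c.w * c.z₁⁻¹ * (c.e a b * c.w)⁻¹) by group, h1, c.z₁_mul_z₂]
  have hx : n * c.z₁ * n⁻¹ = c.z₁ ∨ n * c.z₁ * n⁻¹ = c.z₂ := by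
    have hxT : n * c.z₁ * n⁻¹ ∈ (c.T : Subgroup G) := (hmem _).1 (c.e_mem inD_cz inD_one)
    have hcx : ∀ s ∈ (c.T : Subgroup G), n * c.z₁ * n⁻¹ * s * (n * c.z₁ * n⁻¹)⁻¹ * s⁻¹ = 1 ∨
        n * c.z₁ * n⁻¹ * s * (n * c.z₁ * n⁻¹)⁻¹ * s⁻¹ = c.z := by
      intro s hs
      obtain ⟨s', hs', rfl⟩ := hback s hs
      rw [show n * c.z₁ * n⁻¹ * (n * s' * n⁻¹) * (n * c.z₁ * n⁻¹)⁻¹ * (n * s' * n⁻¹)⁻¹ =
        n * (c.z₁ * s' * c.z₁⁻¹ * s'⁻¹) * n⁻¹ by group]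
      rcases hcz s' hs' with e | e <;> rw [e]
      · left; group
      · right; exact hz
    obtain ⟨a, b, ha, hb, e | e⟩ := (c.memT _).1 hxT
    · rw [e] at hcx ⊢
      have hcen : ∀ p, InD p → a * p = p * a := fun p hp => by
        rcases hcx _ (c.e_mem hp inD_one) with h | h <;> rw [show c.ι (a, b) = c.e a b from rfl,
          c.e_commutator] at h
        · exact mul_inv_eq_iff_eq_mul.1 (mul_inv_eq_one.1 (c.e_eq_one.1 h).1)
        · exact absurd (show (1 : P4) = cz by simpa using (c.e_eq_iff.1 h).2) cz_ne.symm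
      have hcen' : ∀ p, InD p → b * p = p * b := fun p hp => by
        rcases hcx _ (c.e_mem inD_one hp) with h | h <;> rw [show c.ι (a, b) = c.e a b from rfl,
          c.e_commutator] at h
        · exact mul_inv_eq_iff_eq_mul.1 (mul_inv_eq_one.1 (c.e_eq_one.1 h).2)
        · exact absurd (show (1 : P4) = cz by simpa using (c.e_eq_iff.1 h).1) cz_ne.symm
      have hconj : IsConj c.z₁ (c.e a b) := isConj_iff.2 ⟨n, e⟩
      rcases inD_central ha (hcen _ inD_cv) (hcen _ inD_cd) with rfl | rfl <;>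
        rcases inD_central hb (hcen' _ inD_cv) (hcen' _ inD_cd) with rfl | rfl
      · exact absurd (conj_eq_one_iff.1 (e.trans c.e_one)) c.z₁_ne
      · exact Or.inr rfl
      · exact Or.inl rfl
      · exact absurd hconj c.not_isConj_z₁_z
    · exfalso
      rw [e] at hcx
      have h' : ∀ x : P4, InD x →
          c.e (a * 1 * a⁻¹ * x⁻¹) (b * x * b⁻¹) = 1 ∨ c.e (a * 1 * a⁻¹ * x⁻¹) (b * x * b⁻¹) = c.z := by
        intro x hx
        have h := hcx _ (c.e_mem hx inD_one)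
        rw [show c.ι (a, b) = c.e a b from rfl, c.ew_conj, c.e_inv, c.e_mul] at h
        simpa using h
      rcases h' cv inD_cv with h | h
      · exact cv_ne (inv_eq_one.1 (by simpa using (c.e_eq_one.1 h).1))
      · exact absurd (show cv⁻¹ = cz by simpa using (c.e_eq_iff.1 h).1) (by decide +kernel)
  refine c.normalizer_J ▸ mem_normalizer_iff.2 fun x => ?_
  have hJ : ∀ s : G, s ∈ c.J ↔ s ∈ (c.T : Subgroup G) ∧ s * c.z₁ = c.z₁ * s := fun s =>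
    ⟨fun h => ⟨c.J_le h, c.comm_J_z₁ h⟩, fun h => c.mem_J_of_comm h.1 h.2⟩
  have hJ' : ∀ s : G, s ∈ c.J ↔ s ∈ (c.T : Subgroup G) ∧ s * c.z₂ = c.z₂ * s := fun s =>
    ⟨fun h => ⟨c.J_le h, c.comm_J_z₂ h⟩, fun h => c.symm_J ▸ c.symm.mem_J_of_comm h.1 h.2⟩
  have hcomm : ∀ y : G, x * y = y * x ↔ n * x * n⁻¹ * (n * y * n⁻¹) = n * y * n⁻¹ * (n * x * n⁻¹) := by
    intro y
    constructor
    · intro h
      calc n * x * n⁻¹ * (n * y * n⁻¹) = n * (x * y) * n⁻¹ := by group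
        _ = n * (y * x) * n⁻¹ := by rw [h]
        _ = _ := by group
    · intro h
      refine mul_left_cancel (a := n) (mul_right_cancel (b := n⁻¹) ?_)
      calc n * (x * y) * n⁻¹ = n * x * n⁻¹ * (n * y * n⁻¹) := by group
        _ = n * y * n⁻¹ * (n * x * n⁻¹) := h
        _ = _ := by group
  rcases hx with e | e
  · rw [hJ x, hJ (n * x * n⁻¹), hmem x, hcomm c.z₁, e]
  · rw [hJ x, hJ' (n * x * n⁻¹), hmem x, hcomm c.z₁, e]

/-- The wreath product. -/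
def M : Subgroup G where
  carrier := {g | ∃ a b : P4, g = c.e a b ∨ g = c.e a b * c.w}
  one_mem' := ⟨1, 1, Or.inl c.e_one.symm⟩
  mul_mem' := by
    rintro _ _ ⟨a, b, rfl | rfl⟩ ⟨p, q, rfl | rfl⟩
    · exact ⟨_, _, Or.inl (c.e_mul a b p q)⟩
    · exact ⟨_, _, Or.inr (by rw [← mul_assoc, c.e_mul])⟩
    · exact ⟨_, _, Or.inr (by rw [mul_assoc, c.w_e, ← mul_assoc, c.e_mul])⟩
    · refine ⟨_, _, Or.inl (?_ : _ = c.e (a * q) (b * p))⟩
      rw [← c.e_mul a b q p, mul_assoc, ← mul_assoc c.w, c.w_e, mul_assoc _ c.w, c.w2, mul_one]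
  inv_mem' := by
    rintro _ ⟨a, b, rfl | rfl⟩
    · exact ⟨_, _, Or.inl (c.e_inv a b)⟩
    · exact ⟨b⁻¹, a⁻¹, Or.inr (by rw [mul_inv_rev, c.w_inv, c.e_inv, c.w_e])⟩

theorem T_le_M : (c.T : Subgroup G) ≤ c.M := fun g hg => by
  obtain ⟨a, b, -, -, h⟩ := (c.memT g).1 hg
  exact ⟨a, b, h⟩

theorem conj_A_of_mem_M {m : G} (hm : m ∈ c.M) {a b : P4} (ha : InV a) (hb : InV b) :
    ∃ a' b' : P4, InV a' ∧ InV b' ∧ m * c.e a b * m⁻¹ = c.e a' b' := by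
  obtain ⟨p, q, rfl | rfl⟩ := hm
  · exact ⟨_, _, ha.conj p, hb.conj q, c.e_conj p q a b⟩
  · exact ⟨_, _, hb.conj p, ha.conj q, c.ew_conj p q a b⟩

theorem conj_B_of_mem_T {t : G} (ht : t ∈ (c.T : Subgroup G)) {a b : P4} (ha : InU a) (hb : InU b) :
    ∃ a' b' : P4, InU a' ∧ InU b' ∧ t * c.e a b * t⁻¹ = c.e a' b' := by
  have hU : ∀ {p u : P4}, InD p → InU u → InU (p * u * p⁻¹) := fun {p u} hp hu =>
    forall_inD (p := fun p => ∀ u : P4, InU u → InU (p * u * p⁻¹)) (by decide +kernel) hp u hu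
  obtain ⟨p, q, hp, hq, rfl | rfl⟩ := (c.memT t).1 ht
  · exact ⟨_, _, hU hp ha, hU hq hb, c.e_conj p q a b⟩
  · exact ⟨_, _, hU hp hb, hU hq ha, c.ew_conj p q a b⟩

/-- `V × V'` and `U × U'` are not conjugate. -/
theorem not_conj_A_B (g : G)
    (hAB : ∀ a b : P4, InV a → InV b → ∃ a' b' : P4, InU a' ∧ InU b' ∧
      g * c.e a b * g⁻¹ = c.e a' b')
    (hBA : ∀ a b : P4, InU a → InU b → ∃ a' b' : P4, InV a' ∧ InV b' ∧
      g⁻¹ * c.e a b * g = c.e a' b') : False := by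
  haveI : Fact (Nat.Prime 2) := ⟨Nat.prime_two⟩
  have hconjT : ∀ t ∈ (c.T : Subgroup G), g⁻¹ * t * g ∈ c.M := by
    intro t ht
    obtain ⟨p, q, h⟩ := c.normA (g⁻¹ * t * g) fun a b ha hb => by
      obtain ⟨a', b', ha', hb', e⟩ := hAB a b ha hb
      obtain ⟨a'', b'', ha'', hb'', e'⟩ := c.conj_B_of_mem_T ht ha' hb'
      obtain ⟨x, y, hx, hy, e''⟩ := hBA a'' b'' ha'' hb''
      refine ⟨x, y, hx, hy, ?_⟩
      show _ * c.e a b * _ = c.e x y
      rw [← e'', ← e', ← e]; group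
    exact ⟨p, q, h⟩
  let TM : Sylow 2 c.M := c.T.subtype c.T_le_M
  let K : Subgroup G := (c.T : Subgroup G).map (MulAut.conj g⁻¹).toMonoidHom
  have hKM : K ≤ c.M := by
    rintro _ ⟨t, ht, rfl⟩
    show g⁻¹ * t * g⁻¹⁻¹ ∈ c.M
    rw [inv_inv]; exact hconjT t ht
  obtain ⟨R, hR⟩ := ((c.T.isPGroup'.map (MulAut.conj g⁻¹).toMonoidHom).comap_of_injective
    c.M.subtype Subtype.val_injective).exists_le_sylow
  obtain ⟨m, hm⟩ := MulAction.exists_smul_eq c.M R TM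
  have hin : ∀ t ∈ (c.T : Subgroup G), (m : G) * g⁻¹ * t * ((m : G) * g⁻¹)⁻¹ ∈ (c.T : Subgroup G) := by
    intro t ht
    have hk : g⁻¹ * t * g⁻¹⁻¹ ∈ K := ⟨t, ht, rfl⟩
    have h : m * (⟨_, hKM hk⟩ : c.M) * m⁻¹ ∈ (TM : Subgroup c.M) := by
      rw [← hm]
      exact ⟨_, hR (mem_subgroupOf.2 hk), rfl⟩
    have := mem_subgroupOf.1 h
    simpa [mul_assoc] using this
  have hn : (m : G) * g⁻¹ ∈ normalizer ((c.T : Subgroup G) : Set G) := by
    rw [Subgroup.mem_normalizer_iff_map_conj_eq]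
    refine Subgroup.eq_of_le_of_card_ge ?_ (le_of_eq (Nat.card_congr
      ((c.T : Subgroup G).equivMapOfInjective _ (MulAut.conj ((m : G) * g⁻¹)).injective).toEquiv))
    rintro _ ⟨t, ht, rfl⟩
    exact hin t ht
  have hgM : g ∈ c.M := by
    have := mul_mem (inv_mem (c.T_le_M (c.mem_T_of_normalizer hn))) m.2
    rwa [show ((m : G) * g⁻¹)⁻¹ * (m : G) = g by group] at this
  obtain ⟨x, y, hx, hy, e⟩ := hAB cv cv (Or.inr (Or.inr (Or.inl rfl))) (Or.inr (Or.inr (Or.inl rfl)))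
  obtain ⟨p, q, hp, hq, e'⟩ := c.conj_A_of_mem_M hgM (Or.inr (Or.inr (Or.inl (rfl : cv = cv))))
    (Or.inr (Or.inr (Or.inl (rfl : cv = cv))))
  obtain ⟨rfl, rfl⟩ := c.e_eq_iff.1 (e.symm.trans e')
  obtain ⟨a, b, ha, hb, e''⟩ := hBA cd cd (Or.inr (Or.inr (Or.inl rfl))) (Or.inr (Or.inr (Or.inl rfl)))
  obtain ⟨a', b', ha', hb', e3⟩ := c.conj_A_of_mem_M hgM ha hb
  rw [← e'', show g * (g⁻¹ * c.e cd cd * g) * g⁻¹ = c.e cd cd by group, c.e_eq_iff] at e3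
  exact absurd (e3.1 ▸ ha') (by decide +kernel)

end Cfg

end CfsgLib.S4Wr
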