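import Cfsg.Agent.S4Wr.Normalize

/-!
# An element of `C(V) ∩ C((cx,1))` moving `(1,cd)` to `(1,cz)`
-/

set_option autoImplicit false
set_option linter.style.haveILetI false
set_option linter.unusedSectionVars false

namespace CfsgLib.S4Wr

open Subgroup

theorem cx_pre : ∀ a : P4, InV a → ∃ b : P4, InV b ∧ cx * b * cx⁻¹ * a = b := by decide +kernel

theorem inU_of_comm : ∀ a : P4, InD a → a * cd = cd * a → InU a := by decide +kernel

theorem cx_fix : ∀ a : P4, InV a → a * cx = cx * a → a = 1 := by decide +kernel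

namespace Cfg

variable {G : Type*} [Group G] [Finite G] (c : Cfg G)

/-- The element of order three `(cx, 1)`. -/
abbrev x₃ : G := c.e cx 1

/-- A step: an element of `C(V)` fixing the cosets of `V` in `V × U'` lies in `V × U'`. -/
theorem mem_of_trivial {n : G} (hV : ∀ a : P4, InV a → n * c.e a 1 = c.e a 1 * n)
    (h : ∀ b : P4, InU b → ∃ a : P4, InV a ∧ n * c.e 1 b * n⁻¹ = c.e a b) :
    ∃ a b : P4, InV a ∧ InU b ∧ n = c.e a b := by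
  obtain ⟨a₀, ha₀, e₀⟩ := h cz (Or.inr (Or.inl rfl))
  have ha1 : a₀ = 1 := by
    by_contra hne
    exact c.not_isConj_z₂_z ((isConj_iff.2 ⟨n, e₀⟩).trans
      (c.isConj_z_of_V ha₀ (Or.inr (Or.inl rfl)) hne cz_ne))
  subst ha1
  have h1 : n * c.z₁ = c.z₁ * n := hV cz (Or.inr (Or.inl rfl))
  have h2 : n * c.z = c.z * n := (c.comm_z₁_z₂_iff.1 ⟨h1, mul_inv_eq_iff_eq_mul.1 e₀⟩).2
  obtain ⟨a, b, ha, hb, rfl⟩ := c.mem_J_of_comm_pair h1 h2
  refine ⟨a, b, inV_of_comm a ha (c.e_comm_iff.1 (hV cv (Or.inr (Or.inr (Or.inl rfl))))).1, ?_, rfl⟩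
  obtain ⟨a', ha', e⟩ := h cd (Or.inr (Or.inr (Or.inl rfl)))
  rw [c.e_conj, c.e_eq_iff] at e
  exact inU_of_comm b hb (mul_inv_eq_iff_eq_mul.1 e.2)

/-- The element centralizing `V`, normalizing `V × U'`. -/
theorem exists_centralizing (hno : ∀ H : Subgroup G, H.index ≠ 2) :
    ∃ h : G, (∀ a : P4, InV a → h * c.e a 1 = c.e a 1 * h) ∧
      (h * c.e 1 cd * h⁻¹ = c.z₂ ∨ h * c.e 1 cd * h⁻¹ = c.z) ∧
      img h (c.EF fV fU) = c.EF fV fU := by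
  classical
  obtain ⟨h, hz1, hd, hB, hVU⟩ := c.exists_normalizing hno
  -- the image of `(cv, s)` has first component outside `⟨cz⟩`
  have hout : ∀ {k : G}, img k (c.EF fU fU) = c.EF fU fU → ∀ s : P4, InU s → ∀ a b : P4,
      k * c.e cv s * k⁻¹ = c.e a b → InV a → InU b → a = cv ∨ a = cv * cz := by
    intro k hk s hs a b e ha hb
    have key : ∀ u ∈ fU, k * c.e cv s * k⁻¹ = c.e u b → False := by
      intro u hu e
      have hm := (mem_img (g := k⁻¹)).2 ⟨_, c.e_mem_EF (P := fU) (Q := fU) hu (mem_fU.2 hb), rfl⟩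
      rw [show k⁻¹ * c.e u b * k⁻¹⁻¹ = c.e cv s by rw [← e]; group, img_inv hk] at hm
      obtain ⟨p, hp, q, -, e'⟩ := c.mem_EF.1 hm
      exact not_inU_cv ((c.e_eq_iff.1 e').1 ▸ mem_fU.1 hp)
    rcases ha with rfl | rfl | h | h
    rotate_left 2
    · exact Or.inl h
    · exact Or.inr h
    all_goals exfalso
    · exact key 1 (mem_fU.2 (Or.inl rfl)) e
    · exact key cz (mem_fU.2 (Or.inr (Or.inl rfl))) e
  have himage : ∀ {k : G}, img k (c.EF fV fU) = c.EF fV fU → ∀ a b : P4, InV a → InU b →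
      ∃ a' b', InV a' ∧ InU b' ∧ k * c.e a b * k⁻¹ = c.e a' b' := by
    intro k hk a b ha hb
    have := (mem_img (g := k)).2 ⟨_, c.e_mem_EF (mem_fV.2 ha) (mem_fU.2 hb), rfl⟩
    rw [hk] at this
    obtain ⟨a', ha', b', hb', e⟩ := c.mem_EF.1 this
    exact ⟨a', b', mem_fV.1 ha', mem_fU.1 hb', e⟩
  have hv : IsConj (c.e cv 1) c.z₁ := c.isConj_z₁_of_V (Or.inr (Or.inr (Or.inl rfl))) cv_ne
  obtain ⟨α, β, hα, hβ, hαβ⟩ := himage hVU cv 1 (Or.inr (Or.inr (Or.inl rfl))) (Or.inl rfl)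
  have hα' : α = cv ∨ α = cv * cz := hout hB 1 (Or.inl rfl) α β hαβ hα hβ
  have hαne : α ≠ 1 := by rcases hα' with rfl | rfl <;> decide +kernel
  have hdJ : c.e cd 1 ∈ c.J := c.e_mem_J inD_cd inD_one
  have hcd' : cd * (cv * cz) * cd⁻¹ = cv := by decide +kernel
  -- a correction by `(cd, 1)`
  have adjust : ∀ {k : G} {s t : P4}, k * c.z₁ = c.z₁ * k → (∀ y, k * c.e cv s * k⁻¹ = y →
      y = c.e cv t ∨ y = c.e (cv * cz) t) →
      ∃ k' : G, (k' = k ∨ k' = c.e cd 1 * k) ∧ k' * c.z₁ = c.z₁ * k' ∧ k' * c.e cv s * k'⁻¹ = c.e cv t := by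
    intro k s t hk h
    rcases h _ rfl with e | e
    · exact ⟨k, Or.inl rfl, hk, e⟩
    · refine ⟨c.e cd 1 * k, Or.inr rfl, Commute.mul_left (c.comm_J_z₁ hdJ) hk, ?_⟩
      rw [show c.e cd 1 * k * c.e cv s * (c.e cd 1 * k)⁻¹ = c.e cd 1 * (k * c.e cv s * k⁻¹) * (c.e cd 1)⁻¹ by
        group, e, c.e_conj, hcd', show (1 : P4) * t * 1⁻¹ = t by group]
  rcases hβ with rfl | rfl | hβ
  · -- `h` normalizes `V`
    obtain ⟨h', hh', hz1', hv'⟩ := adjust hz1 (s := 1) (t := 1) fun y hy => by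
      rw [← hy, hαβ]
      rcases hα' with rfl | rfl <;> simp
    have hV : ∀ a : P4, InV a → h' * c.e a 1 = c.e a 1 * h' := by
      intro a ha
      have hcv : Commute h' (c.e cv 1) := mul_inv_eq_iff_eq_mul.1 hv'
      rcases ha with rfl | rfl | rfl | rfl
      · simp [c.e_one]
      · exact hz1'
      · exact hcv
      · rw [show c.e (cv * cz) 1 = c.e cv 1 * c.e cz 1 by rw [c.e_mul, mul_one]]
        exact hcv.mul_right hz1'
    refine ⟨h', hV, ?_, ?_⟩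
    · rcases hh' with rfl | rfl
      · exact hd
      · rcases hd with e | e <;>
          rw [show c.e cd 1 * h * c.e 1 cd * (c.e cd 1 * h)⁻¹ =
            c.e cd 1 * (h * c.e 1 cd * h⁻¹) * (c.e cd 1)⁻¹ by group, e, c.e_conj]
        · left; simp
        · right; rw [show cd * cz * cd⁻¹ = cz by decide +kernel]; simp
    · rcases hh' with rfl | rfl
      · exact hVU
      · rw [img_mul, hVU, c.img_EF_of_mem_J hdJ (Or.inr rfl) (Or.inl rfl)]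
  · exact absurd (((isConj_iff.2 ⟨h, hαβ⟩).symm.trans hv).symm.trans
      (c.isConj_z_of_V hα (Or.inr (Or.inl rfl)) hαne cz_ne)) c.not_isConj_z₁_z
  · exfalso
    -- symmetrise
    obtain ⟨h, hz1, hd, hB, hVU, α, hα', hα, hαβ⟩ : ∃ h : G, h * c.z₁ = c.z₁ * h ∧
        (h * c.e 1 cd * h⁻¹ = c.z₂ ∨ h * c.e 1 cd * h⁻¹ = c.z) ∧
        img h (c.EF fU fU) = c.EF fU fU ∧ img h (c.EF fV fU) = c.EF fV fU ∧
        ∃ α : P4, (α = cv ∨ α = cv * cz) ∧ InV α ∧ h * c.e cv 1 * h⁻¹ = c.e α cd := by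
      rcases hβ with rfl | rfl
      · exact ⟨h, hz1, hd, hB, hVU, α, hα', hα, hαβ⟩
      · have hjJ : c.e 1 cv ∈ c.J := c.e_mem_J inD_one inD_cv
        refine ⟨c.e 1 cv * h, Commute.mul_left (c.comm_J_z₁ hjJ) hz1, ?_, ?_, ?_, α, hα', hα, ?_⟩
        · rw [show c.e 1 cv * h * c.e 1 cd * (c.e 1 cv * h)⁻¹ =
            c.e 1 cv * (h * c.e 1 cd * h⁻¹) * (c.e 1 cv)⁻¹ by group]
          rcases hd with e | e <;> rw [e, c.e_conj, show cv * cz * cv⁻¹ = cz by decide +kernel]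
          · left; simp
          · right; simp
        · rw [img_mul, hB, c.img_EF_of_mem_J hjJ (Or.inl rfl) (Or.inl rfl)]
        · rw [img_mul, hVU, c.img_EF_of_mem_J hjJ (Or.inr rfl) (Or.inl rfl)]
        · rw [show c.e 1 cv * h * c.e cv 1 * (c.e 1 cv * h)⁻¹ =
            c.e 1 cv * (h * c.e cv 1 * h⁻¹) * (c.e 1 cv)⁻¹ by group, hαβ, c.e_conj,
            show cv * (cd * cz) * cv⁻¹ = cd by decide +kernel]
          simp
    obtain ⟨α', γ, hα'', hγ, hαγ⟩ := himage hVU cv cz (Or.inr (Or.inr (Or.inl rfl))) (Or.inr (Or.inl rfl))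
    have hα₂ : α' = cv ∨ α' = cv * cz := hout hB cz (Or.inr (Or.inl rfl)) α' γ hαγ hα'' hγ
    have hα'ne : α' ≠ 1 := by rcases hα₂ with rfl | rfl <;> decide +kernel
    have hzc : IsConj (c.e α' γ) c.z := (isConj_iff.2 ⟨h, hαγ⟩).symm.trans
      (c.isConj_z_of_V (Or.inr (Or.inr (Or.inl rfl))) (Or.inr (Or.inl rfl)) cv_ne cz_ne)
    have hcls : IsConj (c.e α cd) c.z₁ := (isConj_iff.2 ⟨h, hαβ⟩).symm.trans hv
    have hT : ∀ p : P4, ∃ σ : P4, σ * α * σ⁻¹ = p ∨ (p ≠ cv ∧ p ≠ cv * cz) := by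
      intro p
      rcases hα' with rfl | rfl
      · by_cases h1 : p = cv
        · exact ⟨1, Or.inl (by simp [h1])⟩
        by_cases h2 : p = cv * cz
        · exact ⟨cd, Or.inl (by subst h2; decide +kernel)⟩
        · exact ⟨1, Or.inr ⟨h1, h2⟩⟩
      · by_cases h1 : p = cv
        · exact ⟨cd, Or.inl (by subst h1; decide +kernel)⟩
        by_cases h2 : p = cv * cz
        · exact ⟨1, Or.inl (by simp [h2])⟩
        · exact ⟨1, Or.inr ⟨h1, h2⟩⟩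
    obtain ⟨σ, hσ⟩ := hT α'
    have hσ' : σ * α * σ⁻¹ = α' := hσ.resolve_right fun h => by rcases hα₂ with e | e <;> simp_all
    have hγ' : γ = cz := by
      rcases hγ with rfl | rfl | rfl | rfl
      · exact absurd ((c.isConj_z₁_of_V hα'' hα'ne).symm.trans hzc) c.not_isConj_z₁_z
      · rfl
      · exact absurd ((hcls.symm.trans (c.isConj_e ⟨σ, hσ'⟩ ⟨1, by simp⟩)).trans hzc) c.not_isConj_z₁_z
      · exact absurd ((hcls.symm.trans (c.isConj_e ⟨σ, hσ'⟩ ⟨cv, by decide +kernel⟩)).trans hzc)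
          c.not_isConj_z₁_z
    subst hγ'
    obtain ⟨g, hg, hgz1, hgfix⟩ := adjust hz1 (s := cz) (t := cz) fun y hy => by
      rw [← hy, hαγ]
      rcases hα₂ with rfl | rfl <;> simp
    have hg4 : g ^ 4 = 1 := c.pow_four_of_comm hgz1 (mul_inv_eq_iff_eq_mul.1 hgfix)
    -- the action on `⟨cz⟩ × U'` has order three
    have act : ∀ (p q q' : P4), (p = 1 ∨ p = cz) → (∃ p', (p' = 1 ∨ p' = cz) ∧ h * c.e 1 q * h⁻¹ = c.e p' q') →
        ∃ p', (p' = 1 ∨ p' = cz) ∧ g * c.e p q * g⁻¹ = c.e p' q' := by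
      rintro p q q' hp ⟨p', hp', e⟩
      have hgp : g * c.e p 1 * g⁻¹ = c.e p 1 := by
        rcases hp with rfl | rfl
        · rw [c.e_one]; group
        · exact mul_inv_eq_iff_eq_mul.2 hgz1
      have e1 : g * c.e 1 q * g⁻¹ = c.e p' q' := by
        rcases hg with rfl | rfl
        · exact e
        · rw [show c.e cd 1 * h * c.e 1 q * (c.e cd 1 * h)⁻¹ =
            c.e cd 1 * (h * c.e 1 q * h⁻¹) * (c.e cd 1)⁻¹ by group, e, c.e_conj,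
            show (1 : P4) * q' * 1⁻¹ = q' by group]
          rcases hp' with rfl | rfl
          · simp
          · rw [show cd * cz * cd⁻¹ = cz by decide +kernel]
      refine ⟨p * p', ?_, ?_⟩
      · rcases hp with rfl | rfl <;> rcases hp' with rfl | rfl <;> simp [cz_sq]
      · rw [show c.e p q = c.e p 1 * c.e 1 q by rw [c.e_mul, mul_one, one_mul],
          show g * (c.e p 1 * c.e 1 q) * g⁻¹ = g * c.e p 1 * g⁻¹ * (g * c.e 1 q * g⁻¹) by group,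
          hgp, e1, c.e_mul, one_mul]
    have hd1 : ∃ p', (p' = 1 ∨ p' = cz) ∧ h * c.e 1 cd * h⁻¹ = c.e p' cz := by
      rcases hd with e | e
      · exact ⟨1, Or.inl rfl, e⟩
      · exact ⟨cz, Or.inr rfl, e⟩
    have hz' : ∃ p', (p' = 1 ∨ p' = cz) ∧ h * c.e 1 cz * h⁻¹ = c.e p' (cd * cz) := by
      refine ⟨α * α', ?_, ?_⟩
      · rcases hα' with rfl | rfl <;> rcases hα₂ with rfl | rfl <;> decide +kernel
      · rw [show c.e 1 cz = c.e cv 1 * c.e cv cz by rw [c.e_mul, cv_sq, one_mul],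
          show h * (c.e cv 1 * c.e cv cz) * h⁻¹ = h * c.e cv 1 * h⁻¹ * (h * c.e cv cz * h⁻¹) by group,
          hαβ, hαγ, c.e_mul]
    have hdz : ∃ p', (p' = 1 ∨ p' = cz) ∧ h * c.e 1 (cd * cz) * h⁻¹ = c.e p' cd := by
      obtain ⟨p1, hp1, e1⟩ := hd1
      obtain ⟨p2, hp2, e2⟩ := hz'
      refine ⟨p1 * p2, ?_, ?_⟩
      · rcases hp1 with rfl | rfl <;> rcases hp2 with rfl | rfl <;> simp [cz_sq]
      · rw [show c.e 1 (cd * cz) = c.e 1 cd * c.e 1 cz by rw [c.e_mul, one_mul],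
          show h * (c.e 1 cd * c.e 1 cz) * h⁻¹ = h * c.e 1 cd * h⁻¹ * (h * c.e 1 cz * h⁻¹) by group,
          e1, e2, c.e_mul, show cz * (cd * cz) = cd by decide +kernel]
    obtain ⟨p1, hp1, e1⟩ := act 1 cd cz (Or.inl rfl) hd1
    obtain ⟨p2, hp2, e2⟩ := act p1 cz (cd * cz) hp1 hz'
    obtain ⟨p3, hp3, e3⟩ := act p2 (cd * cz) cd hp2 hdz
    obtain ⟨p4, hp4, e4⟩ := act p3 cd cz hp3 hd1
    have : c.e 1 cd = c.e p4 cz := by
      rw [← e4, ← e3, ← e2, ← e1]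
      calc c.e 1 cd = g ^ 4 * c.e 1 cd * (g ^ 4)⁻¹ := by rw [hg4]; group
        _ = _ := by
          rw [show g ^ 4 = g * g * g * g by rw [pow_succ, pow_succ, pow_succ, pow_one]]
          group
    exact absurd (c.e_eq_iff.1 this).2 (by decide +kernel)

/-- The element of `C(V) ∩ C(x₃)` moving `(1,cd)` to `(1,cz)`. -/
theorem exists_three (hno : ∀ H : Subgroup G, H.index ≠ 2) :
    ∃ k : G, (∀ a : P4, InV a → k * c.e a 1 = c.e a 1 * k) ∧ k * c.x₃ = c.x₃ * k ∧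
      k * c.e 1 cd * k⁻¹ = c.z₂ ∧
      ∀ b : P4, InU b → ∃ b' : P4, InU b' ∧ k * c.e 1 b * k⁻¹ = c.e 1 b' := by
  classical
  obtain ⟨h, hV, hd, hVU⟩ := c.exists_centralizing hno
  have himage : ∀ {k : G}, img k (c.EF fV fU) = c.EF fV fU → ∀ a b : P4, InV a → InU b →
      ∃ a' b', InV a' ∧ InU b' ∧ k * c.e a b * k⁻¹ = c.e a' b' := by
    intro k hk a b ha hb
    have := (mem_img (g := k)).2 ⟨_, c.e_mem_EF (mem_fV.2 ha) (mem_fU.2 hb), rfl⟩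
    rw [hk] at this
    obtain ⟨a', ha', b', hb', e⟩ := c.mem_EF.1 this
    exact ⟨a', b', mem_fV.1 ha', mem_fU.1 hb', e⟩
  set m := c.x₃ * h * c.x₃⁻¹ with hm
  have hmV : ∀ a : P4, InV a → m * c.e a 1 = c.e a 1 * m := by
    intro a ha
    have h0 := hV _ (ha.conj cx⁻¹)
    have e : c.e a 1 = c.x₃ * c.e (cx⁻¹ * a * cx⁻¹⁻¹) 1 * c.x₃⁻¹ := by
      rw [c.e_conj, show cx * (cx⁻¹ * a * cx⁻¹⁻¹) * cx⁻¹ = a by group]; simp
    rw [hm, e]
    calc c.x₃ * h * c.x₃⁻¹ * (c.x₃ * c.e (cx⁻¹ * a * cx⁻¹⁻¹) 1 * c.x₃⁻¹)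
        = c.x₃ * (h * c.e (cx⁻¹ * a * cx⁻¹⁻¹) 1) * c.x₃⁻¹ := by group
      _ = c.x₃ * (c.e (cx⁻¹ * a * cx⁻¹⁻¹) 1 * h) * c.x₃⁻¹ := by rw [h0]
      _ = _ := by group
  obtain ⟨c1, c2, hc1, hc2, hc⟩ := c.mem_of_trivial (n := m * h⁻¹)
    (fun a ha => Commute.mul_left (hmV a ha) (Commute.inv_left (hV a ha))) (by
      intro b hb
      obtain ⟨a0, b0, ha0, hb0, e0⟩ := himage (img_inv hVU) 1 b (Or.inl rfl) hb
      rw [inv_inv] at e0
      -- `h (1, b₀) h⁻¹ = (a₀, b)`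
      have e1 : h * c.e 1 b0 * h⁻¹ = c.e a0 b := by
        rw [show c.e 1 b0 = c.e a0 1 * (h⁻¹ * c.e 1 b * h) by rw [e0, c.e_mul, inV_sq ha0, one_mul],
          show h * (c.e a0 1 * (h⁻¹ * c.e 1 b * h)) * h⁻¹ = h * c.e a0 1 * h⁻¹ * c.e 1 b by group,
          mul_inv_eq_iff_eq_mul.2 (hV a0 ha0), c.e_mul, mul_one, one_mul]
      have e2 : ∃ a', InV a' ∧ h * c.e (cx⁻¹ * a0 * cx⁻¹⁻¹) b0 * h⁻¹ = c.e a' b := by
        refine ⟨_, inV_mul (ha0.conj cx⁻¹) ha0, ?_⟩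
        rw [show c.e (cx⁻¹ * a0 * cx⁻¹⁻¹) b0 = c.e (cx⁻¹ * a0 * cx⁻¹⁻¹) 1 * c.e 1 b0 by
            rw [c.e_mul, mul_one, one_mul],
          show h * (c.e (cx⁻¹ * a0 * cx⁻¹⁻¹) 1 * c.e 1 b0) * h⁻¹ =
            h * c.e (cx⁻¹ * a0 * cx⁻¹⁻¹) 1 * h⁻¹ * (h * c.e 1 b0 * h⁻¹) by group,
          mul_inv_eq_iff_eq_mul.2 (hV _ (ha0.conj cx⁻¹)), e1, c.e_mul, one_mul]
      obtain ⟨a', ha', e2⟩ := e2
      refine ⟨_, ha'.conj cx, ?_⟩
      have e3 : c.x₃⁻¹ * c.e a0 b0 * c.x₃ = c.e (cx⁻¹ * a0 * cx⁻¹⁻¹) b0 := by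
        rw [c.e_inv, c.e_mul, c.e_mul, inv_inv]; simp
      calc m * h⁻¹ * c.e 1 b * (m * h⁻¹)⁻¹
          = c.x₃ * h * (c.x₃⁻¹ * (h⁻¹ * c.e 1 b * h) * c.x₃) * h⁻¹ * c.x₃⁻¹ := by rw [hm]; group
        _ = c.x₃ * (h * c.e (cx⁻¹ * a0 * cx⁻¹⁻¹) b0 * h⁻¹) * c.x₃⁻¹ := by rw [e0, e3]; group
        _ = c.e (cx * a' * cx⁻¹) b := by rw [e2, c.e_conj]; simp)
  have hm' : m = c.e c1 c2 * h := by rw [← hc]; group
  -- three steps of conjugation by `x₃`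
  have hc2' : c2 = 1 := by
    have step : ∀ p q : P4, c.x₃ * (c.e p q * h) * c.x₃⁻¹ = c.e (cx * p * cx⁻¹ * c1) (q * c2) * h := by
      intro p q
      rw [show c.x₃ * (c.e p q * h) * c.x₃⁻¹ = c.x₃ * c.e p q * c.x₃⁻¹ * m by rw [hm]; group, hm',
        c.e_conj, ← mul_assoc, c.e_mul, show (1 : P4) * q * 1⁻¹ = q by group]
    have h0 : m = c.e c1 c2 * h := hm'
    have h3 : c.x₃ * (c.x₃ * m * c.x₃⁻¹) * c.x₃⁻¹ = h := by
      rw [hm, show c.x₃ * (c.x₃ * (c.x₃ * h * c.x₃⁻¹) * c.x₃⁻¹) * c.x₃⁻¹ =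
        (c.x₃ * c.x₃ * c.x₃) * h * (c.x₃ * c.x₃ * c.x₃)⁻¹ by group, c.e_mul, c.e_mul, cx_cube]
      simp [c.e_one]
    rw [h0, step, step, mul_eq_right, c.e_eq_one] at h3
    have h2 := h3.2
    rwa [inU_sq hc2, one_mul] at h2
  subst hc2'
  obtain ⟨v₀, hv₀, hv₀'⟩ := cx_pre c1 hc1
  set k := c.e v₀ 1 * h with hk
  have hkx : k * c.x₃ = c.x₃ * k := by
    refine (mul_inv_eq_iff_eq_mul.1 ?_).symm
    rw [hk, show c.x₃ * (c.e v₀ 1 * h) * c.x₃⁻¹ = c.x₃ * c.e v₀ 1 * c.x₃⁻¹ * m by rw [hm]; group, hm',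
      c.e_conj, ← mul_assoc, c.e_mul, hv₀']
    simp
  have hkV : ∀ a : P4, InV a → k * c.e a 1 = c.e a 1 * k := fun a ha =>
    Commute.mul_left (c.e_comm_iff.2 ⟨UorV.comm (P := fV) (Or.inr rfl) (mem_fV.2 hv₀) (mem_fV.2 ha), rfl⟩)
      (hV a ha)
  have hkU : ∀ b : P4, InU b → ∃ a' b' : P4, InV a' ∧ InU b' ∧ k * c.e 1 b * k⁻¹ = c.e a' b' ∧
      h * c.e 1 b * h⁻¹ = c.e a' b' := by
    intro b hb
    obtain ⟨a', b', ha', hb', e⟩ := himage hVU 1 b (Or.inl rfl) hb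
    refine ⟨a', b', ha', hb', ?_, e⟩
    rw [hk, show c.e v₀ 1 * h * c.e 1 b * (c.e v₀ 1 * h)⁻¹ =
      c.e v₀ 1 * (h * c.e 1 b * h⁻¹) * (c.e v₀ 1)⁻¹ by group, e, c.e_conj,
      UorV.comm (P := fV) (Or.inr rfl) (mem_fV.2 hv₀) (mem_fV.2 ha')]
    simp
  have hfix : ∀ b : P4, ∀ a' b' : P4, InV a' → k * c.e 1 b * k⁻¹ = c.e a' b' → a' = 1 := by
    intro b a' b' ha' e
    refine cx_fix a' ha' (c.e_comm_iff.1 (?_ : c.e a' b' * c.x₃ = c.x₃ * c.e a' b')).1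
    rw [← e]
    have h1 : c.e 1 b * c.x₃ = c.x₃ * c.e 1 b := c.e_comm_iff.2 ⟨by simp, by simp⟩
    exact Commute.mul_left (Commute.mul_left hkx h1) (Commute.inv_left hkx)
  refine ⟨k, hkV, hkx, ?_, fun b hb => ?_⟩
  · obtain ⟨a', b', ha', -, e, e'⟩ := hkU cd (Or.inr (Or.inr (Or.inl rfl)))
    rcases hd with hd | hd <;> rw [hd] at e' <;> obtain ⟨h1, h2⟩ := c.e_eq_iff.1 e' <;>
      subst h1 <;> subst h2
    · exact e
    · exact absurd (hfix cd cz cz ha' e) cz_ne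
  · obtain ⟨a', b', ha', hb', e, -⟩ := hkU b hb
    obtain rfl := hfix b a' b' ha' e
    exact ⟨b', hb', e⟩

end Cfg

end CfsgLib.S4Wr
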